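import Cfsg.Agent.Lib.AltCent.Frame

/-!
# The count of the classes of involutions

If every involution of the complement is conjugate into the base, there are exactly `n` classes.
-/

set_option autoImplicit false
set_option linter.unusedSectionVars false
set_option linter.style.haveILetI false

namespace Cfsg.Agent.AltCent

open Subgroup

universe u

namespace Hyp

variable {G : Type u} [Group G] [Finite G] {n : ℕ} (h : Hyp G n)

/-- Every involution is conjugate into the complement. -/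
theorem exists_conj_mem_W {x : G} (hx : x * x = 1) : ∃ g, g * x * g⁻¹ ∈ h.W := by
  haveI : Fact (Nat.Prime 2) := ⟨Nat.prime_two⟩
  have hp : IsPGroup 2 (zpowers x) := by
    rintro ⟨y, hy⟩
    obtain ⟨k, rfl⟩ := Subgroup.mem_zpowers_iff.1 hy
    refine ⟨1, Subtype.ext ?_⟩
    show (x ^ k) ^ (2 ^ 1) = 1
    rw [← zpow_natCast, ← zpow_mul, mul_comm, zpow_mul, zpow_natCast, pow_one, sq, hx, one_zpow]
  obtain ⟨Q, hQ⟩ := hp.exists_le_sylow
  obtain ⟨P, -, hPW⟩ := h.exists_sylow_le_W (R := ⊥) IsPGroup.of_bot bot_le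
  obtain ⟨g, hg⟩ := MulAction.exists_smul_eq G Q P
  refine ⟨g, hPW ?_⟩
  rw [← hg]
  exact Subgroup.smul_mem_pointwise_smul _ (MulAut.conj g) _ (hQ (mem_zpowers x))

/-- The number of classes of involutions. -/
theorem card_involution_classes
    (hfus : ∀ y ∈ h.W, y * y = 1 → ∃ g, g * y * g⁻¹ ∈ h.E) :
    Nat.card {c : ConjClasses G // ∃ x ∈ c.carrier, orderOf x = 2} = n := by
  obtain ⟨rep, h0, hinj, hsurj⟩ := h.fusion_base
  have hord : ∀ k, orderOf (h.ι (rep k)) = 2 := fun k =>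
    orderOf_eq_prime (by rw [sq, h.ι_mul_self]) fun e => h0 k (h.ι_eq_one.1 e)
  let f : Fin n → {c : ConjClasses G // ∃ x ∈ c.carrier, orderOf x = 2} := fun k =>
    ⟨ConjClasses.mk (h.ι (rep k)), _, ConjClasses.mem_carrier_mk, hord k⟩
  have hf : Function.Bijective f := by
    refine ⟨fun k l e => hinj k l (ConjClasses.mk_eq_mk_iff_isConj.1 (congrArg Subtype.val e)), ?_⟩
    rintro ⟨c, x, hxc, hx⟩
    rw [ConjClasses.mem_carrier_iff_mk_eq] at hxc
    have hxx : x * x = 1 := by rw [← sq, ← hx, pow_orderOf_eq_one]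
    obtain ⟨g, hg⟩ := h.exists_conj_mem_W hxx
    obtain ⟨g', hg'⟩ := hfus _ hg (by
      rw [show g * x * g⁻¹ * (g * x * g⁻¹) = g * (x * x) * g⁻¹ by group, hxx, mul_one, mul_inv_cancel])
    obtain ⟨u, hu⟩ := h.mem_E.1 hg'
    have hu0 : u ≠ 0 := by
      rintro rfl
      rw [h.ι_zero, eq_comm, mul_inv_eq_one, mul_eq_left, mul_inv_eq_one, mul_eq_left] at hu
      rw [hu, orderOf_one] at hx
      exact absurd hx (by decide)
    obtain ⟨k, hk⟩ := hsurj u hu0
    refine ⟨k, Subtype.ext ?_⟩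
    show ConjClasses.mk (h.ι (rep k)) = c
    rw [← hxc]
    refine ConjClasses.mk_eq_mk_iff_isConj.2 (hk.symm.trans (isConj_iff.2 ⟨g' * g, ?_⟩).symm)
    rw [hu]
    group
  rw [← Nat.card_eq_of_bijective f hf, Nat.card_fin]

end Hyp

end Cfsg.Agent.AltCent
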