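import Cfsg.Agent.Lib.AltCent.Orbit

/-!
# The fusion in the base

The normaliser of the base induces every permutation of the `2n + 1` conjugates of `t` in the base,
and every vector is the sum of at most `n` of them in one way; so the base meets exactly `n`
classes of involutions.
-/

set_option autoImplicit false
set_option linter.unusedSectionVars false
set_option linter.style.haveILetI false
set_option linter.unusedSimpArgs false

namespace Cfsg.Agent.AltCent

open Subgroup

universe u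

/-- Two vectors with as many ones differ by a permutation. -/
theorem exists_perm_of_card {α : Type*} [Fintype α] [DecidableEq α] {u v : α → ZMod 2}
    (e : (Finset.univ.filter fun i => u i = 1).card = (Finset.univ.filter fun i => v i = 1).card) :
    ∃ p : Equiv.Perm α, u ∘ ⇑p = v := by
  let P : α → Prop := fun i => v i = 1
  let Q : α → Prop := fun i => u i = 1
  have e0 : Fintype.card {i // P i} = Fintype.card {i // Q i} := by
    rw [Fintype.card_subtype, Fintype.card_subtype]
    exact e.symm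
  let p := (Fintype.equivOfCardEq e0).extendSubtype
  refine ⟨p, funext fun i => ?_⟩
  have h01 : ∀ a b : ZMod 2, (a = 1 ↔ b = 1) → a = b := by decide
  refine h01 _ _ ⟨fun hu => ?_, fun hv => ?_⟩
  · by_contra hv
    exact (Equiv.extendSubtype_not_mem (Fintype.equivOfCardEq e0) i hv) hu
  · exact Equiv.extendSubtype_mem (Fintype.equivOfCardEq e0) i hv

theorem zmod_two_mul_add (c b : ZMod 2) : c * (b + b) = 0 := by
  rw [CharTwo.add_self_eq_zero, mul_zero]

namespace Hyp

variable {G : Type u} [Group G] [Finite G] {n : ℕ} (h : Hyp G n)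

/-- The `2n + 1` vectors. -/
def Φ (c : ZMod 2) : Option (Fin (2 * n)) → Fin (2 * n) → ZMod 2
  | none => 1
  | some a => fun i => c + (δ a : Fin (2 * n) → ZMod 2) i

/-- The number of ones of a vector of length `2n + 1`. -/
def sz (s : Option (Fin (2 * n)) → ZMod 2) : ℕ := (Finset.univ.filter fun x => s x = 1).card

/-- The sum of the chosen vectors. -/
def Ψ (c : ZMod 2) (s : Option (Fin (2 * n)) → ZMod 2) : Fin (2 * n) → ZMod 2 :=
  fun i => s none + c * (∑ a, s (some a)) + s (some i)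

theorem Ψ_add (c : ZMod 2) (s s' : Option (Fin (2 * n)) → ZMod 2) :
    Ψ c (s + s') = Ψ c s + Ψ c s' := by
  funext i
  simp only [Ψ, Pi.add_apply, Finset.sum_add_distrib]
  ring

theorem Ψ_single (c : ZMod 2) (x : Option (Fin (2 * n))) :
    Ψ c (Pi.single x 1) = Φ c x := by
  funext i
  rcases x with _ | a
  · simp [Ψ, Φ]
  · simp only [Ψ, Φ, δ]
    rw [Pi.single_eq_of_ne (by simp), zero_add]
    congr 1
    · rw [Finset.sum_eq_single a (fun b _ hb => Pi.single_eq_of_ne (by simpa using hb) 1)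
        (fun hb => absurd (Finset.mem_univ a) hb), Pi.single_eq_same, mul_one]
    · by_cases hi : i = a
      · subst hi; rw [Pi.single_eq_same, Pi.single_eq_same]
      · rw [Pi.single_eq_of_ne (by simpa using hi), Pi.single_eq_of_ne hi]

theorem sum_const_two (b : ZMod 2) : ∑ _a : Fin (2 * n), b = 0 := by
  rw [Finset.sum_const, Finset.card_univ, Fintype.card_fin, two_mul, add_nsmul,
    CharTwo.add_self_eq_zero]

theorem Ψ_zero (c : ZMod 2) : Ψ (n := n) c 0 = 0 := by
  funext i; simp [Ψ]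

theorem Ψ_one (c : ZMod 2) : Ψ (n := n) c 1 = 0 := by
  funext i
  simp only [Ψ, Pi.one_apply, sum_const_two, mul_zero, add_zero, Pi.zero_apply]
  exact CharTwo.add_self_eq_zero 1

theorem Ψ_eq {c : ZMod 2} {s s' : Option (Fin (2 * n)) → ZMod 2} (_hn : 1 ≤ n)
    (e : Ψ c s = Ψ c s') : s' = s ∨ s' = s + 1 := by
  have hΔ : Ψ c (s + s') = 0 := by rw [Ψ_add, e, vec_add_self]
  have hi : ∀ i, (s + s') (some i) = (s + s') none + c * ∑ a, (s + s') (some a) := fun i => by
    have := congrFun hΔ i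
    simp only [Ψ, Pi.zero_apply, CharTwo.add_eq_zero] at this
    exact this.symm
  have hsum : ∑ a, (s + s') (some a) = 0 := by
    rw [Finset.sum_congr rfl fun a _ => hi a, sum_const_two]
  rw [hsum, mul_zero, add_zero] at hi
  have key : ∀ x, (s + s') x = (s + s') none := fun x => by
    rcases x with _ | a
    · rfl
    · exact hi a
  rcases zmod_two_cases ((s + s') none) with e0 | e0
  · left
    funext x
    have := (key x).trans e0
    rw [Pi.add_apply, CharTwo.add_eq_zero] at this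
    exact this.symm
  · right
    funext x
    have := (key x).trans e0
    rw [Pi.add_apply] at this
    rw [Pi.add_apply, Pi.one_apply, ← this, ← add_assoc, CharTwo.add_self_eq_zero, zero_add]

theorem Ψ_surj (c : ZMod 2) (u : Fin (2 * n) → ZMod 2) : ∃ s, Ψ c s = u := by
  refine ⟨fun x => x.elim 0 (fun i => u i + c * ∑ a, u a), funext fun i => ?_⟩
  simp only [Ψ, Option.elim, Finset.sum_add_distrib, sum_const_two, add_zero, zero_add]
  rw [add_comm (u i), ← add_assoc, CharTwo.add_self_eq_zero, zero_add]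

theorem sz_add_one (s : Option (Fin (2 * n)) → ZMod 2) : sz (s + 1) + sz s = 2 * n + 1 := by
  have := Finset.card_filter_add_card_filter_not (s := (Finset.univ : Finset (Option (Fin (2 * n)))))
    (fun x => s x = 1)
  rw [Finset.card_univ, Fintype.card_option, Fintype.card_fin] at this
  refine Eq.trans ?_ this
  rw [sz, sz, add_comm]
  congr 1
  refine congrArg Finset.card (Finset.filter_congr fun x _ => ?_)
  have h01 : ∀ a : ZMod 2, a + 1 = 1 ↔ ¬ a = 1 := by decide
  exact h01 _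

theorem sz_comp (s : Option (Fin (2 * n)) → ZMod 2) (π : Equiv.Perm (Option (Fin (2 * n)))) :
    sz (s ∘ ⇑π) = sz s :=
  Finset.card_equiv π (by simp)

theorem eq_δ_of_wt_one {u : Fin (2 * n) → ZMod 2} (hu : wt u = 1) : ∃ a, u = δ a := by
  classical
  obtain ⟨a, ha⟩ := Finset.card_eq_one.1 hu
  refine ⟨a, funext fun i => ?_⟩
  have hm : u i = 1 ↔ i = a := by
    have := Finset.ext_iff.1 ha i
    simpa using this
  by_cases hi : i = a
  · rw [hm.2 hi, hi, δ_same]
  · rw [δ_ne hi]
    exact (zmod_two_cases (u i)).resolve_right (mt hm.1 hi)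

theorem wt_one_add_δ (a : Fin (2 * n)) : wt (1 + δ a) = 2 * n - 1 := by
  rw [show (δ a : Fin (2 * n) → ZMod 2) = ind ({a} : Finset _) from ?_, wt_one_add_ind,
    Finset.card_singleton]
  funext x
  by_cases hx : x = a
  · subst hx; simp [ind, δ_same]
  · simp [ind, δ_ne hx, hx]

theorem inOrbit_one : h.InOrbit 1 :=
  ⟨1, one_mem _, by rw [one_mul, inv_one, mul_one, h.t_eq]⟩

/-- The orbit of `t`. -/
theorem orbit_eq : ∃ c : ZMod 2, ∀ u, h.InOrbit u ↔ ∃ x, u = Φ c x := by
  classical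
  obtain ⟨u0, hu0, hne⟩ := h.exists_inOrbit_ne_one
  have hn := h.one_le
  have hflip : ∀ {u}, h.InOrbit u → u ≠ 1 →
      (∃ a, u = δ a) ∨ (2 ≤ n ∧ ∃ a, u = 1 + δ a) := by
    intro u hu h1
    rcases InOrbit.weight h hu h1 with e | e
    · exact Or.inl (eq_δ_of_wt_one e)
    rcases Nat.lt_or_ge n 2 with hn1 | hn2
    · exact Or.inl (eq_δ_of_wt_one (by omega))
    refine Or.inr ⟨hn2, ?_⟩
    obtain ⟨p, hp⟩ := perm_of_wt (u := 1 + δ ⟨0, by omega⟩) (v := u) (by rw [wt_one_add_δ]; omega)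
    refine ⟨p⁻¹ ⟨0, by omega⟩, ?_⟩
    rw [← hp, ← δ_comp, inv_inv]
    rfl
  have hall : ∀ (c : ZMod 2) a b, h.InOrbit (Φ c (some a)) → h.InOrbit (Φ c (some b)) := by
    intro c a b ha
    have := InOrbit.comp h ha (Equiv.swap b a)
    rwa [show Φ c (some a) ∘ ⇑(Equiv.swap b a) = Φ c (some b) from ?_] at this
    funext i
    have e := congrFun (δ_comp a (Equiv.swap b a)) i
    rw [Equiv.swap_inv, Equiv.swap_apply_right] at e
    exact congrArg (fun z => c + z) e
  rcases hflip hu0 hne with ⟨a, rfl⟩ | ⟨hn2, a, rfl⟩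
  · have hΦ : ∀ b, Φ (n := n) 0 (some b) = δ b := fun b => funext fun i => zero_add _
    refine ⟨0, fun u => ⟨fun hu => ?_, ?_⟩⟩
    · by_cases h1 : u = 1
      · exact ⟨none, h1⟩
      rcases hflip hu h1 with ⟨b, rfl⟩ | ⟨hn2, b, rfl⟩
      · exact ⟨some b, (hΦ b).symm⟩
      · exact (h.not_both hn2 hu0 hu).elim
    · rintro ⟨_ | b, rfl⟩
      · exact h.inOrbit_one
      · exact hall 0 a b ((hΦ a).symm ▸ hu0)
  · have hΦ : ∀ b, Φ (n := n) 1 (some b) = 1 + δ b := fun b => rfl
    refine ⟨1, fun u => ⟨fun hu => ?_, ?_⟩⟩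
    · by_cases h1 : u = 1
      · exact ⟨none, h1⟩
      rcases hflip hu h1 with ⟨b, rfl⟩ | ⟨-, b, rfl⟩
      · exact (h.not_both hn2 hu hu0).elim
      · exact ⟨some b, rfl⟩
    · rintro ⟨_ | b, rfl⟩
      · exact h.inOrbit_one
      · exact hall 1 a b hu0

theorem Φ_injective (c : ZMod 2) (hn : 1 ≤ n) : Function.Injective (Φ (n := n) c) := by
  have hone : ∀ a, Φ (n := n) c (some a) ≠ 1 := fun a e => by
    obtain ⟨b, hb⟩ : ∃ b, b ≠ a :=
      Fintype.exists_ne_of_one_lt_card (by rw [Fintype.card_fin]; omega) a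
    have h1 : c + (δ a : Fin (2 * n) → ZMod 2) a = 1 := congrFun e a
    have h2 : c + (δ a : Fin (2 * n) → ZMod 2) b = 1 := congrFun e b
    rw [δ_same] at h1
    rw [δ_ne hb, add_zero] at h2
    rw [h2] at h1
    exact absurd h1 (by decide)
  rintro (_ | a) (_ | b) e
  · rfl
  · exact absurd e.symm (hone b)
  · exact absurd e (hone a)
  · have h1 : c + (δ a : Fin (2 * n) → ZMod 2) a = c + (δ b : Fin (2 * n) → ZMod 2) a := congrFun e a
    by_contra hne
    rw [δ_same, δ_ne (fun hab => hne (congrArg some hab))] at h1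
    exact one_ne_zero (add_left_cancel h1)

/-- The permutations of the `2n + 1` vectors induced by the normaliser of the base. -/
def Realised (c : ZMod 2) (π : Equiv.Perm (Option (Fin (2 * n)))) : Prop :=
  ∃ k ∈ normalizer (h.E : Set G), ∀ x, k * h.ι (Φ c x) * k⁻¹ = h.ι (Φ c (π x))

theorem Realised.mul {c : ZMod 2} {π ρ : Equiv.Perm (Option (Fin (2 * n)))}
    (hπ : h.Realised c π) (hρ : h.Realised c ρ) : h.Realised c (π * ρ) := by
  obtain ⟨k, hk, ek⟩ := hπ
  obtain ⟨l, hl, el⟩ := hρ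
  refine ⟨k * l, mul_mem hk hl, fun x => ?_⟩
  rw [show k * l * h.ι (Φ c x) * (k * l)⁻¹ = k * (l * h.ι (Φ c x) * l⁻¹) * k⁻¹ by group, el, ek,
    Equiv.Perm.mul_apply]

variable {c : ZMod 2} (hc : ∀ u, h.InOrbit u ↔ ∃ x, u = Φ c x)

include hc in
theorem exists_realised {k : G} (hk : k ∈ normalizer (h.E : Set G)) :
    ∃ π, h.Realised c π ∧ ∀ x, k * h.ι (Φ c x) * k⁻¹ = h.ι (Φ c (π x)) := by
  have key : ∀ x, ∃ y, k * h.ι (Φ c x) * k⁻¹ = h.ι (Φ c y) := fun x => by
    obtain ⟨v, hv⟩ := h.conj_mem_of_normalizer hk (Φ c x)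
    obtain ⟨y, hy⟩ := (hc v).1 (InOrbit.map h ((hc _).2 ⟨x, rfl⟩) hk hv.symm)
    exact ⟨y, by rw [← hy, hv]⟩
  choose f hf using key
  have hinj : Function.Injective f := fun x y e =>
    Φ_injective c h.one_le (h.conj_inj (((hf x).trans (by rw [e])).trans (hf y).symm))
  exact ⟨Equiv.ofBijective f ((Finite.injective_iff_bijective).1 hinj), ⟨k, hk, fun x => hf x⟩,
    fun x => hf x⟩

theorem realised_some (c : ZMod 2) (p : Equiv.Perm (Fin (2 * n))) :
    h.Realised c p.optionCongr := by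
  refine ⟨h.σ p, h.mem_normalizer_of_conj fun s => ⟨_, (h.σ_conj p s).symm⟩, fun x => ?_⟩
  rw [h.σ_conj]
  rcases x with _ | a
  · rfl
  · congr 1
    funext i
    exact congrArg (fun z => c + z) (congrFun (δ_comp a p) i)

include hc in
theorem realised_all (π : Equiv.Perm (Option (Fin (2 * n)))) : h.Realised c π := by
  classical
  have hfix : ∀ ρ : Equiv.Perm (Option (Fin (2 * n))), ρ none = none → h.Realised c ρ := by
    intro ρ hρ
    have : (Equiv.removeNone ρ).optionCongr = ρ := by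
      ext1 x
      rcases x with _ | a
      · simp [hρ]
      · have hne : ρ (some a) ≠ none := fun e => by
          rw [← hρ] at e
          exact Option.some_ne_none a (ρ.injective e)
        rw [Equiv.optionCongr_apply, Option.map_some,
          Equiv.removeNone_some ρ (Option.ne_none_iff_exists'.1 hne)]
    rw [← this]
    exact h.realised_some c _
  -- an element moving `none` to any prescribed place
  obtain ⟨a0, ρ0, hρ0, hmove⟩ : ∃ a0 ρ, h.Realised c ρ ∧ ρ none = some a0 := by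
    obtain ⟨u, hu, hne⟩ := h.exists_inOrbit_ne_one
    obtain ⟨x, rfl⟩ := (hc u).1 hu
    obtain ⟨g, hg, e⟩ := hu
    rcases x with _ | a
    · exact absurd rfl hne
    obtain ⟨ρ, hρ, hρk⟩ := h.exists_realised hc (inv_mem hg)
    refine ⟨a, ρ, hρ, Φ_injective c h.one_le (h.ι_inj ?_)⟩
    rw [← hρk none, show Φ c none = (1 : Fin (2 * n) → ZMod 2) from rfl, h.t_eq, ← e]
    group
  rcases hn : π none with _ | a
  · exact hfix π hn
  set ρ := (Equiv.swap a0 a).optionCongr * ρ0 with hρdef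
  have hρ : h.Realised c ρ := Realised.mul h (h.realised_some c _) hρ0
  have hρn : ρ none = some a := by
    simp [hρdef, Equiv.Perm.mul_apply, hmove]
  have := Realised.mul h hρ (hfix (ρ⁻¹ * π) (by
    rw [Equiv.Perm.mul_apply, hn, ← hρn, Equiv.Perm.coe_inv, Equiv.symm_apply_apply]))
  rwa [mul_inv_cancel_left] at this

theorem conj_Ψ {c : ZMod 2} {k : G} {π : Equiv.Perm (Option (Fin (2 * n)))}
    (hk : ∀ x, k * h.ι (Φ c x) * k⁻¹ = h.ι (Φ c (π x))) (s : Option (Fin (2 * n)) → ZMod 2) :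
    k * h.ι (Ψ c s) * k⁻¹ = h.ι (Ψ c (s ∘ ⇑π⁻¹)) := by
  classical
  rw [← Finset.univ_sum_single s]
  induction (Finset.univ : Finset (Option (Fin (2 * n)))) using Finset.induction_on with
  | empty =>
    rw [Finset.sum_empty, show (0 : Option (Fin (2 * n)) → ZMod 2) ∘ ⇑π⁻¹ = 0 from rfl, Ψ_zero,
      h.ι_zero, mul_one, mul_inv_cancel]
  | insert x U hx ih =>
    rw [Finset.sum_insert hx, Ψ_add, h.conj_add, ih,
      show (Pi.single x (s x) + ∑ i ∈ U, Pi.single i (s i)) ∘ ⇑π⁻¹ =
        Pi.single x (s x) ∘ ⇑π⁻¹ + (∑ i ∈ U, Pi.single i (s i)) ∘ ⇑π⁻¹ from rfl, Ψ_add, h.ι_add]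
    congr 1
    rcases zmod_two_cases (s x) with e | e
    · rw [e, Pi.single_zero, show (0 : Option (Fin (2 * n)) → ZMod 2) ∘ ⇑π⁻¹ = 0 from rfl, Ψ_zero,
        h.ι_zero, mul_one, mul_inv_cancel]
    · rw [e, Ψ_single, hk, show (Pi.single x 1 : Option (Fin (2 * n)) → ZMod 2) ∘ ⇑π⁻¹ =
        Pi.single (π x) 1 from ?_, Ψ_single]
      funext y
      rw [Function.comp_apply]
      by_cases hy : y = π x
      · subst hy; rw [Equiv.Perm.coe_inv, Equiv.symm_apply_apply, Pi.single_eq_same, Pi.single_eq_same]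
      · rw [Pi.single_eq_of_ne hy, Pi.single_eq_of_ne]
        intro e'
        exact hy (by rw [← e', Equiv.Perm.coe_inv, Equiv.apply_symm_apply])

/-- The fusion of the involutions of the base. -/
theorem fusion_base : ∃ rep : Fin n → Fin (2 * n) → ZMod 2, (∀ k, rep k ≠ 0) ∧
    (∀ k l, IsConj (h.ι (rep k)) (h.ι (rep l)) → k = l) ∧
    ∀ u, u ≠ 0 → ∃ k, IsConj (h.ι u) (h.ι (rep k)) := by
  classical
  obtain ⟨c, hc⟩ := h.orbit_eq
  have hn := h.one_le
  have hsmall : ∀ u : Fin (2 * n) → ZMod 2, u ≠ 0 → ∃ s, Ψ c s = u ∧ 1 ≤ sz s ∧ sz s ≤ n := by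
    intro u hu
    obtain ⟨s, hs⟩ := Ψ_surj c u
    have hz : ∀ s', Ψ c s' = u → 1 ≤ sz s' := fun s' hs' => by
      by_contra h0
      have h0' : sz s' = 0 := by omega
      have : s' = 0 := funext fun x => (zmod_two_cases (s' x)).resolve_right fun e => by
        have := Finset.eq_empty_iff_forall_notMem.1 (Finset.card_eq_zero.1 h0') x
        simp [e] at this
      rw [this, Ψ_zero] at hs'
      exact hu hs'.symm
    have hs1 : Ψ c (s + 1) = u := by rw [Ψ_add, Ψ_one, add_zero, hs]
    have := sz_add_one s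
    by_cases hle : sz s ≤ n
    · exact ⟨s, hs, hz s hs, hle⟩
    · exact ⟨s + 1, hs1, hz _ hs1, by omega⟩
  -- vectors of each size
  have hexists : ∀ k : Fin n, ∃ s : Option (Fin (2 * n)) → ZMod 2, sz s = k.val + 1 := by
    intro k
    obtain ⟨T, -, hT⟩ := Finset.exists_subset_card_eq
      (s := (Finset.univ : Finset (Option (Fin (2 * n))))) (n := k.val + 1) (by
        rw [Finset.card_univ, Fintype.card_option, Fintype.card_fin]; have := k.2; omega)
    refine ⟨fun x => if x ∈ T then 1 else 0, ?_⟩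
    rw [sz, ← hT]
    congr 1
    ext x
    simp
  choose S hS using hexists
  refine ⟨fun k => Ψ c (S k), fun k e => ?_, fun k l e => ?_, fun u hu => ?_⟩
  · have e' : Ψ c (S k) = Ψ c 0 := by rw [Ψ_zero]; exact e
    have hsz0 : sz (0 : Option (Fin (2 * n)) → ZMod 2) = 0 := by simp [sz]
    have := hS k
    have := k.2
    have := sz_add_one (S k)
    rcases Ψ_eq hn e' with e0 | e0
    · have := congrArg sz e0
      omega
    · have := congrArg sz e0
      omega
  · obtain ⟨g, hg⟩ := isConj_iff.1 e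
    obtain ⟨m, hm, hm2⟩ := h.conj_in_normalizer hg
    obtain ⟨π, -, hπ⟩ := h.exists_realised hc (h.mem_normalizer_of_conj hm)
    have e1 := h.ι_inj ((h.conj_Ψ hπ (S k)).symm.trans hm2)
    have hk := k.2
    have hl := l.2
    have hsk := hS k
    have hsl := hS l
    rcases Ψ_eq hn e1 with e2 | e2
    · rw [e2, sz_comp] at hsl
      exact Fin.ext (by omega)
    · have := sz_add_one (S k ∘ ⇑π⁻¹)
      rw [← e2, sz_comp] at this
      omega
  · obtain ⟨s, hs, h1, h2⟩ := hsmall u hu
    refine ⟨⟨sz s - 1, by omega⟩, ?_⟩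
    obtain ⟨p, hp⟩ := exists_perm_of_card (u := s) (v := S ⟨sz s - 1, by omega⟩) (by
      show sz s = sz (S _)
      rw [hS]
      show sz s = sz s - 1 + 1
      omega)
    obtain ⟨k, hk, hkπ⟩ := h.realised_all hc p⁻¹
    refine isConj_iff.2 ⟨k, ?_⟩
    rw [← hs, h.conj_Ψ hkπ, inv_inv, hp]

end Hyp

end Cfsg.Agent.AltCent
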