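import Cfsg.Agent.Lib.AltCent.FusionStep

/-!
# Every involution of `W` is conjugate into the base

Induction on the number of points moved by the permutation part.
-/

set_option autoImplicit false
set_option linter.unusedSectionVars false
set_option linter.style.haveILetI false

namespace Cfsg.Agent.AltCent

open Subgroup

universe u

namespace Hyp

variable {G : Type u} [Group G] [Finite G] {n : ℕ} (h : Hyp G n)

theorem exists_conj_mem_E_aux : ∀ (k : ℕ) (v : Fin (2 * n) → ZMod 2) (p : Equiv.Perm (Fin (2 * n))),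
    p.support.card = k → h.ι v * h.σ p * (h.ι v * h.σ p) = 1 →
    ∃ g : G, g * (h.ι v * h.σ p) * g⁻¹ ∈ h.E := by
  intro k
  induction k using Nat.strong_induction_on with
  | _ k ih =>
    intro v p hk hy2
    by_cases hp : p = 1
    · subst hp
      exact ⟨1, v, by rw [map_one, mul_one, one_mul, inv_one, mul_one]⟩
    obtain ⟨a, ha⟩ : ∃ a, p a ≠ a := by
      by_contra! hall
      exact hp (Equiv.ext hall)
    have e : h.ι (v + v ∘ ⇑p⁻¹) * h.σ (p * p) = h.ι 0 * h.σ 1 := by
      rw [← h.mul_def, hy2, h.ι_zero, map_one, one_mul]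
    obtain ⟨ev, ep⟩ := h.uniq e
    set b := p a with hb
    have hpb : p b = a := congrArg (fun q : Equiv.Perm (Fin (2 * n)) => q a) ep
    have hab : a ≠ b := Ne.symm ha
    have hvab : v a = v b := by
      have h1 := congrFun ev b
      rw [Pi.add_apply, Function.comp_apply, Pi.zero_apply, CharTwo.add_eq_zero,
        show p⁻¹ b = a from p.symm_apply_apply a] at h1
      exact h1.symm
    have hPM : h.ι v * h.σ p ∈ h.PM a b := (h.mem_PM_iff hab).2 (Or.inr ⟨rfl, hpb⟩)
    have hcomm : Commute (h.ι v * h.σ p) (h.pt a b) := by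
      have e2 := h.conj_σ v p (Equiv.swap a b)
      rw [← Equiv.swap_apply_apply, ← hb, hpb, Equiv.swap_comm b a, Equiv.swap_inv,
        comp_swap_eq v] at e2
      simp only [if_pos hvab] at e2
      rw [show v + (v + fun _ : Fin (2 * n) => (0 : ZMod 2)) = 0 by
        rw [← add_assoc, vec_add_self, zero_add]; rfl, h.ι_zero, one_mul] at e2
      exact mul_inv_eq_iff_eq_mul.1 e2
    obtain ⟨R, L, hyR⟩ := h.exists_loc hab hPM hy2 hcomm
    obtain ⟨g, w, hg⟩ := L.exists_conj_step
      ⟨hyR, mem_centralizer_singleton_iff.2 hcomm.eq⟩ rfl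
    have hlt : (p * Equiv.swap a b).support.card < k := by
      rw [← hk]
      refine Finset.card_lt_card (Finset.ssubset_iff_of_subset ?_ |>.2 ⟨a, ?_, ?_⟩)
      · intro i hi
        rw [Equiv.Perm.mem_support, Equiv.Perm.mul_apply] at hi
        rw [Equiv.Perm.mem_support]
        intro hpi
        rcases eq_or_ne i a with rfl | h1
        · exact ha hpi
        rcases eq_or_ne i b with rfl | h2
        · exact hab (hpb.symm.trans hpi)
        exact hi (by rw [Equiv.swap_apply_of_ne_of_ne h1 h2, hpi])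
      · rw [Equiv.Perm.mem_support]; exact ha
      · rw [Equiv.Perm.mem_support, Equiv.Perm.mul_apply, Equiv.swap_apply_left, hpb]
        exact fun hne => hne rfl
    have hw2 : h.ι w * h.σ (p * Equiv.swap a b) * (h.ι w * h.σ (p * Equiv.swap a b)) = 1 := by
      rw [← hg, show g * (h.ι v * h.σ p) * g⁻¹ * (g * (h.ι v * h.σ p) * g⁻¹) =
        g * (h.ι v * h.σ p * (h.ι v * h.σ p)) * g⁻¹ by group, hy2, mul_one, mul_inv_cancel]
    obtain ⟨g', hg'⟩ := ih _ hlt w _ rfl hw2
    refine ⟨g' * g, ?_⟩
    rw [← hg] at hg'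
    rwa [show g' * g * (h.ι v * h.σ p) * (g' * g)⁻¹ =
      g' * (g * (h.ι v * h.σ p) * g⁻¹) * g'⁻¹ by group]

/-- An element of `W` of square one is conjugate into the base. -/
theorem exists_conj_mem_E {y : G} (hy : y ∈ h.W) (hy2 : y * y = 1) :
    ∃ g : G, g * y * g⁻¹ ∈ h.E := by
  obtain ⟨v, p, rfl⟩ := h.mem_W.1 hy
  exact h.exists_conj_mem_E_aux _ v p rfl hy2

end Hyp

end Cfsg.Agent.AltCent
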