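import Cfsg.Agent.Lib.AltCent.FusionLocal

/-!
# The transposition is not extremal

In the local setting at a transposition `y₁`, the group `R₁ = C_R(y₁)` is not a Sylow 2-subgroup of
`C(y₁)`.  Otherwise the extremal conjugation (Thompson transfer) moves `y₁` to an involution of even
permutation part, and comparing the two local settings shows this part is a transposition.
-/

set_option autoImplicit false
set_option linter.unusedSectionVars false
set_option linter.style.haveILetI false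

namespace Cfsg.Agent.AltCent

open Subgroup

universe u

theorem zmod_two_shift : ∀ p q s : ZMod 2, p + q = p + 1 + (q + s + s) → False := by decide

namespace Hyp

variable {G : Type u} [Group G] [Finite G] {n : ℕ} (h : Hyp G n)

/-- The elements of `W` with even permutation part. -/
def evenPart : Subgroup G where
  carrier := {x | ∃ v r, Equiv.Perm.sign r = 1 ∧ h.ι v * h.σ r = x}
  one_mem' := ⟨0, 1, map_one _, by rw [h.ι_zero, map_one, one_mul]⟩
  mul_mem' := by
    rintro _ _ ⟨u, p, hp, rfl⟩ ⟨v, r, hr, rfl⟩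
    exact ⟨_, _, by rw [map_mul, hp, hr, one_mul], (h.mul_def u v p r).symm⟩
  inv_mem' := by
    rintro _ ⟨v, p, hp, rfl⟩
    exact ⟨_, _, by rw [map_inv, hp, inv_one], (h.inv_def v p).symm⟩

theorem mk_mem_evenPart {v : Fin (2 * n) → ZMod 2} {r : Equiv.Perm (Fin (2 * n))} :
    h.ι v * h.σ r ∈ h.evenPart ↔ Equiv.Perm.sign r = 1 := by
  constructor
  · rintro ⟨v', r', hr', e⟩
    rw [← (h.uniq e).2]
    exact hr'
  · exact fun hr => ⟨v, r, hr, rfl⟩

/-- The group attached to an involution with permutation `π` and invariant vector. -/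
def flipGrp (π : Equiv.Perm (Fin (2 * n))) (hπ : ∀ i, π (π i) = i) : Subgroup G where
  carrier := {x | ∃ s q, s ∘ ⇑π = s ∧ (∀ i, q i = i ∨ q i = π i) ∧ h.ι s * h.σ q = x}
  one_mem' := ⟨0, 1, rfl, fun _ => Or.inl rfl, by rw [h.ι_zero, map_one, one_mul]⟩
  mul_mem' := by
    rintro _ _ ⟨s, q, hs, hq, rfl⟩ ⟨s', q', hs', hq', rfl⟩
    refine ⟨s + s', q * q', ?_, fun i => ?_, ?_⟩
    · funext i
      show s (π i) + s' (π i) = s i + s' i
      rw [show s (π i) = s i from congrFun hs i, show s' (π i) = s' i from congrFun hs' i]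
    · show q (q' i) = i ∨ q (q' i) = π i
      rcases hq' i with e | e <;> rw [e]
      · exact hq i
      · rcases hq (π i) with e1 | e1 <;> rw [e1]
        · exact Or.inr rfl
        · exact Or.inl (hπ i)
    · rw [h.mul_def]
      refine congrArg (fun z => h.ι (s + z) * h.σ (q * q')) ?_
      funext i
      show s' i = s' (q⁻¹ i)
      rcases hq (q⁻¹ i) with e | e <;> rw [← Equiv.Perm.mul_apply, mul_inv_cancel, Equiv.Perm.one_apply] at e
      · rw [← e]
      · conv_lhs => rw [e]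
        exact congrFun hs' _
  inv_mem' := by
    rintro _ ⟨s, q, hs, hq, rfl⟩
    refine ⟨s, q⁻¹, hs, fun i => ?_, ?_⟩
    · rcases hq (q⁻¹ i) with e | e <;> rw [← Equiv.Perm.mul_apply, mul_inv_cancel, Equiv.Perm.one_apply] at e
      · exact Or.inl e.symm
      · exact Or.inr ((congrArg π e).trans (hπ _)).symm
    · rw [h.inv_def]
      refine congrArg (fun z => h.ι z * h.σ q⁻¹) ?_
      funext i
      show s i = s (q i)
      rcases hq i with e | e <;> rw [e]
      exact (congrFun hs i).symm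

theorem isPGroup_flipGrp {π : Equiv.Perm (Fin (2 * n))} (hπ : ∀ i, π (π i) = i) :
    IsPGroup 2 (h.flipGrp π hπ) := by
  rintro ⟨x, hx⟩
  refine ⟨1, Subtype.ext ?_⟩
  show x ^ (2 ^ 1) = 1
  obtain ⟨s, q, hs, hq, rfl⟩ := hx
  have hqq : ∀ i, q (q i) = i := by
    intro i
    rcases hq i with e | e
    · rw [e, e]
    · rw [e]
      rcases hq (π i) with e1 | e1
      · have hf := q.injective (e1.trans e.symm)
        rw [hf] at e1 ⊢
        exact e1
      · rw [e1, hπ]
  have hsq : s ∘ ⇑q⁻¹ = s := by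
    funext i
    show s (q⁻¹ i) = s i
    rcases hq (q⁻¹ i) with e | e <;> rw [← Equiv.Perm.mul_apply, mul_inv_cancel, Equiv.Perm.one_apply] at e
    · rw [← e]
    · conv_rhs => rw [e]
      exact (congrFun hs _).symm
  rw [pow_one, pow_two, h.mul_def, hsq, vec_add_self, h.ι_zero, one_mul,
    show q * q = 1 from Equiv.ext hqq, map_one]

namespace Loc

variable {h} {a b : Fin (2 * n)} {R : Subgroup G} (L : h.Loc a b R)

include L

/-- `R₁` is not a Sylow 2-subgroup of the centraliser of `y₁`. -/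
theorem exists_ext : ∃ Q : Subgroup G, IsPGroup 2 Q ∧ h.R1 a b R < Q ∧
    Q ≤ centralizer ({h.pt a b} : Set G) := by
  classical
  haveI : Fact (Nat.Prime 2) := ⟨Nat.prime_two⟩
  by_contra hno
  have hmax : ∀ Q : Subgroup G, IsPGroup 2 Q → h.R1 a b R ≤ Q →
      Q ≤ centralizer ({h.pt a b} : Set G) → Q ≤ h.R1 a b R := by
    intro Q hQ hle hC
    rcases hle.eq_or_lt with e | e
    · exact e.ge
    · exact absurd ⟨Q, hQ, e, hC⟩ hno
  obtain ⟨P, hRP, hPW⟩ := h.exists_sylow_le_W L.pgroup L.R_le_W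
  have hy : h.pt a b = h.ι 0 * h.σ (Equiv.swap a b) := by rw [h.ι_zero, one_mul]; rfl
  have hsg : Equiv.Perm.sign (Equiv.swap a b) = -1 := Equiv.Perm.sign_swap L.ne
  have hy2 : h.pt a b * h.pt a b = 1 := by rw [pt, ← map_mul, Equiv.swap_mul_self, map_one]
  have hy1 : h.pt a b ≠ 1 := by
    intro e
    have e2 : h.ι 0 * h.σ (Equiv.swap a b) = h.ι 0 * h.σ 1 := by
      rw [← hy, e, h.ι_zero, map_one, one_mul]
    exact L.ne (by simpa using congrArg (fun q : Equiv.Perm (Fin (2 * n)) => q b) (h.uniq e2).2)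
  have hyP : h.pt a b ∈ (P : Subgroup G) := hRP L.pt_mem
  set T := (P : Subgroup G) ⊓ h.evenPart with hT
  have hyT : h.pt a b ∉ T := fun hm => by
    have := h.mk_mem_evenPart.1 (hy ▸ hm.2)
    rw [hsg] at this
    exact absurd this (by decide)
  have hidx : T.relIndex (P : Subgroup G) = 2 := by
    refine index_eq_two_iff.2 ⟨⟨_, hyP⟩, fun x => ?_⟩
    obtain ⟨v, r, hvr⟩ := h.mem_W.1 (hPW x.2)
    have e : (x : G) * h.pt a b = h.ι v * h.σ (r * Equiv.swap a b) := by
      rw [← hvr, pt, mul_assoc, ← map_mul]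
    have m1 : x ∈ T.subgroupOf (P : Subgroup G) ↔ Equiv.Perm.sign r = 1 := by
      rw [mem_subgroupOf, ← h.mk_mem_evenPart (v := v), hvr]
      exact ⟨fun hm => hm.2, fun hm => ⟨x.2, hm⟩⟩
    have m2 : x * ⟨_, hyP⟩ ∈ T.subgroupOf (P : Subgroup G) ↔ ¬ Equiv.Perm.sign r = 1 := by
      rw [mem_subgroupOf, hT, mem_inf]
      show (x : G) * h.pt a b ∈ (P : Subgroup G) ∧ (x : G) * h.pt a b ∈ h.evenPart ↔ _
      rw [e, h.mk_mem_evenPart, Equiv.Perm.sign_mul, hsg, ← e]
      rcases Int.units_eq_one_or (Equiv.Perm.sign r) with er | er <;> rw [er]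
      · simp
      · simp [mul_mem x.2 hyP]
    rcases Classical.em (Equiv.Perm.sign r = 1) with er | er
    · exact Or.inr ⟨m1.2 er, fun hm => m2.1 hm er⟩
    · exact Or.inl ⟨m2.2 er, fun hm => er (m1.1 hm)⟩
  obtain ⟨g, hgT, -, hgle⟩ := extremal_conj h.no_index_two P T inf_le_left hidx (h.pt a b)
    (orderOf_eq_prime (by rw [pow_two, hy2]) hy1) hyP hyT
  set y' := g * h.pt a b * g⁻¹ with hy'
  -- the two descriptions of the centraliser of `y'` in `P`
  have hX1 : ∀ x ∈ h.R1 a b R, g * x * g⁻¹ ∈ (P : Subgroup G) ⊓ centralizer ({y'} : Set G) :=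
    fun x hx => hgle ⟨x, ⟨hRP hx.1, hx.2⟩, rfl⟩
  have hX2 : ∀ Q : Subgroup G, IsPGroup 2 Q →
      (∀ x ∈ h.R1 a b R, g * x * g⁻¹ ∈ Q) → Q ≤ centralizer ({y'} : Set G) →
      ∀ q ∈ Q, g⁻¹ * q * g ∈ h.R1 a b R := by
    intro Q hQ hle hC q hq
    refine hmax (Q.map (MulAut.conj g⁻¹).toMonoidHom) (hQ.map _) ?_ ?_ ⟨q, hq, ?_⟩
    · intro x hx
      refine ⟨_, hle x hx, ?_⟩
      show g⁻¹ * (g * x * g⁻¹) * g⁻¹⁻¹ = x
      group
    · rintro _ ⟨z, hz, rfl⟩
      refine mem_centralizer_singleton_iff.2 ?_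
      have := mem_centralizer_singleton_iff.1 (hC hz)
      show g⁻¹ * z * g⁻¹⁻¹ * h.pt a b = h.pt a b * (g⁻¹ * z * g⁻¹⁻¹)
      calc g⁻¹ * z * g⁻¹⁻¹ * h.pt a b = g⁻¹ * (z * y') * g := by rw [hy']; group
        _ = _ := by rw [this, hy']; group
    · show g⁻¹ * q * g⁻¹⁻¹ = g⁻¹ * q * g
      rw [inv_inv]
  have hXp : IsPGroup 2 ((P : Subgroup G) ⊓ centralizer ({y'} : Set G) : Subgroup G) :=
    P.2.to_le inf_le_left
  have hX : ∀ q ∈ (P : Subgroup G) ⊓ centralizer ({y'} : Set G), g⁻¹ * q * g ∈ h.R1 a b R :=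
    hX2 _ hXp hX1 inf_le_right
  obtain ⟨u, π, hsπ, huπ⟩ := hgT.2
  have hy'2 : y' * y' = 1 := by
    rw [hy', show g * h.pt a b * g⁻¹ * (g * h.pt a b * g⁻¹) = g * (h.pt a b * h.pt a b) * g⁻¹ by group,
      hy2, mul_one, mul_inv_cancel]
  have h2 : h.ι (u + u ∘ ⇑π⁻¹) * h.σ (π * π) = h.ι 0 * h.σ 1 := by
    rw [← h.mul_def, h.ι_zero, map_one, one_mul, huπ, hy'2]
  have hππ : ∀ i, π (π i) = i := fun i => congrArg (fun q : Equiv.Perm (Fin (2 * n)) => q i) (h.uniq h2).2
  have hπinv : π⁻¹ = π := inv_eq_of_mul_eq_one_right (h.uniq h2).2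
  have huinv : ∀ i, u (π i) = u i := fun i => by
    have := congrFun (h.uniq h2).1 i
    rw [hπinv, Pi.add_apply, Function.comp_apply, Pi.zero_apply, CharTwo.add_eq_zero] at this
    exact this.symm
  -- vectors commuting with `y'`
  have hcom : ∀ z : Fin (2 * n) → ZMod 2, (∀ i, z (π i) = z i) →
      h.ι z ∈ (P : Subgroup G) ⊓ centralizer ({y'} : Set G) := by
    intro z hz
    refine ⟨hRP (L.E_le (h.ι_mem_E z)), mem_centralizer_singleton_iff.2 ?_⟩
    have e := h.conj_ι u z π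
    rw [huπ, hπinv, show z ∘ ⇑π = z from funext hz] at e
    exact (mul_inv_eq_iff_eq_mul.1 e).symm
  by_cases hπ1 : π = 1
  · have hEX : ∀ z, g⁻¹ * h.ι z * g ∈ h.R1 a b R := fun z => hX _ (hcom z fun i => by rw [hπ1]; rfl)
    have hW : ∀ z, g⁻¹ * h.ι z * g⁻¹⁻¹ ∈ h.W := fun z => by
      rw [inv_inv]; exact L.R_le_W (hEX z).1
    have hle : h.conjE g⁻¹ ≤ h.E := by
      intro x hx
      obtain ⟨z, rfl⟩ := h.mem_conjE.1 hx
      exact h.weakly_closed hW z
    have heq := eq_of_le_of_card_ge hle (by rw [h.card_E, h.card_conjE])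
    have hm : h.ι (δ a) ∈ h.conjE g⁻¹ := heq ▸ h.ι_mem_E _
    obtain ⟨z, hz⟩ := h.mem_conjE.1 hm
    rw [inv_inv] at hz
    exact L.e_not_mem_R1 (hz ▸ hEX z)
  -- one point of every moved pair
  set J : Fin (2 * n) → ZMod 2 := fun i => if i < π i then 1 else 0 with hJ
  set m : Fin (2 * n) → ZMod 2 := fun i => if π i = i then 0 else 1 with hm
  have hJπ : ∀ i, J (π i) = J i + m i := by
    intro i
    simp only [hJ, hm, hππ]
    rcases lt_trichotomy i (π i) with hlt | heq | hgt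
    · rw [if_neg (not_lt_of_gt hlt), if_pos hlt, if_neg hlt.ne']
      exact (CharTwo.add_self_eq_zero 1).symm
    · rw [if_pos heq.symm, if_neg (not_lt_of_ge heq.le), if_neg (not_lt_of_ge heq.ge), add_zero]
    · rw [if_pos hgt, if_neg (not_lt_of_gt hgt), if_neg hgt.ne, zero_add]
  have hm0 : m ≠ 0 := by
    intro e
    refine hπ1 (Equiv.ext fun i => ?_)
    have := congrFun e i
    simp only [hm, Pi.zero_apply] at this
    by_contra hne
    rw [if_neg (show ¬ π i = i from hne)] at this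
    exact one_ne_zero this
  have hJy : h.ι J * y' * (h.ι J)⁻¹ = h.ι m * y' := by
    rw [← huπ, h.conj_by_ι, ← mul_assoc (h.ι m), ← h.ι_add, hπinv]
    refine congrArg (fun z => h.ι z * h.σ π) (funext fun i => ?_)
    simp only [Pi.add_apply, Function.comp_apply, hJπ i]
    rw [show J i + u i + (J i + m i) = m i + u i + (J i + J i) by ring, CharTwo.add_self_eq_zero,
      add_zero]
  -- elements commuting with `y'`
  have hcent : ∀ w r, h.ι w * h.σ r ∈ centralizer ({y'} : Set G) →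
      (∀ i, r (π i) = π (r i)) ∧ ∀ i, w (π i) = w i + u i + u (r⁻¹ i) := by
    intro w r hx
    have e := mem_centralizer_singleton_iff.1 hx
    rw [← huπ, h.mul_def, h.mul_def] at e
    obtain ⟨e1, e2⟩ := h.uniq e
    refine ⟨fun i => congrArg (fun q : Equiv.Perm (Fin (2 * n)) => q i) e2, fun i => ?_⟩
    have := congrFun e1 i
    rw [hπinv] at this
    simp only [Pi.add_apply, Function.comp_apply] at this
    calc w (π i) = u i + (u i + w (π i)) := by rw [← add_assoc, CharTwo.add_self_eq_zero, zero_add]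
      _ = u i + (w i + u (r⁻¹ i)) := by rw [← this]
      _ = _ := by abel
  have hrm : ∀ r : Equiv.Perm (Fin (2 * n)), (∀ i, r (π i) = π (r i)) → ∀ i, m (r⁻¹ i) = m i := by
    intro r hr i
    have e := hr (r⁻¹ i)
    rw [← Equiv.Perm.mul_apply r r⁻¹, mul_inv_cancel, Equiv.Perm.one_apply] at e
    simp only [hm]
    refine if_congr ⟨fun e1 => ?_, fun e1 => ?_⟩ rfl rfl
    · rw [e1, ← Equiv.Perm.mul_apply, mul_inv_cancel, Equiv.Perm.one_apply] at e
      exact e.symm
    · refine r.injective ?_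
      rw [e, e1, ← Equiv.Perm.mul_apply, mul_inv_cancel, Equiv.Perm.one_apply]
  set X := (P : Subgroup G) ⊓ centralizer ({y'} : Set G) with hXdef
  have hJn : h.ι J ∈ normalizer (X : Set G) := by
    refine mem_normalizer_of_conj_mem fun x hx => ?_
    obtain ⟨w, r, rfl⟩ := h.mem_W.1 (hPW hx.1)
    obtain ⟨hr, -⟩ := hcent w r hx.2
    rw [h.conj_by_ι, show J + w + J ∘ ⇑r⁻¹ = (J + J ∘ ⇑r⁻¹) + w by abel, h.ι_add, mul_assoc]
    refine mul_mem (hcom _ fun i => ?_) hx
    simp only [Pi.add_apply, Function.comp_apply]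
    have e := hr (r⁻¹ i)
    rw [← Equiv.Perm.mul_apply r r⁻¹, mul_inv_cancel, Equiv.Perm.one_apply] at e
    have e3 : r⁻¹ (π i) = π (r⁻¹ i) := by
      refine r.injective ?_
      rw [← Equiv.Perm.mul_apply r r⁻¹, mul_inv_cancel, Equiv.Perm.one_apply, e]
    rw [hJπ, e3, hJπ, hrm r hr i]
    rw [show J i + m i + (J (r⁻¹ i) + m i) = J i + J (r⁻¹ i) + (m i + m i) by ring,
      CharTwo.add_self_eq_zero, add_zero]
  have hJX : h.ι J ∉ X := fun hmem => by
    have e := mem_centralizer_singleton_iff.1 hmem.2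
    rw [e, mul_inv_cancel_right] at hJy
    exact hm0 (h.ι_eq_one.1 (mul_eq_right.1 hJy.symm))
  -- transport to the normaliser of `R₁`
  have hnorm : g⁻¹ * h.ι J * g ∈ normalizer (h.R1 a b R : Set G) := by
    refine mem_normalizer_of_conj_mem fun x hx => ?_
    have h1 := hX _ ((mem_normalizer_iff.1 hJn _).1 (hX1 x hx))
    have e : g⁻¹ * (h.ι J * (g * x * g⁻¹) * (h.ι J)⁻¹) * g =
        g⁻¹ * h.ι J * g * x * (g⁻¹ * h.ι J * g)⁻¹ := by group
    rwa [e] at h1
  have hq2 : g⁻¹ * h.ι J * g * (g⁻¹ * h.ι J * g) = 1 := by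
    rw [show g⁻¹ * h.ι J * g * (g⁻¹ * h.ι J * g) = g⁻¹ * (h.ι J * h.ι J) * g by group,
      h.ι_mul_self, mul_one, inv_mul_cancel]
  obtain ⟨k, hkN, hk⟩ := L.exists_conj_le (isPGroup_zpowers_of_sq hq2) (zpowers_le.2 hnorm)
  set f := k * g⁻¹ with hf
  have hfJ : f * h.ι J * f⁻¹ ∈ R := by
    have := hk _ (mem_zpowers _)
    rwa [show k * (g⁻¹ * h.ι J * g) * k⁻¹ = f * h.ι J * f⁻¹ by rw [hf]; group] at this
  have hfX : ∀ x ∈ X, f * x * f⁻¹ ∈ h.R1 a b R := fun x hx => by
    have := (mem_normalizer_iff.1 hkN _).1 (hX x hx)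
    rwa [show k * (g⁻¹ * x * g) * k⁻¹ = f * x * f⁻¹ by rw [hf]; group] at this
  have hfX' : ∀ x, f * x * f⁻¹ ∈ h.R1 a b R → x ∈ X := fun x hx => by
    rw [show f * x * f⁻¹ = k * (g⁻¹ * x * g) * k⁻¹ by rw [hf]; group] at hx
    have := hX1 _ ((mem_normalizer_iff.1 hkN _).2 hx)
    rwa [show g * (g⁻¹ * x * g) * g⁻¹ = x by group] at this
  have hfJn : f * h.ι J * f⁻¹ ∉ h.R1 a b R := fun hm' => hJX (hfX' _ hm')
  set c' := f⁻¹ * h.pc a b * f with hc'
  set z := f⁻¹ * h.ι (δ a) * f with hz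
  have hx1 : (h.ι J)⁻¹ * (h.ι J * (h.ι J * z)) ∈ X := by
    rw [inv_mul_cancel_left]
    refine hfX' _ ?_
    have := L.mul_e_mem_R1 hfJ hfJn
    rwa [show f * (h.ι J * z) * f⁻¹ = f * h.ι J * f⁻¹ * h.ι (δ a) by rw [hz]; group]
  rw [inv_mul_cancel_left] at hx1
  obtain ⟨w, r0, hwr⟩ := h.mem_W.1 (hPW hx1.1)
  obtain ⟨hr0, hw⟩ := hcent w r0 (hwr ▸ hx1.2)
  have hzeq : z = h.ι (J + w) * h.σ r0 := by
    rw [h.ι_add, mul_assoc, hwr, ← mul_assoc, h.ι_mul_self, one_mul]
  have hzconj : ∀ x ∈ X, z * x * z⁻¹ = x ∨ z * x * z⁻¹ = c' * x := fun x hx => by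
    have hfx := hfX x hx
    have e1 : f⁻¹ * (h.ι (δ a) * (f * x * f⁻¹) * (h.ι (δ a))⁻¹) * f = z * x * z⁻¹ := by
      rw [hz]; group
    rcases L.conj_e hfx.1 with e | e <;> rw [e] at e1
    · exact Or.inl (e1.symm.trans (by group))
    · exact Or.inr (e1.symm.trans (by rw [hc']; group))
  have hy'X : y' ∈ X := ⟨hgT.1, mem_centralizer_singleton_iff.2 rfl⟩
  have hzy : z * y' * z⁻¹ = h.ι m * y' := by
    have hxy := mem_centralizer_singleton_iff.1 hx1.2
    calc z * y' * z⁻¹ = h.ι J * ((h.ι J * z) * y' * (h.ι J * z)⁻¹) * (h.ι J)⁻¹ := by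
          conv_lhs => rw [show z = h.ι J * (h.ι J * z) by rw [← mul_assoc, h.ι_mul_self, one_mul]]
          group
      _ = _ := by rw [hxy, mul_inv_cancel_right, hJy]
  have hcm : c' = h.ι m := by
    rcases hzconj _ hy'X with e | e <;> rw [hzy] at e
    · exact absurd (h.ι_eq_one.1 (mul_eq_right.1 e)) hm0
    · exact (mul_right_cancel e).symm
  -- a moved pair
  obtain ⟨j, hj⟩ : ∃ j, π j ≠ j := by
    by_contra! hall
    exact hπ1 (Equiv.ext hall)
  set sw := Equiv.swap j (π j) with hsw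
  have hflip : h.σ sw ∈ h.flipGrp π hππ := by
    refine ⟨0, sw, rfl, fun i => ?_, by rw [h.ι_zero, one_mul]⟩
    rcases eq_or_ne i j with rfl | h1
    · exact Or.inr (Equiv.swap_apply_left _ _)
    rcases eq_or_ne i (π j) with rfl | h2'
    · exact Or.inr ((Equiv.swap_apply_right _ _).trans (hππ j).symm)
    · exact Or.inl (Equiv.swap_apply_of_ne_of_ne h1 h2')
  have hτX : h.σ sw ∈ X := by
    have hMC : h.flipGrp π hππ ≤ centralizer ({y'} : Set G) := by
      rintro _ ⟨s, q, hs, hq, rfl⟩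
      refine mem_centralizer_singleton_iff.2 ?_
      rw [← huπ, h.mul_def, h.mul_def, hπinv, hs]
      have hqπ : q * π = π * q := by
        refine Equiv.ext fun i => ?_
        show q (π i) = π (q i)
        rcases hq i with e | e <;> rcases hq (π i) with e1 | e1 <;> rw [e, e1]
        · rw [hππ]
          exact q.injective (e1.trans (by rw [hππ]; exact e.symm)) |>.symm
        · rw [hππ]
          exact (q.injective (e.trans e1.symm)).symm
      have huq : u ∘ ⇑q⁻¹ = u := by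
        funext i
        show u (q⁻¹ i) = u i
        rcases hq (q⁻¹ i) with e | e <;> rw [← Equiv.Perm.mul_apply, mul_inv_cancel, Equiv.Perm.one_apply] at e
        · rw [← e]
        · conv_rhs => rw [e]
          exact (huinv _).symm
      rw [huq, add_comm, hqπ]
    have hXn : X ≤ normalizer (h.flipGrp π hππ : Set G) := by
      intro x hx
      obtain ⟨v, r, rfl⟩ := h.mem_W.1 (hPW hx.1)
      obtain ⟨hr, hv⟩ := hcent v r hx.2
      refine mem_normalizer_of_conj_mem ?_
      rintro _ ⟨s, q, hs, hq, rfl⟩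
      rw [show h.ι v * h.σ r * (h.ι s * h.σ q) * (h.ι v * h.σ r)⁻¹ =
        h.ι v * h.σ r * h.ι s * (h.ι v * h.σ r)⁻¹ * (h.ι v * h.σ r * h.σ q * (h.ι v * h.σ r)⁻¹) by group,
        h.conj_ι, h.conj_σ, ← mul_assoc, ← h.ι_add]
      have hri : ∀ i, r⁻¹ (π i) = π (r⁻¹ i) := fun i => by
        refine r.injective ?_
        rw [hr, ← Equiv.Perm.mul_apply r r⁻¹, ← Equiv.Perm.mul_apply r r⁻¹, mul_inv_cancel]
        rfl
      have hq' : ∀ i, (r * q * r⁻¹) i = i ∨ (r * q * r⁻¹) i = π i := by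
        intro i
        show r (q (r⁻¹ i)) = i ∨ r (q (r⁻¹ i)) = π i
        rcases hq (r⁻¹ i) with e | e <;> rw [e]
        · exact Or.inl (r.apply_symm_apply i)
        · exact Or.inr ((hr _).trans (congrArg π (r.apply_symm_apply i)))
      have hqi : ∀ i, (r * q * r⁻¹)⁻¹ i = i ∨ (r * q * r⁻¹)⁻¹ i = π i := fun i => by
        rcases hq' ((r * q * r⁻¹)⁻¹ i) with e | e <;>
          rw [← Equiv.Perm.mul_apply, mul_inv_cancel, Equiv.Perm.one_apply] at e
        · exact Or.inl e.symm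
        · exact Or.inr ((congrArg π e).trans (hππ _)).symm
      refine ⟨_, _, ?_, hq', rfl⟩
      funext i
      simp only [Function.comp_apply, Pi.add_apply]
      rw [hri, show s (π (r⁻¹ i)) = s (r⁻¹ i) from congrFun hs _]
      refine congrArg (s (r⁻¹ i) + ·) ?_
      rcases hqi i with e | e <;> rcases hqi (π i) with e1 | e1 <;> rw [e, e1]
      · rw [CharTwo.add_self_eq_zero, CharTwo.add_self_eq_zero]
      · have := ((r * q * r⁻¹)⁻¹).injective (e1.trans (by rw [hππ]; exact e.symm))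
        rw [hππ, this]
      · have := ((r * q * r⁻¹)⁻¹).injective (e.trans e1.symm)
        rw [← this]
      · rw [hππ]; exact add_comm _ _
    have hM := h.isPGroup_flipGrp hππ
    have hsup := IsPGroup.to_sup_of_normal_right' hXp hM hXn
    have := hX2 _ hsup (fun x hx => mem_sup_left (hX1 x hx)) (sup_le inf_le_right hMC) _
      (mem_sup_right hflip)
    have h3 := hX1 _ this
    rwa [show g * (g⁻¹ * h.σ sw * g) * g⁻¹ = h.σ sw by group] at h3
  have hconj := h.conj_σ (J + w) r0 sw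
  rw [← hzeq] at hconj
  have hperm : r0 * sw * r0⁻¹ = sw := by
    rcases hzconj _ hτX with e | e
    · rw [hconj, ← one_mul (h.σ sw), ← h.ι_zero] at e
      exact (h.uniq e).2
    · rw [hconj, hcm] at e
      exact (h.uniq e).2
  have hpair : r0⁻¹ j = j ∨ r0⁻¹ j = π j := by
    have e : r0 * sw * r0⁻¹ = Equiv.swap (r0 j) (r0 (π j)) := by rw [hsw, ← Equiv.swap_apply_apply]
    rw [hperm] at e
    have e2 := congrArg (fun q : Equiv.Perm (Fin (2 * n)) => q j) e
    simp only [hsw, Equiv.swap_apply_left] at e2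
    rcases eq_or_ne (r0 j) j with h1 | h1
    · exact Or.inl (r0.injective (by rw [h1]; exact r0.apply_symm_apply j))
    rcases eq_or_ne (r0 (π j)) j with h1' | h1'
    · exact Or.inr (r0.injective (by rw [h1']; exact r0.apply_symm_apply j))
    · rw [Equiv.swap_apply_of_ne_of_ne h1.symm h1'.symm] at e2
      exact absurd e2 hj
  have hu : u (r0⁻¹ j) = u j := by
    rcases hpair with e | e <;> rw [e]
    exact huinv j
  have hne : (J + w) j ≠ (J + w) (π j) := by
    intro e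
    simp only [Pi.add_apply, hJπ, hw, hu] at e
    simp only [hm, if_neg hj] at e
    exact zmod_two_shift _ _ _ e
  rw [hperm] at hconj
  have hvec : J + w + (J + w) ∘ ⇑sw⁻¹ = δ j + δ (π j) := by
    rw [hsw, Equiv.swap_inv, comp_swap_eq (J + w)]
    simp only [if_neg hne]
    rw [← add_assoc, vec_add_self, zero_add]
  rw [hvec] at hconj
  have hmj : δ j + δ (π j) = m := by
    rcases hzconj _ hτX with e | e
    · rw [hconj] at e
      exact absurd (h.ι_eq_one.1 (mul_eq_right.1 e)) (δ_add_ne_zero (Ne.symm hj))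
    · rw [hconj, hcm] at e
      exact (h.uniq e).1
  have hπsw : π = sw := by
    refine Equiv.ext fun i => ?_
    rcases eq_or_ne i j with rfl | h1
    · rw [hsw, Equiv.swap_apply_left]
    rcases eq_or_ne i (π j) with rfl | h2'
    · rw [hsw, Equiv.swap_apply_right, hππ]
    · rw [hsw, Equiv.swap_apply_of_ne_of_ne h1 h2']
      have e := congrFun hmj i
      rw [Pi.add_apply, δ_ne h1, δ_ne h2', add_zero] at e
      by_contra hne'
      simp only [hm, if_neg hne'] at e
      exact zero_ne_one e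
  rw [hπsw, hsw, Equiv.Perm.sign_swap (Ne.symm hj)] at hsπ
  exact absurd hsπ (by decide)

end Loc

end Hyp

end Cfsg.Agent.AltCent
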