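import Cfsg.Agent.Lib.AltCent.Transfer
import Cfsg.Agent.Lib.Transfer.Frobenius
import Cfsg.Agent.Techniques.Sylow

/-!
# Fusion into the base: the local setting at a transposition

For points `a ≠ b` let `M` be the centraliser in `W` of `c = ι (δ a + δ b)` and `R` a Sylow 2-subgroup
of `M` containing the base and `y₁ = σ (a b)`.  Then `N(R) ≤ C(t)`, and `R` is a Sylow 2-subgroup of
the normaliser of `R₁ = C_R(y₁)`.
-/

set_option autoImplicit false
set_option linter.unusedSectionVars false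
set_option linter.style.haveILetI false

namespace Cfsg.Agent.AltCent

open Subgroup

universe u

/-- An involution generates a 2-group. -/
theorem isPGroup_zpowers_of_sq {G : Type u} [Group G] {x : G} (hx : x * x = 1) :
    IsPGroup 2 (zpowers x) := by
  rintro ⟨z, hz⟩
  obtain ⟨k, rfl⟩ := mem_zpowers_iff.1 hz
  refine ⟨1, Subtype.ext ?_⟩
  show (x ^ k) ^ (2 ^ 1) = 1
  rw [pow_one, pow_two, ← (Commute.refl x).mul_zpow, hx, one_zpow]

/-- In a finite group, an element conjugating a subgroup into itself normalises it. -/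
theorem mem_normalizer_of_conj_mem {G : Type u} [Group G] [Finite G] {H : Subgroup G} {x : G}
    (hx : ∀ y ∈ H, x * y * x⁻¹ ∈ H) : x ∈ normalizer (H : Set G) := by
  rw [mem_normalizer_iff_conj_image_eq]
  have e : H.map (MulAut.conj x).toMonoidHom = H :=
    eq_of_le_of_card_ge (by rintro _ ⟨y, hy, rfl⟩; exact hx y hy)
      (card_map_of_injective (MulAut.conj x).injective).ge
  conv_rhs => rw [← e]
  rw [coe_map]
  rfl

namespace Hyp

variable {G : Type u} [Group G] [Finite G] {n : ℕ} (h : Hyp G n)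

/-- The involution `ι (δ a + δ b)`. -/
def pc (a b : Fin (2 * n)) : G := h.ι (δ a + δ b)

/-- The transposition as an element of the complement. -/
def pt (a b : Fin (2 * n)) : G := h.σ (Equiv.swap a b)

/-- The centraliser of `pc a b` in `W`. -/
def PM (a b : Fin (2 * n)) : Subgroup G := h.W ⊓ centralizer ({h.pc a b} : Set G)

theorem conj_mk (v : Fin (2 * n) → ZMod 2) (p r : Equiv.Perm (Fin (2 * n))) :
    h.σ r * (h.ι v * h.σ p) * (h.σ r)⁻¹ = h.ι (v ∘ ⇑r⁻¹) * h.σ (r * p * r⁻¹) := by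
  rw [map_mul, map_mul, map_inv, show h.σ r * (h.ι v * h.σ p) * (h.σ r)⁻¹ =
    h.σ r * h.ι v * (h.σ r)⁻¹ * (h.σ r * h.σ p * (h.σ r)⁻¹) by group, h.σ_conj]

theorem conj_by_ι (u v : Fin (2 * n) → ZMod 2) (p : Equiv.Perm (Fin (2 * n))) :
    h.ι u * (h.ι v * h.σ p) * (h.ι u)⁻¹ = h.ι (u + v + u ∘ ⇑p⁻¹) * h.σ p := by
  rw [h.ι_inv, h.ι_add, h.ι_add, mul_assoc, mul_assoc, h.conj, ← mul_assoc, ← mul_assoc]

theorem conj_σ (v : Fin (2 * n) → ZMod 2) (p q : Equiv.Perm (Fin (2 * n))) :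
    h.ι v * h.σ p * h.σ q * (h.ι v * h.σ p)⁻¹ =
      h.ι (v + v ∘ ⇑(p * q * p⁻¹)⁻¹) * h.σ (p * q * p⁻¹) := by
  have e : h.σ (p * q * p⁻¹) * h.ι v = h.ι (v ∘ ⇑(p * q * p⁻¹)⁻¹) * h.σ (p * q * p⁻¹) := h.conj _ _
  rw [h.ι_add, mul_assoc (h.ι v) (h.ι (v ∘ ⇑(p * q * p⁻¹)⁻¹)), ← e, map_mul, map_mul, map_inv,
    mul_inv_rev, h.ι_inv]
  simp only [mul_assoc]

theorem pow_form (v : Fin (2 * n) → ZMod 2) (p : Equiv.Perm (Fin (2 * n))) (k : ℕ) :
    ∃ u, (h.ι v * h.σ p) ^ k = h.ι u * h.σ (p ^ k) := by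
  induction k with
  | zero => exact ⟨0, by rw [pow_zero, pow_zero, h.ι_zero, map_one, one_mul]⟩
  | succ k ih =>
    obtain ⟨u, hu⟩ := ih
    exact ⟨_, by rw [pow_succ, hu, h.mul_def, ← pow_succ]⟩

theorem isPGroup_perms {R : Subgroup G} (hR : IsPGroup 2 R) : IsPGroup 2 (h.perms R) := by
  rintro ⟨r, v, hv⟩
  obtain ⟨k, hk⟩ := hR ⟨_, hv⟩
  obtain ⟨u, hu⟩ := h.pow_form v r k.succ
  refine ⟨k, Subtype.ext ?_⟩
  obtain ⟨u', hu'⟩ := h.pow_form v r (2 ^ k)
  have e : h.ι u' * h.σ (r ^ 2 ^ k) = h.ι 0 * h.σ 1 := by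
    rw [← hu', h.ι_zero, map_one, one_mul]
    exact congrArg Subtype.val hk
  simpa using (h.uniq e).2

theorem mem_PM_iff {a b : Fin (2 * n)} (hab : a ≠ b) {u : Fin (2 * n) → ZMod 2}
    {r : Equiv.Perm (Fin (2 * n))} :
    h.ι u * h.σ r ∈ h.PM a b ↔ (r a = a ∧ r b = b ∨ r a = b ∧ r b = a) := by
  have e : h.ι u * h.σ r * h.pc a b * (h.ι u * h.σ r)⁻¹ = h.ι (δ (r a) + δ (r b)) := by
    rw [pc, h.conj_ι, ← δ_comp, ← δ_comp]
    rfl
  constructor
  · intro hm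
    have h2 := mem_centralizer_singleton_iff.1 hm.2
    rw [h2, mul_inv_cancel_right, pc] at e
    rcases δ_pair_eq hab (fun e' => hab (r.injective e')) (h.ι_inj e) with ⟨h1, h3⟩ | ⟨h1, h3⟩
    · exact Or.inl ⟨h1.symm, h3.symm⟩
    · exact Or.inr ⟨h3.symm, h1.symm⟩
  · intro hr
    refine ⟨h.mk_mem_W u r, mem_centralizer_singleton_iff.2 ?_⟩
    have e2 : h.ι (δ (r a) + δ (r b)) = h.pc a b := by
      rcases hr with ⟨h1, h2⟩ | ⟨h1, h2⟩
      · rw [h1, h2, pc]
      · rw [h1, h2, pc, add_comm]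
    rw [e2] at e
    calc h.ι u * h.σ r * h.pc a b = (h.ι u * h.σ r * h.pc a b * (h.ι u * h.σ r)⁻¹) * (h.ι u * h.σ r) := by
          group
      _ = h.pc a b * (h.ι u * h.σ r) := by rw [e]

/-- A Sylow 2-subgroup of `PM a b` containing the base and the transposition. -/
structure Loc (a b : Fin (2 * n)) (R : Subgroup G) : Prop where
  ne : a ≠ b
  le_PM : R ≤ h.PM a b
  pgroup : IsPGroup 2 R
  E_le : h.E ≤ R
  pt_mem : h.pt a b ∈ R
  max : ∀ Q : Subgroup G, Q ≤ h.PM a b → IsPGroup 2 Q → R ≤ Q → Q ≤ R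

/-- The part of `R` commuting with the transposition. -/
def R1 (a b : Fin (2 * n)) (R : Subgroup G) : Subgroup G := R ⊓ centralizer ({h.pt a b} : Set G)

theorem ι_mem_PM {a b : Fin (2 * n)} (hab : a ≠ b) (u : Fin (2 * n) → ZMod 2) : h.ι u ∈ h.PM a b := by
  have := (h.mem_PM_iff hab (u := u) (r := 1)).2 (Or.inl ⟨rfl, rfl⟩)
  rwa [map_one, mul_one] at this

theorem mk_mem_PM_swap {a b : Fin (2 * n)} (hab : a ≠ b) : h.pt a b ∈ h.PM a b := by
  have := (h.mem_PM_iff hab (u := 0) (r := Equiv.swap a b)).2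
    (Or.inr ⟨Equiv.swap_apply_left a b, Equiv.swap_apply_right a b⟩)
  rwa [h.ι_zero, one_mul] at this

/-- There is a local setting containing a given involution that moves `a` to `b`. -/
theorem exists_loc {a b : Fin (2 * n)} (hab : a ≠ b) {y : G} (hy : y ∈ h.PM a b) (hy2 : y * y = 1)
    (hc : Commute y (h.pt a b)) : ∃ R : Subgroup G, h.Loc a b R ∧ y ∈ R := by
  haveI : Fact (Nat.Prime 2) := ⟨Nat.prime_two⟩
  have hEW : ∀ x ∈ h.W, zpowers x ≤ normalizer (h.E : Set G) := by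
    intro x hx
    rw [zpowers_le]
    obtain ⟨v, p, rfl⟩ := h.mem_W.1 hx
    refine mem_normalizer_iff.2 fun e => ⟨?_, ?_⟩
    · rintro ⟨u, rfl⟩
      exact ⟨_, (h.conj_ι v u p).symm⟩
    · rintro ⟨u, hu⟩
      refine ⟨u ∘ ⇑p, ?_⟩
      have := h.conj_ι v (u ∘ ⇑p) p
      rw [show (u ∘ ⇑p) ∘ ⇑p⁻¹ = u from funext fun i => by simp] at this
      exact mul_left_cancel (mul_right_cancel (this.trans hu))
  have hz : ∀ x : G, x * x = 1 → IsPGroup 2 (zpowers x) := fun x hx => isPGroup_zpowers_of_sq hx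
  have hEp : IsPGroup 2 h.E := IsPGroup.of_card (n := 2 * n) h.card_E
  set L1 := zpowers y ⊔ h.E with hL1def
  have hL1 : IsPGroup 2 L1 := IsPGroup.to_sup_of_normal_right' (hz y hy2) hEp (hEW y hy.1)
  have hpt2 : h.pt a b * h.pt a b = 1 := by rw [pt, ← map_mul, Equiv.swap_mul_self, map_one]
  have hnorm : zpowers (h.pt a b) ≤ normalizer (L1 : Set G) := by
    rw [zpowers_le, mem_normalizer_iff_conj_image_eq]
    show ((L1.map (MulAut.conj (h.pt a b)).toMonoidHom : Subgroup G) : Set G) = (L1 : Set G)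
    refine congrArg _ ?_
    rw [hL1def, Subgroup.map_sup, MonoidHom.map_zpowers]
    have e1 : (MulAut.conj (h.pt a b)).toMonoidHom y = y := by
      show h.pt a b * y * (h.pt a b)⁻¹ = y
      rw [← hc.eq, mul_inv_cancel_right]
    rw [e1]
    refine congrArg _ (eq_of_le_of_card_ge ?_ (card_map_of_injective (MulAut.conj _).injective).ge)
    rintro _ ⟨_, ⟨u, rfl⟩, rfl⟩
    exact ⟨_, (h.σ_conj (Equiv.swap a b) u).symm⟩
  have hL : IsPGroup 2 (zpowers (h.pt a b) ⊔ L1 : Subgroup G) :=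
    IsPGroup.to_sup_of_normal_right' (hz _ hpt2) hL1 hnorm
  have hLM : zpowers (h.pt a b) ⊔ L1 ≤ h.PM a b :=
    sup_le (zpowers_le.2 (h.mk_mem_PM_swap hab))
      (sup_le (zpowers_le.2 hy) (by rintro _ ⟨u, rfl⟩; exact h.ι_mem_PM hab u))
  obtain ⟨S, hS⟩ := (hL.comap_subtype (K := h.PM a b)).exists_le_sylow
  have hLS : zpowers (h.pt a b) ⊔ L1 ≤ (S : Subgroup (h.PM a b)).map (h.PM a b).subtype :=
    fun x hx => ⟨⟨x, hLM hx⟩, hS (mem_subgroupOf.2 hx), rfl⟩
  refine ⟨_, ⟨hab, map_subtype_le _, S.2.map _, ?_, ?_, fun Q hQ hQp hle => ?_⟩, ?_⟩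
  · exact (le_sup_right.trans le_sup_right).trans hLS
  · exact hLS (mem_sup_left (mem_zpowers _))
  · have h1 : (S : Subgroup (h.PM a b)) ≤ Q.subgroupOf (h.PM a b) := fun x hx =>
      mem_subgroupOf.2 (hle ⟨x, hx, rfl⟩)
    have h2 := S.3 (hQp.comap_subtype (K := h.PM a b)) h1
    intro x hx
    exact ⟨⟨x, hQ hx⟩, h2 ▸ mem_subgroupOf.2 hx, rfl⟩
  · exact hLS (mem_sup_right (mem_sup_left (mem_zpowers _)))

namespace Loc

variable {h} {a b : Fin (2 * n)} {R : Subgroup G} (L : h.Loc a b R)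

include L

theorem R_le_W : R ≤ h.W := L.le_PM.trans inf_le_left

theorem R_le_C : R ≤ h.C := L.R_le_W.trans h.W_le_C

theorem pc_mem : h.pc a b ∈ R := L.E_le (h.ι_mem_E _)

theorem e_mem : h.ι (δ a) ∈ R := L.E_le (h.ι_mem_E _)

theorem commute_pc {x : G} (hx : x ∈ R) : x * h.pc a b = h.pc a b * x :=
  mem_centralizer_singleton_iff.1 (L.le_PM hx).2

/-- Conjugates of `y₁` under `PM a b`. -/
theorem conj_pt {x : G} (hx : x ∈ h.PM a b) :
    x * h.pt a b * x⁻¹ = h.pt a b ∨ x * h.pt a b * x⁻¹ = h.pc a b * h.pt a b := by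
  obtain ⟨u, r, rfl⟩ := h.mem_W.1 hx.1
  have hr := (h.mem_PM_iff L.ne).1 hx
  have hsw : r * Equiv.swap a b * r⁻¹ = Equiv.swap a b := by
    have e1 : r * Equiv.swap a b * r⁻¹ = Equiv.swap (r a) (r b) := by
      rw [← Equiv.swap_apply_apply]
    rw [e1]
    rcases hr with ⟨h1, h2⟩ | ⟨h1, h2⟩
    · rw [h1, h2]
    · rw [h1, h2, Equiv.swap_comm]
  rw [pt, h.conj_σ, hsw, Equiv.swap_inv, comp_swap_eq u]
  by_cases hu : u a = u b
  · refine Or.inl ?_
    simp only [if_pos hu]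
    rw [← add_assoc, vec_add_self, zero_add, show (fun _ : Fin (2 * n) => (0 : ZMod 2)) = 0 from rfl,
      h.ι_zero, one_mul]
  · refine Or.inr ?_
    simp only [if_neg hu]
    rw [← add_assoc, vec_add_self, zero_add]
    rfl

theorem conj_e_pt : h.ι (δ a) * h.pt a b * (h.ι (δ a))⁻¹ = h.pc a b * h.pt a b := by
  have := h.conj_by_ι (δ a) 0 (Equiv.swap a b)
  rw [h.ι_zero, one_mul] at this
  rw [pt, this, add_zero, δ_comp, Equiv.swap_apply_left, pc]

theorem pc_ne_one : h.pc a b ≠ 1 := fun e => δ_add_ne_zero L.ne (h.ι_eq_one.1 e)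

theorem pc_sq : h.pc a b * h.pc a b = 1 := h.ι_mul_self _

theorem pc_comm_pt : Commute (h.pc a b) (h.pt a b) := (L.commute_pc L.pt_mem).symm

theorem R1_le : h.R1 a b R ≤ R := inf_le_left

theorem e_not_mem_R1 : h.ι (δ a) ∉ h.R1 a b R := fun hm => by
  have h1 := L.conj_e_pt
  rw [mem_centralizer_singleton_iff.1 hm.2, mul_inv_cancel_right] at h1
  exact L.pc_ne_one (mul_eq_right.1 h1.symm)

theorem pt_mem_R1 : h.pt a b ∈ h.R1 a b R := ⟨L.pt_mem, mem_centralizer_singleton_iff.2 rfl⟩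

theorem pc_mem_R1 : h.pc a b ∈ h.R1 a b R := ⟨L.pc_mem, mem_centralizer_singleton_iff.2 L.pc_comm_pt.eq⟩

theorem mul_e_mem_R1 {x : G} (hx : x ∈ R) (hxn : x ∉ h.R1 a b R) : x * h.ι (δ a) ∈ h.R1 a b R := by
  refine ⟨mul_mem hx L.e_mem, mem_centralizer_singleton_iff.2 ?_⟩
  rcases L.conj_pt (L.le_PM hx) with e | e
  · exact absurd ⟨hx, mem_centralizer_singleton_iff.2 (mul_inv_eq_iff_eq_mul.1 e)⟩ hxn
  · refine mul_inv_eq_iff_eq_mul.1 ?_
    calc x * h.ι (δ a) * h.pt a b * (x * h.ι (δ a))⁻¹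
        = x * (h.ι (δ a) * h.pt a b * (h.ι (δ a))⁻¹) * x⁻¹ := by group
      _ = x * h.pc a b * h.pt a b * x⁻¹ := by rw [L.conj_e_pt]; group
      _ = h.pc a b * (x * h.pt a b * x⁻¹) := by rw [L.commute_pc hx]; group
      _ = h.pt a b := by rw [e, ← mul_assoc, L.pc_sq, one_mul]

theorem card_R : Nat.card R = 2 * Nat.card (h.R1 a b R) := by
  have h1 := Subgroup.card_mul_index ((h.R1 a b R).subgroupOf R)
  have h2 : ((h.R1 a b R).subgroupOf R).index = 2 := by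
    refine index_eq_two_iff.2 ⟨⟨_, L.e_mem⟩, fun x => ?_⟩
    by_cases hx : (x : G) ∈ h.R1 a b R
    · refine Or.inr ⟨mem_subgroupOf.2 hx, fun hm => L.e_not_mem_R1 ?_⟩
      have := mul_mem (inv_mem hx) (mem_subgroupOf.1 hm)
      simpa using this
    · exact Or.inl ⟨mem_subgroupOf.2 (L.mul_e_mem_R1 x.2 hx), fun hm => hx (mem_subgroupOf.1 hm)⟩
  rw [h2, Nat.card_congr (subgroupOfEquivOfLe L.R1_le).toEquiv] at h1
  omega

/-- Conjugation by `e = ι (δ a)` on `R`. -/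
theorem conj_e {x : G} (hx : x ∈ R) :
    h.ι (δ a) * x * (h.ι (δ a))⁻¹ = x ∨ h.ι (δ a) * x * (h.ι (δ a))⁻¹ = h.pc a b * x := by
  obtain ⟨u, r, rfl⟩ := h.mem_W.1 (L.R_le_W hx)
  rw [h.conj_by_ι, δ_comp]
  rcases (h.mem_PM_iff L.ne).1 (L.le_PM hx) with ⟨h1, -⟩ | ⟨h1, -⟩
  · refine Or.inl ?_
    rw [h1, add_right_comm, vec_add_self, zero_add]
  · refine Or.inr ?_
    rw [h1, add_right_comm, h.ι_add, mul_assoc]
    rfl

/-- A 2-subgroup of `C_W(y₁)` is at most as large as `R₁`. -/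
theorem card_le {Q : Subgroup G} (hQ : IsPGroup 2 Q) (hQW : Q ≤ h.W)
    (hQ1 : Q ≤ centralizer ({h.pt a b} : Set G)) (hQM : Q ≤ centralizer ({h.pc a b} : Set G)) :
    Nat.card Q ≤ Nat.card (h.R1 a b R) := by
  haveI : Fact (Nat.Prime 2) := ⟨Nat.prime_two⟩
  set M := h.PM a b
  have hQle : Q ≤ M := le_inf hQW hQM
  obtain ⟨S, hS⟩ := (L.pgroup.comap_subtype (K := M)).exists_le_sylow
  have hSR : (S : Subgroup M) = R.subgroupOf M := by
    refine le_antisymm (fun x hx => mem_subgroupOf.2 ?_) hS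
    exact L.max _ (map_subtype_le _) (S.2.map M.subtype)
      (fun y hy => ⟨⟨y, L.le_PM hy⟩, hS (mem_subgroupOf.2 hy), rfl⟩) ⟨x, hx, rfl⟩
  obtain ⟨m, hm⟩ := Techniques.exists_conj_le_sylow (hQ.comap_subtype (K := M)) S
  refine le_trans (Nat.card_le_card_of_injective
    (fun x : Q => (⟨(m : G) * x * (m : G)⁻¹, ?_, ?_⟩ : h.R1 a b R)) ?_) le_rfl
  · have := hm ⟨(x : G), hQle x.2⟩ (mem_subgroupOf.2 x.2)
    rw [hSR] at this
    exact mem_subgroupOf.1 this
  · show _ ∈ centralizer ({h.pt a b} : Set G)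
    rw [mem_centralizer_singleton_iff]
    have hxy := mem_centralizer_singleton_iff.1 (hQ1 x.2)
    have hxc := mem_centralizer_singleton_iff.1 (hQM x.2)
    have key : ∀ q : G, (x : G) * q = q * x → (m : G) * x * (m : G)⁻¹ * ((m : G) * q * (m : G)⁻¹) =
        (m : G) * q * (m : G)⁻¹ * ((m : G) * x * (m : G)⁻¹) := fun q hq => by
      calc _ = (m : G) * ((x : G) * q) * (m : G)⁻¹ := by group
        _ = _ := by rw [hq]; group
    rcases L.conj_pt m.2 with e | e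
    · have := key _ hxy
      rwa [e] at this
    · have h1 := key (h.pc a b * h.pt a b) (by rw [← mul_assoc, hxc, mul_assoc, hxy, mul_assoc])
      have h2 : (m : G) * (h.pc a b * h.pt a b) * (m : G)⁻¹ = h.pt a b := by
        calc (m : G) * (h.pc a b * h.pt a b) * (m : G)⁻¹
            = (m : G) * h.pc a b * h.pt a b * (m : G)⁻¹ := by group
          _ = h.pc a b * ((m : G) * h.pt a b * (m : G)⁻¹) := by
              rw [mem_centralizer_singleton_iff.1 m.2.2]; group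
          _ = h.pt a b := by rw [e, ← mul_assoc, L.pc_sq, one_mul]
      rwa [h2] at h1
  · intro x y e
    exact Subtype.ext (mul_left_cancel (mul_right_cancel (congrArg Subtype.val e)))

/-- Every point is moved by `R`. -/
theorem moved (i : Fin (2 * n)) : ∃ r ∈ h.perms R, r i ≠ i := by
  classical
  haveI : Fact (Nat.Prime 2) := ⟨Nat.prime_two⟩
  by_contra! hfix
  have hsw : Equiv.swap a b ∈ h.perms R := ⟨0, by rw [h.ι_zero, one_mul]; exact L.pt_mem⟩
  have hia : i ≠ a := fun e => L.ne (by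
    have := hfix _ hsw
    rw [e, Equiv.swap_apply_left] at this
    exact this.symm)
  have hib : i ≠ b := fun e => L.ne (by
    have := hfix _ hsw
    rwa [e, Equiv.swap_apply_right] at this)
  obtain ⟨j, hj, hji⟩ : ∃ j, (∀ r ∈ h.perms R, r j = j) ∧ j ≠ i := by
    have h1 := (h.isPGroup_perms L.pgroup).card_modEq_card_fixedPoints (Fin (2 * n))
    rw [Nat.card_fin] at h1
    by_contra! hall
    have h2 : MulAction.fixedPoints (h.perms R) (Fin (2 * n)) = {i} := by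
      ext j
      exact ⟨fun hj => hall j fun r hr => hj ⟨r, hr⟩, fun hj r => hj ▸ hfix r r.2⟩
    rw [h2, Nat.card_eq_fintype_card, Fintype.card_unique] at h1
    unfold Nat.ModEq at h1
    omega
  have hja : j ≠ a := fun e => L.ne (by
    have := hj _ hsw
    rw [e, Equiv.swap_apply_left] at this
    exact this.symm)
  have hjb : j ≠ b := fun e => L.ne (by
    have := hj _ hsw
    rwa [e, Equiv.swap_apply_right] at this)
  set τ := h.σ (Equiv.swap i j) with hτ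
  have hτM : τ ∈ h.PM a b := by
    have := (h.mem_PM_iff L.ne (u := 0) (r := Equiv.swap i j)).2
      (Or.inl ⟨Equiv.swap_apply_of_ne_of_ne hia.symm hja.symm, Equiv.swap_apply_of_ne_of_ne hib.symm hjb.symm⟩)
    rwa [h.ι_zero, one_mul] at this
  have hτn : τ ∈ normalizer (R : Set G) := by
    refine mem_normalizer_of_conj_mem fun x hx => ?_
    obtain ⟨u, r, rfl⟩ := h.mem_W.1 (L.R_le_W hx)
    show τ * (h.ι u * h.σ r) * τ⁻¹ ∈ R
    have hr : r ∈ h.perms R := ⟨u, hx⟩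
    have e : Equiv.swap i j * r * (Equiv.swap i j)⁻¹ = r := by
      rw [mul_inv_eq_iff_eq_mul, Equiv.mul_swap_eq_swap_mul, hfix r hr, hj r hr]
    rw [hτ, h.conj_mk, e, show u ∘ ⇑(Equiv.swap i j)⁻¹ = (u ∘ ⇑(Equiv.swap i j)⁻¹ + u) + u by
      rw [add_assoc, vec_add_self, add_zero], h.ι_add, mul_assoc]
    exact mul_mem (L.E_le (h.ι_mem_E _)) hx
  have hτ2 : τ * τ = 1 := by rw [hτ, ← map_mul, Equiv.swap_mul_self, map_one]
  have hle := L.max _ (sup_le (zpowers_le.2 hτM) L.le_PM)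
    (IsPGroup.to_sup_of_normal_right' (isPGroup_zpowers_of_sq hτ2)
      L.pgroup (zpowers_le.2 hτn)) le_sup_right
  have hmem : Equiv.swap i j ∈ h.perms R :=
    ⟨0, by rw [h.ι_zero, one_mul]; exact hle (mem_sup_left (mem_zpowers _))⟩
  have := hfix _ hmem
  rw [Equiv.swap_apply_left] at this
  exact hji this

/-- The normaliser of `R` centralises `t`. -/
theorem normalizer_le_C : normalizer (R : Set G) ≤ h.C := by
  classical
  intro g hg
  have htR : h.t ∈ R := L.E_le h.t_mem_E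
  obtain ⟨u, r, hur⟩ := h.mem_W.1 (L.R_le_W ((mem_normalizer_iff.1 hg _).1 htR))
  have hcomm : ∀ x ∈ R, x * (g * h.t * g⁻¹) = g * h.t * g⁻¹ * x := by
    intro x hx
    have h1 := (mem_normalizer_iff.1 (inv_mem hg) x).1 hx
    have h2 := h.mem_C.1 (L.R_le_C h1)
    calc x * (g * h.t * g⁻¹) = g * (g⁻¹ * x * g⁻¹⁻¹ * h.t) * g⁻¹ := by group
      _ = g * (h.t * (g⁻¹ * x * g⁻¹⁻¹)) * g⁻¹ := by rw [h2]
      _ = g * h.t * g⁻¹ * x := by group
  rw [← hur] at hcomm
  have hr : r = 1 := by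
    refine Equiv.ext fun i => ?_
    have e := hcomm _ (L.E_le (h.ι_mem_E (δ i)))
    have e1 := h.conj_ι u (δ i) r
    rw [← e, mul_inv_cancel_right, δ_comp] at e1
    by_contra hne
    have e2 := congrFun (h.ι_inj e1) i
    rw [δ_same, δ_ne (a := r i) (i := i) (fun e3 => hne e3.symm)] at e2
    exact one_ne_zero e2
  subst hr
  rw [map_one, mul_one] at hur hcomm
  have hinv : ∀ p ∈ h.perms R, ∀ i, u (p i) = u i := by
    rintro p ⟨v, hv⟩ i
    have e1 := h.conj_ι v u p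
    rw [hcomm _ hv, mul_inv_cancel_right] at e1
    have e2 := congrFun (h.ι_inj e1) (p i)
    rw [Function.comp_apply, Equiv.Perm.coe_inv, Equiv.symm_apply_apply] at e2
    exact e2
  -- the support has even size
  letI : MulAction (h.perms R) {i : Fin (2 * n) // u i = 1} :=
    { smul := fun p i => ⟨(p : Equiv.Perm (Fin (2 * n))) i.1, (hinv p p.2 i.1).trans i.2⟩
      one_smul := fun i => Subtype.ext rfl
      mul_smul := fun p q i => Subtype.ext rfl }
  haveI : Fact (Nat.Prime 2) := ⟨Nat.prime_two⟩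
  have hmod := (h.isPGroup_perms L.pgroup).card_modEq_card_fixedPoints {i : Fin (2 * n) // u i = 1}
  have h0 : MulAction.fixedPoints (h.perms R) {i : Fin (2 * n) // u i = 1} = ∅ := by
    refine Set.eq_empty_of_forall_notMem fun i hi => ?_
    obtain ⟨p, hp, hpi⟩ := L.moved i.1
    exact hpi (congrArg Subtype.val (hi ⟨p, hp⟩))
  rw [h0, Nat.card_eq_fintype_card, Fintype.card_subtype] at hmod
  simp at hmod
  rcases h.odd_of_conj_t (g := g⁻¹) (u := u) (by rw [hur]; group) with e | e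
  · subst e
    rw [h.t_eq] at hur
    rw [h.mem_C]
    calc g * h.t = g * h.t * g⁻¹ * g := by group
      _ = h.t * g := by rw [← hur]
  · exact absurd e (Nat.not_odd_iff_even.2 (even_iff_two_dvd.2 ((Nat.modEq_zero_iff_dvd).1 hmod)))

/-- An element of `W` normalising `R₁` lies in `PM a b`. -/
theorem mem_PM_of_norm {x : G} (hxW : x ∈ h.W) (hn : x ∈ normalizer (h.R1 a b R : Set G)) :
    x ∈ h.PM a b := by
  obtain ⟨v, p, rfl⟩ := h.mem_W.1 hxW
  rw [h.mem_PM_iff L.ne]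
  have key : ∀ u : Fin (2 * n) → ZMod 2, u a = u b → u (p⁻¹ a) = u (p⁻¹ b) := by
    intro u hu
    have hu1 : h.ι u ∈ h.R1 a b R := by
      refine ⟨L.E_le (h.ι_mem_E u), mem_centralizer_singleton_iff.2 ?_⟩
      rw [pt, h.conj, Equiv.swap_inv]
      refine congrArg (fun z => h.ι z * h.σ (Equiv.swap a b)) ?_
      rw [comp_swap_eq u]
      simp only [if_pos hu]
      exact (add_zero u).symm
    have h2 := mem_centralizer_singleton_iff.1 ((mem_normalizer_iff.1 hn _).1 hu1).2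
    rw [h.conj_ι, pt, h.conj, Equiv.swap_inv] at h2
    have h3 := congrFun (h.uniq h2).1 a
    simpa [Equiv.swap_apply_left] using h3
  have hi : ∀ i, i = p⁻¹ a ∨ i = p⁻¹ b → i = a ∨ i = b := by
    intro i hi
    by_contra! hno
    have := key (δ i) (by rw [δ_ne hno.1.symm, δ_ne hno.2.symm])
    rcases hi with rfl | rfl
    · rw [δ_same, δ_ne fun e => L.ne (p⁻¹.injective e).symm] at this
      exact one_ne_zero this
    · rw [δ_same, δ_ne fun e => L.ne (p⁻¹.injective e)] at this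
      exact one_ne_zero this.symm
  rcases hi _ (Or.inl rfl) with ha | ha <;> rcases hi _ (Or.inr rfl) with hb | hb
  · exact absurd (p⁻¹.injective (ha.trans hb.symm)) L.ne
  · left
    rw [Equiv.Perm.inv_eq_iff_eq] at ha hb
    exact ⟨ha.symm, hb.symm⟩
  · right
    rw [Equiv.Perm.inv_eq_iff_eq] at ha hb
    exact ⟨hb.symm, ha.symm⟩
  · exact absurd (p⁻¹.injective (ha.trans hb.symm)) L.ne

theorem R_le_normalizer : R ≤ normalizer (h.R1 a b R : Set G) := by
  intro x hx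
  refine mem_normalizer_of_conj_mem fun y hy => ?_
  refine ⟨R.mul_mem (R.mul_mem hx hy.1) (R.inv_mem hx), mem_centralizer_singleton_iff.2 ?_⟩
  show x * y * x⁻¹ * h.pt a b = h.pt a b * (x * y * x⁻¹)
  have hyc := L.commute_pc hy.1
  have hyt := mem_centralizer_singleton_iff.1 hy.2
  rcases L.conj_pt (L.le_PM (inv_mem hx)) with e | e <;> rw [inv_inv] at e
  · calc x * y * x⁻¹ * h.pt a b = x * (y * (x⁻¹ * h.pt a b * x)) * x⁻¹ := by group
      _ = x * ((x⁻¹ * h.pt a b * x) * y) * x⁻¹ := by rw [e, hyt]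
      _ = _ := by group
  · calc x * y * x⁻¹ * h.pt a b = x * (y * (x⁻¹ * h.pt a b * x)) * x⁻¹ := by group
      _ = x * ((x⁻¹ * h.pt a b * x) * y) * x⁻¹ := by
          rw [e, show y * (h.pc a b * h.pt a b) = h.pc a b * h.pt a b * y by
            rw [← mul_assoc, hyc, mul_assoc, hyt, mul_assoc]]
      _ = _ := by group

/-- `R` is a Sylow 2-subgroup of the normaliser of `R₁`. -/
theorem exists_conj_le {Q : Subgroup G} (hQ : IsPGroup 2 Q)
    (hQN : Q ≤ normalizer (h.R1 a b R : Set G)) :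
    ∃ m ∈ normalizer (h.R1 a b R : Set G), ∀ x ∈ Q, m * x * m⁻¹ ∈ R := by
  haveI : Fact (Nat.Prime 2) := ⟨Nat.prime_two⟩
  set N := normalizer (h.R1 a b R : Set G)
  obtain ⟨S, hS⟩ := (L.pgroup.comap_subtype (K := N)).exists_le_sylow
  set S' := (S : Subgroup N).map N.subtype with hS'
  have hRS : R ≤ S' := fun x hx => ⟨⟨x, L.R_le_normalizer hx⟩, hS (mem_subgroupOf.2 hx), rfl⟩
  have hSR : S' ≤ R := by
    by_contra hno
    have hS'p : IsPGroup 2 S' := S.2.map N.subtype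
    have hlt := Transfer.Frobenius.lt_inf_normalizer hS'p (lt_of_le_not_ge hRS hno)
    set Q' := S' ⊓ normalizer (R : Set G) with hQ'
    have hQC : Q' ≤ h.C := inf_le_right.trans L.normalizer_le_C
    set Q'' := (Q'.subgroupOf h.C).map h.Θ with hQ''
    have hQ''p : IsPGroup 2 Q'' := ((hS'p.to_le inf_le_left).comap_subtype).map h.Θ
    have hQ''M : Q'' ≤ h.PM a b := by
      rintro _ ⟨⟨x, hxC⟩, hx, rfl⟩
      refine L.mem_PM_of_norm (h.Θ_mem _) ?_
      have hxn : x ∈ N := map_subtype_le _ (mem_subgroupOf.1 hx).1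
      refine mem_normalizer_of_conj_mem fun y hy => ?_
      show h.Θ ⟨x, hxC⟩ * y * (h.Θ ⟨x, hxC⟩)⁻¹ ∈ h.R1 a b R
      have hxy := (mem_normalizer_iff.1 hxn y).1 hy
      rw [← h.conj_eq_Θ hxC (L.R_le_W hy.1) (L.R_le_W hxy.1)]
      exact hxy
    have hRQ'' : R ≤ Q'' := fun x hx =>
      ⟨⟨x, L.R_le_C hx⟩, mem_subgroupOf.2 (hlt.le hx), h.Θ_of_mem (L.R_le_W hx)⟩
    have hle := L.max _ hQ''M hQ''p hRQ''
    have hc : Nat.card Q' ≤ Nat.card R := by
      refine Nat.card_le_card_of_injective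
        (fun x : Q' => (⟨h.Θ ⟨x, hQC x.2⟩, hle ⟨⟨x, hQC x.2⟩, mem_subgroupOf.2 x.2, rfl⟩⟩ : R)) ?_
      intro x y e
      have := h.Θ_injOn (hS'p.to_le inf_le_left : IsPGroup 2 Q') (x := ⟨x, hQC x.2⟩) (y := ⟨y, hQC y.2⟩)
        x.2 y.2 (congrArg Subtype.val e)
      exact Subtype.ext (Subtype.ext_iff.1 this :)
    exact hlt.ne (eq_of_le_of_card_ge hlt.le hc)
  obtain ⟨m, hm⟩ := Techniques.exists_conj_le_sylow (hQ.comap_subtype (K := N)) S
  exact ⟨m, m.2, fun x hx => hSR ⟨_, hm ⟨x, hQN hx⟩ (mem_subgroupOf.2 hx), rfl⟩⟩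

/-- A 2-subgroup above `R₁` in `C(t)` centralising `y₁` is `R₁`. -/
theorem le_R1_of_le_C {Q : Subgroup G} (hQ : IsPGroup 2 Q) (hle : h.R1 a b R ≤ Q) (hQC : Q ≤ h.C)
    (hQy : Q ≤ centralizer ({h.pt a b} : Set G)) : Q ≤ h.R1 a b R := by
  set Q'' := (Q.subgroupOf h.C).map h.Θ
  have h1 : h.R1 a b R ≤ Q'' := fun x hx =>
    ⟨⟨x, L.R_le_C hx.1⟩, mem_subgroupOf.2 (hle hx), h.Θ_of_mem (L.R_le_W hx.1)⟩
  have hy : Q'' ≤ centralizer ({h.pt a b} : Set G) := by
    rintro _ ⟨⟨x, hxC⟩, hx, rfl⟩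
    have hc := mem_centralizer_singleton_iff.1 (hQy (mem_subgroupOf.1 hx))
    refine mem_centralizer_singleton_iff.2 ?_
    have e := h.conj_eq_Θ hxC (L.R_le_W L.pt_mem) (by rw [hc, mul_inv_cancel_right]; exact L.R_le_W L.pt_mem)
    rw [hc, mul_inv_cancel_right] at e
    exact (mul_inv_eq_iff_eq_mul.1 e.symm)
  have hW : Q'' ≤ h.W := by rintro _ ⟨x, -, rfl⟩; exact h.Θ_mem x
  have hM : Q'' ≤ centralizer ({h.pc a b} : Set G) := by
    intro x hx
    obtain ⟨v, p, rfl⟩ := h.mem_W.1 (hW hx)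
    refine ((h.mem_PM_iff L.ne).2 ?_).2
    have e := mem_centralizer_singleton_iff.1 (hy hx)
    have e2 := h.conj_σ v p (Equiv.swap a b)
    rw [← pt, e, mul_inv_cancel_right] at e2
    have e3 : h.ι 0 * h.σ (Equiv.swap a b) = h.pt a b := by rw [h.ι_zero, one_mul]; rfl
    rw [← e3] at e2
    have e4 := (h.uniq e2).2
    rw [← Equiv.swap_apply_apply] at e4
    have h5 := congrArg (fun q : Equiv.Perm (Fin (2 * n)) => q a) e4
    simp only [Equiv.swap_apply_left] at h5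
    by_cases ha : a = p a
    · rw [← ha, Equiv.swap_apply_left] at h5
      exact Or.inl ⟨ha.symm, h5.symm⟩
    by_cases hb : a = p b
    · rw [← hb, Equiv.swap_apply_right] at h5
      exact Or.inr ⟨h5.symm, hb.symm⟩
    rw [Equiv.swap_apply_of_ne_of_ne ha hb] at h5
    exact absurd h5.symm L.ne
  have hc : Nat.card Q ≤ Nat.card (h.R1 a b R) := by
    refine le_trans ?_ (L.card_le (hQ.comap_subtype.map h.Θ) hW hy hM)
    refine Nat.card_le_card_of_injective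
      (fun x : Q => (⟨h.Θ ⟨x, hQC x.2⟩, ⟨_, mem_subgroupOf.2 x.2, rfl⟩⟩ : Q'')) ?_
    intro x y e
    have := h.Θ_injOn hQ (x := ⟨x, hQC x.2⟩) (y := ⟨y, hQC y.2⟩) x.2 y.2 (congrArg Subtype.val e)
    exact Subtype.ext (Subtype.ext_iff.1 this :)
  exact (eq_of_le_of_card_ge hle hc).ge

end Loc

end Hyp

end Cfsg.Agent.AltCent
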