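import Cfsg.Agent.Lib.AltCent.FusionExtremal

/-!
# Removing one transposition from an involution

In the local setting at a transposition `y₁ = σ (a b)`, an involution of `R` with permutation part
`p`, `p a = b`, commuting with `y₁`, is conjugate to an element of `W` with permutation part
`p * (a b)`: the normaliser of `R₁` contains an element of odd order permuting the involutions
`ι (δ a + δ b)` and `y₁` non-trivially.
-/

set_option autoImplicit false
set_option linter.unusedSectionVars false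
set_option linter.style.haveILetI false

namespace Cfsg.Agent.AltCent

open Subgroup

universe u

namespace Hyp

namespace Loc

variable {G : Type u} [Group G] [Finite G] {n : ℕ} {h : Hyp G n} {a b : Fin (2 * n)} {R : Subgroup G}
  (L : h.Loc a b R)

include L

/-- An involution of `R₁` moving `a` to `b` is conjugate to one fixing `a` and `b`. -/
theorem exists_conj_step {v : Fin (2 * n) → ZMod 2} {p : Equiv.Perm (Fin (2 * n))}
    (hy : h.ι v * h.σ p ∈ h.R1 a b R) (hpa : p a = b) :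
    ∃ (g : G) (w : Fin (2 * n) → ZMod 2),
      g * (h.ι v * h.σ p) * g⁻¹ = h.ι w * h.σ (p * Equiv.swap a b) := by
  classical
  haveI : Fact (Nat.Prime 2) := ⟨Nat.prime_two⟩
  have hpb : p b = a := by
    rcases (h.mem_PM_iff L.ne).1 (L.le_PM hy.1) with ⟨e1, -⟩ | ⟨-, e2⟩
    · exact absurd (e1.symm.trans hpa) L.ne
    · exact e2
  obtain ⟨Q, hQ, hlt, hQC⟩ := L.exists_ext
  obtain ⟨h0, hh0, hh0n⟩ := SetLike.exists_of_lt (Transfer.Frobenius.lt_inf_normalizer hQ hlt)
  obtain ⟨m, hmN, hm⟩ := L.exists_conj_le (hQ.to_le inf_le_left)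
    (inf_le_right : Q ⊓ normalizer (h.R1 a b R : Set G) ≤ _)
  set N := normalizer (h.R1 a b R : Set G) with hN
  have hcl : ∀ c ∈ N, ∀ x ∈ h.R1 a b R, c * x * c⁻¹ ∈ h.R1 a b R := fun c hc x hx =>
    (mem_normalizer_iff.1 hc x).1 hx
  set e := h.ι (δ a) with he
  have hee : e * e = 1 := h.ι_mul_self _
  have heinv : e⁻¹ = e := h.ι_inv _
  have heN : e ∈ N := L.R_le_normalizer L.e_mem
  have hmR := hm _ hh0
  have hmn : m * h0 * m⁻¹ ∉ h.R1 a b R := fun hx => hh0n ((mem_normalizer_iff.1 hmN h0).2 hx)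
  have hx1 := hcl _ (inv_mem hmN) _ (L.mul_e_mem_R1 hmR hmn)
  set hh := m⁻¹ * e * m with hhdef
  have hhN : hh ∈ N := mul_mem (mul_mem (inv_mem hmN) heN) hmN
  have hh2 : hh * hh = 1 := by
    rw [hhdef, show m⁻¹ * e * m * (m⁻¹ * e * m) = m⁻¹ * (e * e) * m by group, hee, mul_one,
      inv_mul_cancel]
  have hhC : hh ∈ centralizer ({h.pt a b} : Set G) := by
    have e1 : hh = h0⁻¹ * (m⁻¹ * (m * h0 * m⁻¹ * h.ι (δ a)) * m⁻¹⁻¹) := by
      rw [hhdef, he]; group
    rw [e1]
    exact mul_mem (inv_mem (hQC hh0.1)) hx1.2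
  have hhn : hh ∉ h.R1 a b R := fun hx => L.e_not_mem_R1 (by
    have := hcl _ hmN _ hx
    rwa [show m * hh * m⁻¹ = e by rw [hhdef]; group] at this)
  set c1 := m⁻¹ * h.pc a b * m with hc1
  have hc1R : c1 ∈ h.R1 a b R := by
    have := hcl _ (inv_mem hmN) _ L.pc_mem_R1
    rwa [inv_inv] at this
  have hc1c : ∀ x ∈ h.R1 a b R, x * c1 = c1 * x := fun x hx => by
    have := L.commute_pc (hcl _ hmN _ hx).1
    calc x * c1 = m⁻¹ * (m * x * m⁻¹ * h.pc a b) * m := by rw [hc1]; group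
      _ = c1 * x := by rw [this, hc1]; group
  have hc11 : c1 * c1 = 1 := by
    rw [hc1, show m⁻¹ * h.pc a b * m * (m⁻¹ * h.pc a b * m) = m⁻¹ * (h.pc a b * h.pc a b) * m by group,
      L.pc_sq, mul_one, inv_mul_cancel]
  have hhconj : ∀ x ∈ h.R1 a b R, hh * x * hh⁻¹ = x ∨ hh * x * hh⁻¹ = c1 * x := fun x hx => by
    have e1 : m⁻¹ * (h.ι (δ a) * (m * x * m⁻¹) * (h.ι (δ a))⁻¹) * m = hh * x * hh⁻¹ := by
      rw [hhdef, he]; group
    rcases L.conj_e (hcl _ hmN _ hx).1 with e2 | e2 <;> rw [e2] at e1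
    · exact Or.inl (e1.symm.trans (by group))
    · exact Or.inr (e1.symm.trans (by rw [hc1]; group))
  set d := e * hh with hd
  have hdN : d ∈ N := mul_mem heN hhN
  have hdconj : ∀ x, d * x * d⁻¹ = e * (hh * x * hh⁻¹) * e⁻¹ := fun x => by rw [hd]; group
  have hed : e * d * e⁻¹ = d⁻¹ := by
    refine eq_inv_of_mul_eq_one_left ?_
    rw [heinv, hd, show e * (e * hh) * e * (e * hh) = (e * e) * hh * (e * e) * hh by group, hee,
      one_mul, mul_one, hh2]
  -- the order of `d` modulo `R₁` is odd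
  have hex : ∃ k, 0 < k ∧ d ^ k ∈ h.R1 a b R :=
    ⟨orderOf d, orderOf_pos d, by rw [pow_orderOf_eq_one]; exact one_mem _⟩
  set k := Nat.find hex with hk
  obtain ⟨hk0, hkR⟩ := Nat.find_spec hex
  have hodd : Odd k := by
    by_contra hev
    obtain ⟨l, hl⟩ := Nat.not_odd_iff_even.1 hev
    have hl0 : 0 < l := by omega
    set i := d ^ l with hi
    have hin : i ∉ h.R1 a b R := fun hx => Nat.find_min hex (show l < k by omega) ⟨hl0, hx⟩
    have hiN : i ∈ N := pow_mem hdN l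
    have hii : i * i ∈ h.R1 a b R := by rw [hi, ← pow_add, ← hl]; exact hkR
    have hei : e * i * e⁻¹ = i⁻¹ := by rw [hi, ← conj_pow, hed, inv_pow]
    have hie : i * e * i⁻¹ = i * i * e := by
      rw [mul_assoc, mul_assoc]
      refine congrArg (i * ·) ?_
      rw [← hei]
      calc e * (e * i * e⁻¹) = e * e * i * e⁻¹ := by group
        _ = i * e := by rw [hee, one_mul, heinv]
    have hiR : i ∈ normalizer (R : Set G) := by
      refine mem_normalizer_of_conj_mem fun y hy => ?_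
      by_cases hy1 : y ∈ h.R1 a b R
      · exact (hcl _ hiN _ hy1).1
      have h1 := (hcl _ hiN _ (L.mul_e_mem_R1 hy hy1)).1
      have h2 : i * y * i⁻¹ = i * (y * e) * i⁻¹ * (i * e * i⁻¹) := by
        calc i * y * i⁻¹ = i * (y * (e * e)) * i⁻¹ := by rw [hee, mul_one]
          _ = _ := by group
      rw [h2, hie]
      exact mul_mem h1 (mul_mem hii.1 L.e_mem)
    have hip : IsPGroup 2 (zpowers i) := by
      obtain ⟨j, hj⟩ := L.pgroup ⟨i * i, hii.1⟩
      have hj' : i ^ 2 ^ (j + 1) = 1 := by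
        have := congrArg Subtype.val hj
        rw [pow_succ', pow_mul, pow_two]
        exact this
      obtain ⟨o, -, ho⟩ := (Nat.dvd_prime_pow Nat.prime_two).1 (orderOf_dvd_of_pow_eq_one hj')
      exact IsPGroup.of_card (n := o) (by rw [Nat.card_zpowers, ho])
    have hsup := IsPGroup.to_sup_of_normal_right' hip L.pgroup (zpowers_le.2 hiR)
    obtain ⟨m', -, hm'⟩ := L.exists_conj_le hsup (sup_le (zpowers_le.2 hiN) L.R_le_normalizer)
    have hcard : Nat.card (zpowers i ⊔ R : Subgroup G) ≤ Nat.card R :=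
      Nat.card_le_card_of_injective
        (fun x : (zpowers i ⊔ R : Subgroup G) => (⟨m' * x * m'⁻¹, hm' _ x.2⟩ : R))
        (fun x y e => Subtype.ext (mul_left_cancel (mul_right_cancel (congrArg Subtype.val e))))
    have hiR' : i ∈ R := by
      rw [eq_of_le_of_card_ge le_sup_right hcard]
      exact mem_sup_left (mem_zpowers _)
    have hie' := L.mul_e_mem_R1 hiR' hin
    rw [← he] at hie'
    have hdd : d⁻¹ * d⁻¹ ∈ h.R1 a b R := by
      have h1 := mul_mem (inv_mem hie') (hcl _ hdN _ hie')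
      have h2 : d * i = i * d := by rw [hi, ← pow_succ, ← pow_succ']
      rwa [show (i * e)⁻¹ * (d * (i * e) * d⁻¹) = (e⁻¹ * i⁻¹ * (d * i) * e) * d⁻¹ by group, h2,
        show e⁻¹ * i⁻¹ * (i * d) * e = e⁻¹ * d * e by group, heinv,
        show e * d * e = d⁻¹ by rw [← hed, heinv]] at h1
    have hk2 : k ≤ 2 := by
      refine Nat.find_le ⟨two_pos, ?_⟩
      have := inv_mem hdd
      rwa [mul_inv_rev, inv_inv, ← pow_two] at this
    rw [hi, show l = 1 by omega, pow_one] at hie'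
    have h3 := hcl _ heN _ hie'
    rw [show e * (d * e) * e⁻¹ = e * d by rw [heinv, mul_assoc, mul_assoc, hee, mul_one], hd,
      ← mul_assoc, hee, one_mul] at h3
    exact hhn h3
  -- a central element of `R₁` fixed by `d ^ 2` is fixed by `d`
  have hper : ∀ c : G, (∀ x ∈ h.R1 a b R, x * c = c * x) →
      d * (d * c * d⁻¹) * d⁻¹ = c → d * c * d⁻¹ = c := by
    intro c hc h2
    obtain ⟨l, hl⟩ := hodd
    have h2' : Commute (d ^ 2) c := by
      show d ^ 2 * c = c * d ^ 2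
      calc d ^ 2 * c = d * (d * c * d⁻¹) * d⁻¹ * d ^ 2 := by rw [pow_two]; group
        _ = _ := by rw [h2]
    have h3 := hc _ hkR
    rw [← hk, hl, pow_succ', pow_mul, mul_assoc, (h2'.pow_left l).eq, ← mul_assoc, ← mul_assoc] at h3
    rw [mul_right_cancel h3, mul_inv_cancel_right]
  have hpcC : ∀ x ∈ h.R1 a b R, x * h.pc a b = h.pc a b * x := fun x hx => L.commute_pc hx.1
  have hptC : ∀ x ∈ h.R1 a b R, x * h.pt a b = h.pt a b * x := fun x hx =>
    mem_centralizer_singleton_iff.1 hx.2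
  have hepc : e * h.pc a b * e⁻¹ = h.pc a b := by
    rw [L.commute_pc L.e_mem, mul_inv_cancel_right]
  have hdpt : d * h.pt a b * d⁻¹ = h.pc a b * h.pt a b := by
    rw [hdconj, mem_centralizer_singleton_iff.1 hhC, mul_inv_cancel_right, he, L.conj_e_pt]
  have hc1ne : c1 ≠ 1 := fun e1 => L.pc_ne_one (by
    calc h.pc a b = m * c1 * m⁻¹ := by rw [hc1]; group
      _ = 1 := by rw [e1]; group)
  have hhpc : hh * h.pc a b * hh⁻¹ = c1 * h.pc a b := by
    rcases hhconj _ L.pc_mem_R1 with e1 | e1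
    · have h1 : d * h.pc a b * d⁻¹ = h.pc a b := by rw [hdconj, e1, hepc]
      have h2 := hper _ hptC (by
        rw [hdpt, show d * (h.pc a b * h.pt a b) * d⁻¹ =
          d * h.pc a b * d⁻¹ * (d * h.pt a b * d⁻¹) by group, h1, hdpt, ← mul_assoc, L.pc_sq, one_mul])
      rw [hdpt] at h2
      exact absurd (mul_eq_right.1 h2) L.pc_ne_one
    · exact e1
  have hhc1 : hh * c1 * hh⁻¹ = c1 := by
    rw [hhdef, hc1, show m⁻¹ * e * m * (m⁻¹ * h.pc a b * m) * (m⁻¹ * e * m)⁻¹ =
      m⁻¹ * (e * h.pc a b * e⁻¹) * m by group, hepc]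
  have hec1 : e * c1 * e⁻¹ = h.pc a b * c1 := by
    rcases L.conj_e hc1R.1 with e1 | e1
    · rw [← he] at e1
      have h1 : d * h.pc a b * d⁻¹ = c1 * h.pc a b := by
        rw [hdconj, hhpc, show e * (c1 * h.pc a b) * e⁻¹ = e * c1 * e⁻¹ * (e * h.pc a b * e⁻¹) by group,
          e1, hepc]
      have h2 := hper _ hpcC (by
        rw [h1, show d * (c1 * h.pc a b) * d⁻¹ = d * c1 * d⁻¹ * (d * h.pc a b * d⁻¹) by group, h1,
          hdconj, hhc1, e1, ← mul_assoc, hc11, one_mul])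
      rw [h1] at h2
      exact absurd (mul_eq_right.1 h2) hc1ne
    · exact e1
  have hdc1 : d * c1 * d⁻¹ = h.pc a b * c1 := by rw [hdconj, hhc1, hec1]
  have hdpc : d * h.pc a b * d⁻¹ = c1 := by
    rw [hdconj, hhpc, show e * (c1 * h.pc a b) * e⁻¹ = e * c1 * e⁻¹ * (e * h.pc a b * e⁻¹) by group,
      hec1, hepc, mul_assoc, ← hc1c _ L.pc_mem_R1, ← mul_assoc, L.pc_sq, one_mul]
  -- the permutation part of `c1`
  obtain ⟨z, q, hzq⟩ := h.mem_W.1 (L.R_le_W hc1R.1)
  have hq : q = Equiv.swap a b := by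
    have hqa : q a = b ∧ q b = a := by
      rcases (h.mem_PM_iff L.ne).1 (hzq ▸ L.le_PM hc1R.1) with ⟨e1, -⟩ | h1
      · exfalso
        rw [← hzq, he, h.conj_by_ι, δ_comp, e1, add_right_comm, vec_add_self, zero_add] at hec1
        exact L.pc_ne_one (mul_eq_right.1 hec1.symm)
      · exact h1
    refine Equiv.ext fun i => ?_
    rcases eq_or_ne i a with rfl | hia
    · rw [Equiv.swap_apply_left, hqa.1]
    rcases eq_or_ne i b with rfl | hib
    · rw [Equiv.swap_apply_right, hqa.2]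
    rw [Equiv.swap_apply_of_ne_of_ne hia hib]
    have hi1 : h.ι (δ i) ∈ h.R1 a b R := by
      refine ⟨L.E_le (h.ι_mem_E _), mem_centralizer_singleton_iff.2 ?_⟩
      rw [pt, h.conj, δ_comp, Equiv.swap_apply_of_ne_of_ne hia hib]
    have e1 := h.conj_ι z (δ i) q
    rw [hzq, ← hc1c _ hi1, mul_inv_cancel_right, δ_comp] at e1
    by_contra hne
    have e2 := congrFun (h.ι_inj e1) i
    rw [δ_same, δ_ne (a := q i) (i := i) (Ne.symm hne)] at e2
    exact one_ne_zero e2
  set y := h.ι v * h.σ p with hydef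
  set x := y * c1 with hx
  have hxR : x ∈ h.R1 a b R := mul_mem hy hc1R
  have hxform : x = h.ι (v + z ∘ ⇑p⁻¹) * h.σ (p * Equiv.swap a b) := by
    rw [hx, hydef, ← hzq, h.mul_def, hq]
  have hex' : e * x * e⁻¹ = x := by
    rw [hxform, he, h.conj_by_ι, δ_comp, show (p * Equiv.swap a b) a = a by
      rw [Equiv.Perm.mul_apply, Equiv.swap_apply_left, hpb], add_right_comm, vec_add_self, zero_add]
  have hyx : y = x * c1 := by rw [hx, mul_assoc, hc11, mul_one]
  rcases hhconj _ hxR with e1 | e1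
  · have h1 : d * x * d⁻¹ = x := by rw [hdconj, e1, hex']
    have h2 : d * (d * y * d⁻¹) * d⁻¹ = h.pc a b * x := by
      rw [hyx, show d * (d * (x * c1) * d⁻¹) * d⁻¹ = d * (d * x * d⁻¹) * d⁻¹ * (d * (d * c1 * d⁻¹) * d⁻¹)
        by group, h1, h1, hdc1, show d * (h.pc a b * c1) * d⁻¹ = d * h.pc a b * d⁻¹ * (d * c1 * d⁻¹)
        by group, hdpc, hdc1]
      rw [← hpcC _ hxR]
      refine congrArg (x * ·) ?_
      rw [← mul_assoc, hpcC _ hc1R, mul_assoc, hc11, mul_one]
    refine ⟨d * d, δ a + δ b + (v + z ∘ ⇑p⁻¹), ?_⟩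
    rw [show d * d * y * (d * d)⁻¹ = d * (d * y * d⁻¹) * d⁻¹ by group, h2, hxform]
    simp only [h.ι_add, pc, mul_assoc]
  · have h1 : d * x * d⁻¹ = h.pc a b * c1 * x := by
      rw [hdconj, e1, show e * (c1 * x) * e⁻¹ = e * c1 * e⁻¹ * (e * x * e⁻¹) by group, hec1, hex']
    refine ⟨d, v + z ∘ ⇑p⁻¹, ?_⟩
    rw [hyx, show d * (x * c1) * d⁻¹ = d * x * d⁻¹ * (d * c1 * d⁻¹) by group, h1, hdc1, ← hxform]
    have hA : h.pc a b * c1 ∈ h.R1 a b R := mul_mem L.pc_mem_R1 hc1R
    have hxA : x * (h.pc a b * c1) = h.pc a b * c1 * x := by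
      rw [← mul_assoc, hpcC _ hxR, mul_assoc, hc1c _ hxR, ← mul_assoc]
    rw [← hxA, mul_assoc, show h.pc a b * c1 * (h.pc a b * c1) = 1 by
      rw [mul_assoc, ← mul_assoc c1, hpcC _ hc1R, mul_assoc, hc11, mul_one, L.pc_sq],
      mul_one]

end Loc

end Hyp

end Cfsg.Agent.AltCent
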