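import Cfsg.Agent.Lib.AltCent.Setup

/-!
# The model: the centraliser in an alternating group of an involution moving `4n` of `4n + r` points

The points are the pairs `(x, i)`, `x` one of `2n` transpositions and `i` modulo two, and `r` fixed points.
-/

set_option autoImplicit false
set_option linter.unusedSectionVars false
set_option linter.style.haveILetI false

namespace Cfsg.Agent.AltCent

open Subgroup

universe u

namespace Model

variable {k r : ℕ}

/-- The points. -/
abbrev Pt (k r : ℕ) := (Fin k × ZMod 2) ⊕ Fin r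

theorem two_cases : ∀ s : ZMod 2, s = 0 ∨ s = 1 := by decide

/-- A translation of every pair. -/
def base (v : Fin k → ZMod 2) : Equiv.Perm (Fin k × ZMod 2) where
  toFun z := (z.1, z.2 + v z.1)
  invFun z := (z.1, z.2 + v z.1)
  left_inv z := Prod.ext rfl (by show z.2 + v z.1 + v z.1 = z.2; rw [add_assoc, CharTwo.add_self_eq_zero, add_zero])
  right_inv z := Prod.ext rfl (by show z.2 + v z.1 + v z.1 = z.2; rw [add_assoc, CharTwo.add_self_eq_zero, add_zero])

theorem base_apply (v : Fin k → ZMod 2) (x : Fin k) (i : ZMod 2) : base v (x, i) = (x, i + v x) := rfl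

theorem base_add (u v : Fin k → ZMod 2) : base (u + v) = base u * base v :=
  Equiv.ext fun ⟨x, i⟩ => Prod.ext rfl (by show i + (u x + v x) = i + v x + u x; ring)

theorem base_zero : base (0 : Fin k → ZMod 2) = 1 :=
  Equiv.ext fun ⟨x, i⟩ => Prod.ext rfl (add_zero i)

/-- A permutation of the pairs. -/
def lift : Equiv.Perm (Fin k) →* Equiv.Perm (Fin k × ZMod 2) where
  toFun p := Equiv.prodCongr p (Equiv.refl _)
  map_one' := Equiv.ext fun _ => rfl
  map_mul' _ _ := Equiv.ext fun _ => rfl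

theorem lift_apply (p : Equiv.Perm (Fin k)) (x : Fin k) (i : ZMod 2) : lift p (x, i) = (p x, i) := rfl

theorem lift_mul_base (p : Equiv.Perm (Fin k)) (v : Fin k → ZMod 2) :
    lift p * base v = base (v ∘ ⇑p⁻¹) * lift p :=
  Equiv.ext fun ⟨x, i⟩ => by
    show (p x, i + v x) = (p x, i + v (p⁻¹ (p x)))
    rw [Equiv.Perm.inv_def, Equiv.symm_apply_apply]

theorem base_lift_apply (v : Fin k → ZMod 2) (p : Equiv.Perm (Fin k)) (x : Fin k) (i : ZMod 2) :
    (base v * lift p) (x, i) = (p x, i + v (p x)) := rfl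

theorem base_lift_inj {u v : Fin k → ZMod 2} {p q : Equiv.Perm (Fin k)}
    (e : base u * lift p = base v * lift q) : u = v ∧ p = q := by
  have hpq : p = q := Equiv.ext fun x => congrArg Prod.fst (Equiv.congr_fun e (x, 0))
  subst hpq
  refine ⟨funext fun x => ?_, rfl⟩
  have h := congrArg Prod.snd (Equiv.congr_fun e (p⁻¹ x, 0))
  simpa [base_lift_apply] using h

theorem sign_lift (p : Equiv.Perm (Fin k)) : Equiv.Perm.sign (lift p) = 1 := by
  have e : lift p = Equiv.prodCongrLeft fun _ : ZMod 2 => p := Equiv.ext fun _ => rfl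
  rw [e, Equiv.Perm.sign_prodCongrLeft, Finset.prod_const, Finset.card_univ, ZMod.card, sq, Int.units_mul_self]

/-- The sign of a residue modulo two. -/
def sgn (s : ZMod 2) : ℤˣ := if s = 0 then 1 else -1

theorem sgn_add : ∀ s t : ZMod 2, sgn (s + t) = sgn s * sgn t := by decide

theorem sign_base (v : Fin k → ZMod 2) : Equiv.Perm.sign (base v) = sgn (∑ x, v x) := by
  suffices h : ∀ s : Finset (Fin k),
      Equiv.Perm.sign (base (∑ x ∈ s, Pi.single x (v x))) = sgn (∑ x ∈ s, v x) by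
    have := h Finset.univ
    rwa [Finset.univ_sum_single] at this
  intro s
  induction s using Finset.induction_on with
  | empty =>
    rw [Finset.sum_empty, Finset.sum_empty, base_zero, map_one]
    rfl
  | insert a s ha ih =>
    rw [Finset.sum_insert ha, Finset.sum_insert ha, base_add, map_mul, ih, sgn_add]
    congr 1
    rcases two_cases (v a) with h | h
    · rw [h, Pi.single_zero, base_zero, map_one]; rfl
    · have e : base (Pi.single a (v a)) = Equiv.swap (a, (0 : ZMod 2)) (a, 1) := by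
        refine Equiv.ext fun ⟨x, i⟩ => ?_
        by_cases hx : x = a
        · subst hx
          rw [base_apply, Pi.single_eq_same, h]
          rcases two_cases i with rfl | rfl
          · rw [Equiv.swap_apply_left, zero_add]
          · rw [Equiv.swap_apply_right, CharTwo.add_self_eq_zero]
        · rw [base_apply, Pi.single_eq_of_ne hx, add_zero, Equiv.swap_apply_of_ne_of_ne] <;>
            exact fun e => hx (congrArg Prod.fst e)
      rw [e, Equiv.Perm.sign_swap (fun e => zero_ne_one (congrArg Prod.snd e)), h]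
      rfl

variable (τ : Equiv.Perm (Fin r))

/-- The correction on the fixed points. -/
def tau (s : ZMod 2) : Equiv.Perm (Fin r) := if s = 0 then 1 else τ

theorem tau_add (hτ : τ * τ = 1) (s t : ZMod 2) : tau τ (s + t) = tau τ s * tau τ t := by
  rcases two_cases s with rfl | rfl <;> rcases two_cases t with rfl | rfl <;>
    simp [tau, hτ, CharTwo.add_self_eq_zero]

theorem sign_tau (hτ : Equiv.Perm.sign τ = -1) (s : ZMod 2) : Equiv.Perm.sign (tau τ s) = sgn s := by
  rcases two_cases s with rfl | rfl <;> simp [tau, sgn, hτ]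

/-- The base in the alternating group. -/
def iota (v : Fin k → ZMod 2) : Equiv.Perm (Pt k r) := Equiv.Perm.sumCongr (base v) (tau τ (∑ x, v x))

theorem iota_add (hτ : τ * τ = 1) (u v : Fin k → ZMod 2) : iota τ (u + v) = iota τ u * iota τ v := by
  simp only [iota]
  rw [Equiv.Perm.sumCongr_mul, base_add, ← tau_add τ hτ, ← Finset.sum_add_distrib]
  rfl

/-- The complement. -/
def sigma : Equiv.Perm (Fin k) →* Equiv.Perm (Pt k r) where
  toFun p := Equiv.Perm.sumCongr (lift p) 1
  map_one' := by simp only [map_one, Equiv.Perm.sumCongr_one]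
  map_mul' p q := by simp only [Equiv.Perm.sumCongr_mul, map_mul, one_mul]

theorem sum_comp (p : Equiv.Perm (Fin k)) (v : Fin k → ZMod 2) : ∑ x, (v ∘ ⇑p) x = ∑ x, v x :=
  Equiv.sum_comp p v

theorem sigma_iota (p : Equiv.Perm (Fin k)) (v : Fin k → ZMod 2) :
    sigma p * iota τ v = iota τ (v ∘ ⇑p⁻¹) * sigma p := by
  show Equiv.Perm.sumCongr (lift p) 1 * iota τ v = iota τ (v ∘ ⇑p⁻¹) * Equiv.Perm.sumCongr (lift p) 1
  simp only [iota]
  rw [Equiv.Perm.sumCongr_mul, Equiv.Perm.sumCongr_mul, lift_mul_base, one_mul, mul_one, sum_comp]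

/-- The involution. -/
def inv₀ (k r : ℕ) : Equiv.Perm (Pt k r) := Equiv.Perm.sumCongr (base 1) 1

theorem sumCongr_inj {A B : Type*} {a a' : Equiv.Perm A} {b b' : Equiv.Perm B}
    (e : Equiv.Perm.sumCongr a b = Equiv.Perm.sumCongr a' b') : a = a' ∧ b = b' :=
  Prod.ext_iff.1 (Equiv.Perm.sumCongrHom_injective (α := A) (β := B) (a₁ := (a, b)) (a₂ := (a', b')) e)

/-- An element commuting with the involution. -/
theorem exists_of_commute {f : Equiv.Perm (Pt k r)} (hf : f * inv₀ k r = inv₀ k r * f) :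
    ∃ v p ρ, f = Equiv.Perm.sumCongr (base v * lift p) ρ := by
  have hpt : ∀ z, f (inv₀ k r z) = inv₀ k r (f z) := fun z => Equiv.congr_fun hf z
  have hmaps : Set.MapsTo f (Set.range Sum.inl) (Set.range Sum.inl) := by
    rintro _ ⟨⟨x, i⟩, rfl⟩
    rcases hz : f (Sum.inl (x, i)) with w | j
    · exact ⟨w, rfl⟩
    exfalso
    have h1 := hpt (Sum.inl (x, i))
    rw [hz, show inv₀ k r (Sum.inr j) = Sum.inr j from rfl, ← hz] at h1
    have h2 := Sum.inl.inj (f.injective h1)
    simpa [base_apply] using congrArg Prod.snd h2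
  obtain ⟨⟨g, ρ⟩, rfl⟩ := Equiv.Perm.mem_sumCongrHom_range_of_perm_mapsTo_inl hmaps
  have hg : ∀ x i, g (x, i + 1) = ((g (x, i)).1, (g (x, i)).2 + 1) := fun x i => Sum.inl.inj (hpt (Sum.inl (x, i)))
  have hinj : Function.Injective fun x => (g (x, 0)).1 := by
    intro x y (hxy : (g (x, 0)).1 = (g (y, 0)).1)
    have h1 : g (x, 0) = g (y, 0) ∨ g (x, 0 + 1) = g (y, 0) := by
      rcases two_cases ((g (y, 0)).2 + (g (x, 0)).2) with h | h
      · exact Or.inl (Prod.ext hxy (CharTwo.add_eq_zero.1 h).symm)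
      · refine Or.inr ?_
        rw [hg]
        refine Prod.ext hxy ?_
        show (g (x, 0)).2 + 1 = (g (y, 0)).2
        rw [← h, add_comm (g (y, 0)).2, ← add_assoc, CharTwo.add_self_eq_zero, zero_add]
    rcases h1 with h1 | h1 <;> exact congrArg Prod.fst (g.injective h1)
  set p := Equiv.ofBijective _ ⟨hinj, Finite.surjective_of_injective hinj⟩ with hp
  refine ⟨fun y => (g (p.symm y, 0)).2, p, ρ, ?_⟩
  show Equiv.Perm.sumCongr g ρ = _
  congr 1
  refine Equiv.ext fun ⟨x, i⟩ => ?_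
  rw [base_lift_apply, Equiv.symm_apply_apply]
  rcases two_cases i with rfl | rfl
  · rw [zero_add]; rfl
  · conv_lhs => rw [show (1 : ZMod 2) = 0 + 1 from (zero_add 1).symm, hg]
    exact Prod.ext rfl (add_comm _ _)

/-- The centraliser of the involution in the alternating group. -/
def cent (k r : ℕ) : Subgroup (Equiv.Perm (Pt k r)) :=
  alternatingGroup (Pt k r) ⊓ centralizer ({inv₀ k r} : Set (Equiv.Perm (Pt k r)))

theorem mem_cent {f : Equiv.Perm (Pt k r)} :
    f ∈ cent k r ↔ Equiv.Perm.sign f = 1 ∧ f * inv₀ k r = inv₀ k r * f := by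
  rw [cent, mem_inf, Equiv.Perm.mem_alternatingGroup, mem_centralizer_singleton_iff]

theorem iota_mem (hτ : Equiv.Perm.sign τ = -1) (v : Fin k → ZMod 2) : iota τ v ∈ cent k r := by
  refine mem_cent.2 ⟨?_, ?_⟩
  · simp only [iota]
    rw [Equiv.Perm.sign_sumCongr, sign_base, sign_tau τ hτ, Int.units_mul_self]
  · simp only [iota, inv₀]
    rw [Equiv.Perm.sumCongr_mul, Equiv.Perm.sumCongr_mul, ← base_add, ← base_add, add_comm, mul_one, one_mul]

theorem sigma_mem (p : Equiv.Perm (Fin k)) : (sigma p : Equiv.Perm (Pt k r)) ∈ cent k r := by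
  refine mem_cent.2 ⟨?_, ?_⟩
  · show Equiv.Perm.sign (Equiv.Perm.sumCongr (lift p) 1) = 1
    rw [Equiv.Perm.sign_sumCongr, sign_lift, map_one, mul_one]
  · show Equiv.Perm.sumCongr (lift p) 1 * inv₀ k r = inv₀ k r * Equiv.Perm.sumCongr (lift p) 1
    simp only [inv₀]
    rw [Equiv.Perm.sumCongr_mul, Equiv.Perm.sumCongr_mul, lift_mul_base]
    rfl

/-- The part of odd order. -/
def odd (k r : ℕ) : Subgroup (Equiv.Perm (Pt k r)) :=
  (alternatingGroup (Fin r)).map ((Equiv.Perm.sumCongrHom (Fin k × ZMod 2) (Fin r)).comp (MonoidHom.inr _ _))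

theorem mem_odd {f : Equiv.Perm (Pt k r)} :
    f ∈ odd k r ↔ ∃ ρ, Equiv.Perm.sign ρ = 1 ∧ f = Equiv.Perm.sumCongr 1 ρ := by
  refine ⟨?_, ?_⟩
  · rintro ⟨ρ, hρ, rfl⟩; exact ⟨ρ, Equiv.Perm.mem_alternatingGroup.1 hρ, rfl⟩
  · rintro ⟨ρ, hρ, rfl⟩; exact ⟨ρ, Equiv.Perm.mem_alternatingGroup.2 hρ, rfl⟩

theorem odd_le : odd k r ≤ cent k r := by
  intro f hf
  obtain ⟨ρ, hρ, rfl⟩ := mem_odd.1 hf
  refine mem_cent.2 ⟨by rw [Equiv.Perm.sign_sumCongr, map_one, one_mul, hρ], ?_⟩
  simp only [inv₀]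
  rw [Equiv.Perm.sumCongr_mul, Equiv.Perm.sumCongr_mul, mul_one, one_mul, mul_one, one_mul]

theorem card_odd (hr : r = 2 ∨ r = 3) : Odd (Nat.card (odd k r)) := by
  have hinj : Function.Injective
      ((Equiv.Perm.sumCongrHom (Fin k × ZMod 2) (Fin r)).comp (MonoidHom.inr _ _)) :=
    fun a b e => (sumCongr_inj (A := Fin k × ZMod 2) e).2
  rw [odd, Subgroup.card_map_of_injective hinj, Nat.card_eq_fintype_card]
  haveI : Nontrivial (Fin r) := Fin.nontrivial_iff_two_le.2 (by omega)
  have h := two_mul_card_alternatingGroup (α := Fin r)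
  rw [Fintype.card_perm, Fintype.card_fin] at h
  rw [Nat.odd_iff]
  rcases hr with rfl | rfl <;> simp only [Nat.factorial] at h <;> omega

theorem cent_decomp (hτ : Equiv.Perm.sign τ = -1) {f : Equiv.Perm (Pt k r)} (hf : f ∈ cent k r) :
    ∃ o ∈ odd k r, ∃ v p, f = o * (iota τ v * sigma p) := by
  obtain ⟨hs, hc⟩ := mem_cent.1 hf
  obtain ⟨v, p, ρ, rfl⟩ := exists_of_commute hc
  rw [Equiv.Perm.sign_sumCongr, map_mul, sign_lift, mul_one, sign_base] at hs
  refine ⟨Equiv.Perm.sumCongr 1 (ρ * (tau τ (∑ x, v x))⁻¹), mem_odd.2 ⟨_, ?_, rfl⟩, v, p, ?_⟩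
  · rw [map_mul, map_inv, sign_tau τ hτ, Int.units_inv_eq_self, mul_comm, hs]
  · show _ = _ * (iota τ v * Equiv.Perm.sumCongr (lift p) 1)
    simp only [iota]
    rw [Equiv.Perm.sumCongr_mul, Equiv.Perm.sumCongr_mul, one_mul, mul_one, inv_mul_cancel_right]

theorem odd_disj {v : Fin k → ZMod 2} {p : Equiv.Perm (Fin k)}
    (h : iota τ v * sigma p ∈ odd k r) : v = 0 ∧ p = 1 := by
  obtain ⟨ρ, -, e⟩ := mem_odd.1 h
  have e' : Equiv.Perm.sumCongr (base v * lift p) (tau τ (∑ x, v x) * 1) = Equiv.Perm.sumCongr 1 ρ := by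
    rw [← Equiv.Perm.sumCongr_mul]; exact e
  refine base_lift_inj ?_
  rw [(sumCongr_inj e').1, base_zero, map_one, mul_one]

theorem odd_conj {c f : Equiv.Perm (Pt k r)} (hc : c ∈ cent k r) (hf : f ∈ odd k r) :
    c * f * c⁻¹ ∈ odd k r := by
  obtain ⟨v, p, ρ₀, rfl⟩ := exists_of_commute (mem_cent.1 hc).2
  obtain ⟨ρ, hρ, rfl⟩ := mem_odd.1 hf
  refine mem_odd.2 ⟨ρ₀ * ρ * ρ₀⁻¹, ?_, ?_⟩
  · rw [map_mul, map_mul, map_inv, hρ, mul_one, mul_inv_cancel]
  · rw [Equiv.Perm.sumCongr_inv, Equiv.Perm.sumCongr_mul, Equiv.Perm.sumCongr_mul, mul_one, mul_inv_cancel]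

theorem small_two : ∀ ρ : Equiv.Perm (Fin 2), ρ * ρ = 1 → Equiv.Perm.sign ρ = 1 → ρ = 1 := by decide

theorem small_three : ∀ ρ : Equiv.Perm (Fin 3), ρ * ρ = 1 → Equiv.Perm.sign ρ = 1 → ρ = 1 := by decide

/-- The involution is the only central one. -/
theorem central_involution (hτ : Equiv.Perm.sign τ = -1) (hr : r = 2 ∨ r = 3) (hk : Even k)
    {z : Equiv.Perm (Pt k r)} (hz : z ∈ cent k r) (hz1 : z ≠ 1) (hz2 : z * z = 1)
    (hcen : ∀ f ∈ cent k r, z * f = f * z) : z = inv₀ k r := by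
  obtain ⟨hs, hc⟩ := mem_cent.1 hz
  obtain ⟨v, p, ρ, rfl⟩ := exists_of_commute hc
  have hp : p = 1 := by
    refine Equiv.ext fun x => ?_
    by_contra hx
    have hu := (sumCongr_inj (by
      simpa only [iota, Equiv.Perm.sumCongr_mul] using hcen _ (iota_mem τ hτ (Pi.single x 1)))).1
    rw [mul_assoc, lift_mul_base, ← mul_assoc, ← base_add, ← mul_assoc, ← base_add,
      add_comm v] at hu
    have h2 := congrFun (base_lift_inj hu).1 (p x)
    simp only [Pi.add_apply, Function.comp_apply, Equiv.Perm.inv_def, Equiv.symm_apply_apply,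
      Pi.single_eq_same, Pi.single_eq_of_ne (show p x ≠ x from hx)] at h2
    exact one_ne_zero (add_right_cancel h2)
  subst hp
  have hv : ∀ x y, v x = v y := by
    intro x y
    have hu := (sumCongr_inj (by
      have := hcen _ (sigma_mem (r := r) (Equiv.swap x y))
      simpa only [sigma, MonoidHom.coe_mk, OneHom.coe_mk, Equiv.Perm.sumCongr_mul] using this)).1
    rw [map_one, mul_one, lift_mul_base] at hu
    have h2 := congrFun (base_lift_inj hu).1 x
    simpa [Equiv.swap_inv] using h2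
  rw [map_one, mul_one] at hz1 hz2 hs ⊢
  have hsum : ∑ x, v x = 0 := by
    rcases Nat.eq_zero_or_pos k with rfl | hk0
    · simp
    rw [Finset.sum_congr rfl fun x _ => hv x ⟨0, hk0⟩, Finset.sum_const, Finset.card_univ, Fintype.card_fin]
    obtain ⟨j, rfl⟩ := hk
    rw [add_smul, CharTwo.add_self_eq_zero]
  rw [Equiv.Perm.sign_sumCongr, sign_base, hsum] at hs
  rw [Equiv.Perm.sumCongr_mul, ← Equiv.Perm.sumCongr_one] at hz2
  have hρ2 := (sumCongr_inj hz2).2
  have hρ : ρ = 1 := by
    have hsρ : Equiv.Perm.sign ρ = 1 := by simpa [sgn] using hs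
    rcases hr with rfl | rfl
    · exact small_two ρ hρ2 hsρ
    · exact small_three ρ hρ2 hsρ
  subst hρ
  rcases k with _ | k'
  · exact absurd (by rw [show v = 0 from Subsingleton.elim _ _, base_zero, Equiv.Perm.sumCongr_one]) hz1
  rcases two_cases (v 0) with h0 | h0
  · refine absurd ?_ hz1
    rw [show v = 0 from funext fun x => (hv x 0).trans h0, base_zero, Equiv.Perm.sumCongr_one]
  · simp only [inv₀]
    rw [show v = 1 from funext fun x => (hv x 0).trans h0]

theorem inv₀_support (k r : ℕ) : (inv₀ k r).support.card = 2 * k := by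
  have e : (inv₀ k r).support = (Finset.univ : Finset (Fin k × ZMod 2)).map ⟨Sum.inl, Sum.inl_injective⟩ := by
    ext z
    rcases z with ⟨x, i⟩ | j
    · simp [inv₀, base_apply, Equiv.Perm.sumCongr]
    · simp [inv₀, Equiv.Perm.sumCongr]
  rw [e, Finset.card_map, Finset.card_univ, Fintype.card_prod, Fintype.card_fin, ZMod.card, mul_comm]

theorem inv₀_sq (k r : ℕ) : inv₀ k r * inv₀ k r = 1 := by
  simp only [inv₀]
  rw [Equiv.Perm.sumCongr_mul, ← base_add, Hyp.vec_add_self, base_zero, mul_one, Equiv.Perm.sumCongr_one]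

theorem cycleType_eq {X : Type*} [Fintype X] [DecidableEq X] {f : Equiv.Perm X} (hf : orderOf f = 2) :
    f.cycleType = Multiset.replicate (f.support.card / 2) 2 := by
  obtain ⟨j, hj⟩ := Equiv.Perm.cycleType_prime_order (hf.symm ▸ Nat.prime_two : (orderOf f).Prime)
  rw [hf] at hj
  have hs := f.sum_cycleType
  rw [hj, Multiset.sum_replicate, smul_eq_mul] at hs
  rw [hj, ← hs, Nat.mul_div_cancel _ two_pos]

/-- The model carries the involution onto any involution moving the same number of points. -/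
theorem exists_equiv {m : ℕ} (hk : 1 ≤ k) (hm : 2 * k + r = m) {a : Equiv.Perm (Fin m)} (ha : orderOf a = 2)
    (hsupp : a.support.card = 2 * k) : ∃ e : Pt k r ≃ Fin m, e.permCongr (inv₀ k r) = a := by
  have hcard : Fintype.card (Pt k r) = Fintype.card (Fin m) := by
    simp only [Fintype.card_sum, Fintype.card_prod, Fintype.card_fin, ZMod.card]
    omega
  obtain ⟨e₀⟩ := Fintype.card_eq.1 hcard
  have h0 : orderOf (inv₀ k r) = 2 := by
    refine orderOf_eq_prime (by rw [sq, inv₀_sq]) fun e => ?_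
    have := inv₀_support k r
    rw [e, Equiv.Perm.support_one, Finset.card_empty] at this
    omega
  set b := e₀.permCongrHom (inv₀ k r) with hb
  have hbo : orderOf b = 2 := by rw [hb, MulEquiv.orderOf_eq, h0]
  have hbs : b.support.card = 2 * k := by
    rw [← inv₀_support k r]
    refine (Finset.card_equiv e₀ fun z => ?_).symm
    simp [hb, Equiv.permCongrHom, Equiv.permCongr_apply, Equiv.Perm.mem_support]
  obtain ⟨c, hc⟩ := isConj_iff.1 (Equiv.Perm.isConj_iff_cycleType_eq.2
    (by rw [cycleType_eq hbo, cycleType_eq ha, hbs, hsupp] : b.cycleType = a.cycleType))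
  exact ⟨e₀.trans c, by
    rw [← hc, hb]
    ext z
    simp [Equiv.permCongrHom, Equiv.permCongr_apply]⟩

end Model

open Model in
/-- The hypothesis holds. -/
theorem hyp_of_iso (n r : ℕ) (hn : 1 ≤ n) (hr : r = 2 ∨ r = 3) (α : ↥(alternatingGroup (Fin (4 * n + r))))
    (hα : orderOf α = 2) (hα4 : (α : Equiv.Perm (Fin (4 * n + r))).support.card = 4 * n) {G : Type u} [Group G]
    [Finite G] (h2 : ∀ H : Subgroup G, H.Normal → H.index ≠ 2) (t : G) (ht : orderOf t = 2) (S : Sylow 2 G)
    (htS : t ∈ (S : Subgroup G)) (htZ : ∀ s ∈ (S : Subgroup G), s * t = t * s)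
    (hiso : Nonempty (↥(Subgroup.centralizer ({t} : Set G)) ≃*
      ↥(Subgroup.centralizer ({α} : Set ↥(alternatingGroup (Fin (4 * n + r))))))) : Nonempty (Hyp G n) := by
  classical
  obtain ⟨iso⟩ := hiso
  obtain ⟨e, he⟩ := exists_equiv (k := 2 * n) (r := r) (m := 4 * n + r) (by omega) (by omega)
    (a := (α : Equiv.Perm (Fin (4 * n + r)))) (by rw [Subgroup.orderOf_coe, hα]) (by rw [hα4]; ring)
  have hsign : ∀ f : Equiv.Perm (Pt (2 * n) r), Equiv.Perm.sign (e.permCongr f) = Equiv.Perm.sign f :=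
    fun f => Equiv.Perm.sign_permCongr e f
  have he' : e.permCongrHom (inv₀ (2 * n) r) = (α : Equiv.Perm (Fin (4 * n + r))) := he
  -- the model inside `G`
  let toA : cent (2 * n) r →* centralizer ({α} : Set ↥(alternatingGroup (Fin (4 * n + r)))) :=
    MonoidHom.mk'
      (fun f => ⟨⟨e.permCongrHom f, Equiv.Perm.mem_alternatingGroup.2 ((hsign f).trans (mem_cent.1 f.2).1)⟩,
        mem_centralizer_singleton_iff.2 (Subtype.ext (by
          show e.permCongrHom f * (α : Equiv.Perm (Fin (4 * n + r))) = _ * e.permCongrHom f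
          rw [← he', ← map_mul, ← map_mul, (mem_cent.1 f.2).2]))⟩)
      fun a b => Subtype.ext (Subtype.ext (map_mul e.permCongrHom (a : Equiv.Perm _) b))
  have htoA_inj : Function.Injective toA := fun a b h => Subtype.ext
    (e.permCongrHom.injective (congrArg Subtype.val (congrArg Subtype.val h)))
  have htoA_surj : Function.Surjective toA := by
    rintro ⟨⟨g, hg⟩, hgc⟩
    have hgc' : g * (α : Equiv.Perm (Fin (4 * n + r))) = α * g :=
      congrArg Subtype.val (mem_centralizer_singleton_iff.1 hgc)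
    refine ⟨⟨e.permCongrHom.symm g, mem_cent.2 ⟨?_, ?_⟩⟩, Subtype.ext (Subtype.ext ?_)⟩
    · rw [← hsign]
      show Equiv.Perm.sign (e.permCongrHom (e.permCongrHom.symm g)) = 1
      rw [MulEquiv.apply_symm_apply]; exact Equiv.Perm.mem_alternatingGroup.1 hg
    · refine e.permCongrHom.injective ?_
      rw [map_mul, map_mul, MulEquiv.apply_symm_apply, he', hgc']
    · exact MulEquiv.apply_symm_apply _ _
  let ψ : cent (2 * n) r →* G :=
    (centralizer ({t} : Set G)).subtype.comp (iso.symm.toMonoidHom.comp toA)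
  have hψinj : Function.Injective ψ :=
    Subtype.val_injective.comp (iso.symm.injective.comp htoA_inj)
  have hψC : ∀ f, ψ f ∈ centralizer ({t} : Set G) := fun f => (iso.symm (toA f)).2
  have hψsurj : ∀ c ∈ centralizer ({t} : Set G), ∃ f, ψ f = c := fun c hc => by
    obtain ⟨f, hf⟩ := htoA_surj (iso ⟨c, hc⟩)
    exact ⟨f, by show ((iso.symm (toA f) : centralizer ({t} : Set G)) : G) = c; rw [hf, iso.symm_apply_apply]⟩
  -- the transposition
  set τ : Equiv.Perm (Fin r) := Equiv.swap ⟨0, by omega⟩ ⟨1, by omega⟩ with hτdef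
  have hτ2 : τ * τ = 1 := Equiv.swap_mul_self _ _
  have hτs : Equiv.Perm.sign τ = -1 := Equiv.Perm.sign_swap (fun h => zero_ne_one (Fin.mk.inj_iff.1 h))
  -- the involution
  obtain ⟨z, hz⟩ := hψsurj t (mem_centralizer_singleton_iff.2 rfl)
  have hz0 : (z : Equiv.Perm (Pt (2 * n) r)) = inv₀ (2 * n) r := by
    refine central_involution τ hτs hr (even_two_mul n) z.2 (fun e => ?_) ?_ fun f hf => ?_
    · have h1 : z = 1 := Subtype.ext e
      rw [h1, map_one] at hz
      rw [← hz, orderOf_one] at ht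
      exact absurd ht (by norm_num)
    · have h1 : z * z = 1 := hψinj (by rw [map_mul, hz, map_one, ← sq, ← ht, pow_orderOf_eq_one])
      exact congrArg Subtype.val h1
    · have h1 : z * ⟨f, hf⟩ = ⟨f, hf⟩ * z := hψinj (by
        rw [map_mul, map_mul, hz]; exact (mem_centralizer_singleton_iff.1 (hψC _)).symm)
      exact congrArg Subtype.val h1
  have hone : iota τ (1 : Fin (2 * n) → ZMod 2) = inv₀ (2 * n) r := by
    simp only [iota, inv₀]
    congr 1
    simp [tau, CharTwo.two_eq_zero]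
  refine ⟨{
    one_le := hn
    t := t
    ι := fun v => ψ ⟨iota τ v, iota_mem τ hτs v⟩
    ι_add := fun u v => by rw [← map_mul]; exact congrArg ψ (Subtype.ext (iota_add τ hτ2 u v))
    ι_inj := fun u v h => (base_lift_inj (p := 1) (q := 1) (by
      rw [(sumCongr_inj (congrArg Subtype.val (hψinj h))).1])).1
    σ := ψ.comp ((sigma (r := r)).codRestrict (cent (2 * n) r) sigma_mem)
    conj := fun p v => by
      show ψ _ * ψ _ = ψ _ * ψ _
      rw [← map_mul, ← map_mul]
      exact congrArg ψ (Subtype.ext (sigma_iota τ p v))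
    t_eq := (congrArg ψ (Subtype.ext (hone.trans hz0.symm))).trans hz
    O := ((odd (2 * n) r).subgroupOf (cent (2 * n) r)).map ψ
    O_le := by rintro _ ⟨f, -, rfl⟩; exact hψC f
    O_norm := by
      rintro c hc _ ⟨f, hf, rfl⟩
      obtain ⟨g, rfl⟩ := hψsurj c hc
      exact ⟨g * f * g⁻¹, odd_conj g.2 hf, by rw [map_mul, map_mul, map_inv]⟩
    O_odd := by
      rw [Subgroup.card_map_of_injective hψinj, Nat.card_congr (subgroupOfEquivOfLe odd_le).toEquiv]
      exact card_odd hr
    O_disj := fun v p h => by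
      obtain ⟨f, hf, e⟩ := h
      have e' : f = ⟨iota τ v, iota_mem τ hτs v⟩ * ⟨sigma p, sigma_mem p⟩ := hψinj (e.trans (map_mul ψ _ _).symm)
      subst e'
      exact odd_disj τ hf
    gen := fun c hc => by
      obtain ⟨f, rfl⟩ := hψsurj c hc
      obtain ⟨o, ho, v, p, e⟩ := cent_decomp τ hτs f.2
      refine ⟨ψ ⟨o, odd_le ho⟩, ⟨⟨o, odd_le ho⟩, ho, rfl⟩, v, p, ?_⟩
      show ψ f = ψ _ * (ψ _ * ψ _)
      rw [← map_mul, ← map_mul]
      exact congrArg ψ (Subtype.ext e)
    two_central := ⟨S, fun s hs => mem_centralizer_singleton_iff.2 (htZ s hs)⟩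
    no_index_two := fun H h => h2 H (Subgroup.normal_of_index_eq_two h) h }⟩

end Cfsg.Agent.AltCent
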