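import Cfsg.Agent.Lib.AltCent.Transfer

/-!
# The orbit of the central involution in the base

The conjugates of `t` in the base are `t` and `2n` further vectors, uniformly the points or the
complements of points; the normaliser of the base induces every permutation of these `2n + 1`
vectors, whose sum is zero.  This gives the fusion in the base.
-/

set_option autoImplicit false
set_option linter.unusedSectionVars false
set_option linter.style.haveILetI false
set_option linter.unusedSimpArgs false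

namespace Cfsg.Agent.AltCent

open Subgroup

universe u

namespace Hyp

variable {G : Type u} [Group G] [Finite G] {n : ℕ} (h : Hyp G n)

theorem zmod_two_xor : ∀ c : ZMod 2, Xor (c + 1 = 0) (c = 0) := by decide

/-- The indicator of a set of points. -/
def ind (T : Finset (Fin (2 * n))) : Fin (2 * n) → ZMod 2 := fun x => if x ∈ T then 1 else 0

/-- The number of ones. -/
def wt (u : Fin (2 * n) → ZMod 2) : ℕ := (Finset.univ.filter fun i => u i = 1).card

theorem ind_union {T T' : Finset (Fin (2 * n))} (hd : Disjoint T T') :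
    ind (T ∪ T') = ind T + ind T' := by
  funext x
  simp only [ind, Pi.add_apply, Finset.mem_union]
  by_cases hx : x ∈ T
  · simp [hx, Finset.disjoint_left.1 hd hx]
  · simp [hx]

theorem ind_pair {i j : Fin (2 * n)} (hij : i ≠ j) : ind ({i, j} : Finset _) = δ i + δ j := by
  funext x
  by_cases hi : x = i
  · subst hi; simp [ind, δ_same, δ_ne hij]
  by_cases hj : x = j
  · subst hj; simp [ind, δ_same, δ_ne hi]
  simp [ind, δ_ne hi, δ_ne hj, hi, hj]

theorem wt_one_add_ind (T : Finset (Fin (2 * n))) : wt (1 + ind T) = 2 * n - T.card := by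
  classical
  rw [wt, show (Finset.univ.filter fun i => (1 + ind T) i = 1) = Tᶜ from ?_, Finset.card_compl,
    Fintype.card_fin]
  ext x
  by_cases hx : x ∈ T <;> simp [ind, hx]

theorem wt_δ (a : Fin (2 * n)) : wt (δ a) = 1 := by
  rw [wt, show (Finset.univ.filter fun i => (δ a : Fin (2 * n) → ZMod 2) i = 1) = {a} from ?_,
    Finset.card_singleton]
  ext x
  by_cases hx : x = a
  · subst hx; simp [δ_same]
  · simp [δ_ne hx, hx]

theorem wt_comp (u : Fin (2 * n) → ZMod 2) (p : Equiv.Perm (Fin (2 * n))) : wt (u ∘ ⇑p) = wt u :=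
  Finset.card_equiv p (by simp)

/-- An element of the centraliser of `t` acts on the base as a permutation. -/
theorem conj_of_mem_C {k : G} (hk : k ∈ h.C) {s : Fin (2 * n) → ZMod 2}
    (hE : k * h.ι s * k⁻¹ ∈ h.E) : ∃ p : Equiv.Perm (Fin (2 * n)), k * h.ι s * k⁻¹ = h.ι (s ∘ ⇑p) := by
  obtain ⟨w, p, hwp⟩ := h.mem_W.1 (h.Θ_mem ⟨k, hk⟩)
  exact ⟨p⁻¹, by rw [h.conj_eq_Θ hk (h.ι_mem_W s) (h.E_le_W hE), ← hwp, h.conj_ι]⟩

/-- The edges of a side determine the images of its even subsets. -/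
theorem edge_sum {g : G} {f : Fin (2 * n) → Fin (2 * n)} (T : Finset (Fin (2 * n)))
    (hev : Even T.card) (hinj : Set.InjOn f T)
    (he : ∀ i ∈ T, ∀ j ∈ T, g * h.ι (δ i + δ j) * g⁻¹ = h.ι (δ (f i) + δ (f j))) :
    g * h.ι (ind T) * g⁻¹ = h.ι (ind (T.image f)) := by
  induction T using Finset.strongInduction with
  | H T ih =>
    rcases T.eq_empty_or_nonempty with rfl | ⟨i, hi⟩
    · rw [Finset.image_empty, show ind (n := n) ∅ = 0 from funext fun x => by simp [ind], h.ι_zero,
        mul_one, mul_inv_cancel]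
    obtain ⟨m, hm⟩ := hev
    obtain ⟨j, hj, hji⟩ := Finset.exists_mem_ne (s := T)
      (by have := Finset.card_pos.2 ⟨i, hi⟩; omega) i
    have hsub : ({i, j} : Finset _) ⊆ T := by
      intro x hx
      simp only [Finset.mem_insert, Finset.mem_singleton] at hx
      rcases hx with rfl | rfl
      · exact hi
      · exact hj
    set T' := T \ {i, j} with hT'
    have hd : Disjoint ({i, j} : Finset _) T' := Finset.disjoint_sdiff
    have hT : T = {i, j} ∪ T' := (Finset.union_sdiff_of_subset hsub).symm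
    have hss : T' ⊂ T := Finset.sdiff_ssubset hsub ⟨i, Finset.mem_insert_self _ _⟩
    have hfij : f i ≠ f j := fun e => hji (hinj hi hj e).symm
    have hev' : Even T'.card := by
      rw [hT', Finset.card_sdiff_of_subset hsub, Finset.card_pair (Ne.symm hji), hm]
      exact ⟨m - 1, by omega⟩
    have e1 := ih T' hss hev' (hinj.mono (Finset.coe_subset.2 hss.1))
      fun a ha b hb => he a (hss.1 ha) b (hss.1 hb)
    have hd' : Disjoint ({f i, f j} : Finset _) (T'.image f) := by
      rw [show ({f i, f j} : Finset _) = ({i, j} : Finset _).image f by simp]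
      rw [Finset.disjoint_left]
      intro x hx hx'
      obtain ⟨a, ha, rfl⟩ := Finset.mem_image.1 hx
      obtain ⟨b, hb, e⟩ := Finset.mem_image.1 hx'
      exact Finset.disjoint_left.1 hd ha (hinj (hss.1 hb) (hsub ha) e ▸ hb)
    conv_lhs => rw [hT]
    conv_rhs => rw [hT]
    rw [ind_union hd, ind_pair (Ne.symm hji), h.conj_add, e1, he i hi j hj, ← h.ι_add,
      Finset.image_union, show ({i, j} : Finset _).image f = {f i, f j} by simp, ind_union hd',
      ind_pair hfij]

/-- Conjugate of a vector of the base by an element of its normaliser. -/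
theorem conj_mem_of_normalizer {k : G} (hk : k ∈ normalizer (h.E : Set G))
    (s : Fin (2 * n) → ZMod 2) : k * h.ι s * k⁻¹ ∈ h.E :=
  (mem_normalizer_iff.1 hk _).1 (h.ι_mem_E s)

theorem mem_normalizer_of_conj {k : G} (hk : ∀ s, k * h.ι s * k⁻¹ ∈ h.E) :
    k ∈ normalizer (h.E : Set G) :=
  mem_normalizer_fintype fun a ha => by
    obtain ⟨s, rfl⟩ := ha
    exact hk s

/-- The conjugates of `t` in the base. -/
def InOrbit (u : Fin (2 * n) → ZMod 2) : Prop :=
  ∃ g ∈ normalizer (h.E : Set G), g * h.ι u * g⁻¹ = h.t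

theorem InOrbit.comp {u : Fin (2 * n) → ZMod 2} (hu : h.InOrbit u) (p : Equiv.Perm (Fin (2 * n))) :
    h.InOrbit (u ∘ ⇑p) := by
  obtain ⟨g, hg, e⟩ := hu
  have hσ : h.σ p ∈ normalizer (h.E : Set G) :=
    h.mem_normalizer_of_conj fun s => ⟨_, (h.σ_conj p s).symm⟩
  refine ⟨g * h.σ p, mul_mem hg hσ, ?_⟩
  rw [show g * h.σ p * h.ι (u ∘ ⇑p) * (g * h.σ p)⁻¹ =
    g * (h.σ p * h.ι (u ∘ ⇑p) * (h.σ p)⁻¹) * g⁻¹ by group, h.σ_conj]
  rw [show (u ∘ ⇑p) ∘ ⇑p⁻¹ = u from funext fun i => by simp]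
  exact e

theorem InOrbit.map {u v : Fin (2 * n) → ZMod 2} (hu : h.InOrbit u) {k : G}
    (hk : k ∈ normalizer (h.E : Set G)) (e : k * h.ι u * k⁻¹ = h.ι v) : h.InOrbit v := by
  obtain ⟨g, hg, e'⟩ := hu
  refine ⟨g * k⁻¹, mul_mem hg (inv_mem hk), ?_⟩
  rw [← e, ← e']
  group

theorem InOrbit.parity {u : Fin (2 * n) → ZMod 2} (hu : h.InOrbit u) : u = 1 ∨ Odd (wt u) := by
  obtain ⟨g, -, e⟩ := hu
  exact h.odd_of_conj_t e

theorem InOrbit.ne_zero {u : Fin (2 * n) → ZMod 2} (hu : h.InOrbit u) : u ≠ 0 := by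
  rintro rfl
  obtain ⟨g, -, e⟩ := hu
  rw [h.ι_zero, mul_one, mul_inv_cancel, ← h.t_eq] at e
  have := congrFun (h.ι_eq_one.1 e.symm) ⟨0, by have := h.one_le; omega⟩
  exact one_ne_zero this

theorem perm_of_wt {u v : Fin (2 * n) → ZMod 2} (e : wt u = wt v) :
    ∃ p : Equiv.Perm (Fin (2 * n)), u ∘ ⇑p = v := by
  classical
  let P : Fin (2 * n) → Prop := fun i => v i = 1
  let Q : Fin (2 * n) → Prop := fun i => u i = 1
  have e0 : Fintype.card {i // P i} = Fintype.card {i // Q i} := by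
    rw [Fintype.card_subtype, Fintype.card_subtype]
    exact e.symm
  let p := (Fintype.equivOfCardEq e0).extendSubtype
  refine ⟨p, funext fun i => ?_⟩
  have h01 : ∀ a b : ZMod 2, (a = 1 ↔ b = 1) → a = b := by decide
  refine h01 _ _ ⟨fun hu => ?_, fun hv => ?_⟩
  · by_contra hv
    exact (Equiv.extendSubtype_not_mem (Fintype.equivOfCardEq e0) i hv) hu
  · exact Equiv.extendSubtype_mem (Fintype.equivOfCardEq e0) i hv

/-- A conjugate of `t` other than `t` has weight one or `2n - 1`. -/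
theorem InOrbit.weight {u : Fin (2 * n) → ZMod 2} (hu : h.InOrbit u) (h1 : u ≠ 1) :
    wt u = 1 ∨ wt u + 1 = 2 * n := by
  classical
  by_contra hno
  push Not at hno
  have hu0 := InOrbit.ne_zero h hu
  obtain ⟨g, hg, e⟩ := hu
  obtain ⟨hodd, f, hf, hdisj⟩ :=
    h.two_sides (fun s => h.E_le_W (h.conj_mem_of_normalizer hg s)) e hu0 h1
  set S : ZMod 2 → Finset (Fin (2 * n)) := fun a => Finset.univ.filter fun i => u i = a with hS
  have hsum : (S 1).card + (S 0).card = 2 * n := by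
    have := Finset.card_filter_add_card_filter_not (s := (Finset.univ : Finset (Fin (2 * n))))
      (fun i => u i = 1)
    rw [Finset.card_univ, Fintype.card_fin] at this
    refine Eq.trans ?_ this
    congr 1
    exact congrArg Finset.card (Finset.filter_congr fun i _ => zmod_two_zero_iff _)
  obtain ⟨m1, hm1⟩ := hodd 1
  obtain ⟨m0, hm0⟩ := hodd 0
  have hw : wt u = (S 1).card := rfl
  have hc1 : 2 ≤ (S 1).card := by have := hm1; have := hno.1; omega
  have hc0 : 2 ≤ (S 0).card := by have := hm1; have := hm0; have := hno.2; omega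
  obtain ⟨i, hi, j, hj, hij⟩ := Finset.one_lt_card.1 (show 1 < (S 1).card by omega)
  obtain ⟨k, hk, l, hl, hkl⟩ := Finset.one_lt_card.1 (show 1 < (S 0).card by omega)
  have hv : ∀ {x a}, x ∈ S a → u x = a := fun hx => (Finset.mem_filter.1 hx).2
  have h10 : ∀ {x y}, x ∈ S 1 → y ∈ S 0 → x ≠ y := fun hx hy exy => by
    subst exy
    exact one_ne_zero ((hv hx).symm.trans (hv hy))
  set v : Fin (2 * n) → ZMod 2 := u + (ind ({i, j} : Finset _) + ind ({k, l} : Finset _)) with hvdef
  have hperm : u ∘ ⇑(Equiv.swap i k * Equiv.swap j l) = v := by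
    funext x
    rw [hvdef, ind_pair hij, ind_pair hkl]
    have hik := h10 hi hk
    have hil := h10 hi hl
    have hjk := h10 hj hk
    have hjl := h10 hj hl
    simp only [Function.comp_apply, Equiv.Perm.mul_apply, Pi.add_apply]
    by_cases hx : x = i
    · subst hx
      rw [Equiv.swap_apply_of_ne_of_ne hij hil, Equiv.swap_apply_left, hv hk, hv hi, δ_same,
        δ_ne hij, δ_ne hik, δ_ne hil]
      rfl
    by_cases hxj : x = j
    · subst hxj
      rw [Equiv.swap_apply_left, Equiv.swap_apply_of_ne_of_ne (Ne.symm hil) (Ne.symm hkl), hv hl,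
        hv hj, δ_same, δ_ne hx, δ_ne hjk, δ_ne hjl]
      rfl
    by_cases hxk : x = k
    · subst hxk
      rw [Equiv.swap_apply_of_ne_of_ne hxj hkl, Equiv.swap_apply_right, hv hi, hv hk, δ_same,
        δ_ne hx, δ_ne hxj, δ_ne hkl]
      rfl
    by_cases hxl : x = l
    · subst hxl
      rw [Equiv.swap_apply_right, Equiv.swap_apply_of_ne_of_ne (Ne.symm hij) hjk, hv hj, hv hl,
        δ_same, δ_ne hx, δ_ne hxj, δ_ne hxk]
      rfl
    rw [Equiv.swap_apply_of_ne_of_ne hxj hxl, Equiv.swap_apply_of_ne_of_ne hx hxk, δ_ne hx,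
      δ_ne hxj, δ_ne hxk, δ_ne hxl]
    simp
  have hfi : f 1 i ≠ f 1 j := fun e' => hij ((hf 1).1 hi hj e')
  have hfk : f 0 k ≠ f 0 l := fun e' => hkl ((hf 0).1 hk hl e')
  have himg : g * h.ι v * g⁻¹ = h.ι (1 + ind ({f 1 i, f 1 j, f 0 k, f 0 l} : Finset _)) := by
    rw [hvdef, h.conj_add, h.conj_add, e, ind_pair hij, ind_pair hkl, (hf 1).2.1 i hi j hj,
      (hf 0).2.1 k hk l hl, ← h.ι_add, ← h.t_eq, ← h.ι_add]
    congr 2
    rw [show ({f 1 i, f 1 j, f 0 k, f 0 l} : Finset _) = {f 1 i, f 1 j} ∪ {f 0 k, f 0 l} by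
      ext x; simp only [Finset.mem_union, Finset.mem_insert, Finset.mem_singleton]; tauto,
      ind_union ?_, ind_pair hfi, ind_pair hfk]
    rw [Finset.disjoint_left]
    intro x hx hx'
    simp only [Finset.mem_insert, Finset.mem_singleton] at hx hx'
    rcases hx with rfl | rfl <;> rcases hx' with e' | e'
    · exact hdisj i k hi hk hc1 hc0 e'
    · exact hdisj i l hi hl hc1 hc0 e'
    · exact hdisj j k hj hk hc1 hc0 e'
    · exact hdisj j l hj hl hc1 hc0 e'
  have hc4 : ({f 1 i, f 1 j, f 0 k, f 0 l} : Finset _).card = 4 := by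
    rw [Finset.card_insert_of_notMem, Finset.card_insert_of_notMem, Finset.card_pair hfk] <;>
      simp [hfi, hdisj i k hi hk hc1 hc0, hdisj i l hi hl hc1 hc0, hdisj j k hj hk hc1 hc0,
        hdisj j l hj hl hc1 hc0]
  rcases ((hperm ▸ InOrbit.comp h ⟨g, hg, e⟩ _ : h.InOrbit v).map h hg himg).parity with e' | e'
  · have := congrFun e' (f 1 i)
    simp [ind] at this
  · rw [wt_one_add_ind, hc4] at e'
    obtain ⟨m, hm⟩ := e'
    have := hm1
    have := hm0
    omega

/-- The other conjugates of `t` are the points, or else the complements of points. -/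
theorem not_both (hn : 2 ≤ n) {i j : Fin (2 * n)} (hi : h.InOrbit (δ i))
    (hj : h.InOrbit (1 + δ j)) : False := by
  classical
  -- change `j` to a point other than `i`
  obtain ⟨j', hj'⟩ : ∃ j', j' ≠ i :=
    Fintype.exists_ne_of_one_lt_card (by rw [Fintype.card_fin]; omega) i
  have hj2 : h.InOrbit (1 + δ j') := by
    have := hj.comp h (Equiv.swap j' j)
    rwa [show (1 + δ j : Fin (2 * n) → ZMod 2) ∘ ⇑(Equiv.swap j' j) = 1 + δ j' from ?_] at this
    funext x
    have := congrFun (δ_comp j (Equiv.swap j' j)) x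
    rw [Equiv.swap_inv, Equiv.swap_apply_right] at this
    exact congrArg (fun a => 1 + a) this
  obtain ⟨g, hg, e⟩ := hi
  have hne : (δ i : Fin (2 * n) → ZMod 2) ≠ 1 := fun e' => by
    have := congrFun e' j'
    rw [δ_ne hj'] at this
    exact zero_ne_one this
  have hne0 : (δ i : Fin (2 * n) → ZMod 2) ≠ 0 := fun e' => by
    have := congrFun e' i
    rw [δ_same] at this
    exact one_ne_zero this
  obtain ⟨-, f, hf, -⟩ :=
    h.two_sides (fun s => h.E_le_W (h.conj_mem_of_normalizer hg s)) e hne0 hne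
  set T : Finset (Fin (2 * n)) := ({i, j'} : Finset _)ᶜ with hT
  have hTS : ∀ x ∈ T, x ∈ Finset.univ.filter fun y => (δ i : Fin (2 * n) → ZMod 2) y = 0 := by
    intro x hx
    simp only [hT, Finset.mem_compl, Finset.mem_insert, Finset.mem_singleton, not_or] at hx
    simp [δ_ne hx.1]
  have hTc : T.card = 2 * n - 2 := by
    rw [hT, Finset.card_compl, Finset.card_pair (Ne.symm hj'), Fintype.card_fin]
  have hinj : Set.InjOn (f 0) T := fun a ha b hb => (hf 0).1 (hTS a ha) (hTS b hb)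
  have hsum := h.edge_sum T (by rw [hTc]; exact ⟨n - 1, by omega⟩) hinj
    fun a ha b hb => (hf 0).2.1 a (hTS a ha) b (hTS b hb)
  have hvec : (1 + δ j' : Fin (2 * n) → ZMod 2) = δ i + ind T := by
    funext x
    simp only [Pi.add_apply, Pi.one_apply, hT, ind, Finset.mem_compl, Finset.mem_insert,
      Finset.mem_singleton]
    by_cases hxi : x = i
    · subst hxi; simp [δ_same, δ_ne (Ne.symm hj')]
    by_cases hxj : x = j'
    · subst hxj; simp [δ_same, δ_ne hxi]; decide
    simp [δ_ne hxi, δ_ne hxj, hxi, hxj]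
  have himg : g * h.ι (1 + δ j') * g⁻¹ = h.ι (1 + ind (T.image (f 0))) := by
    rw [hvec, h.conj_add, e, hsum, ← h.t_eq, ← h.ι_add]
  have hc : (T.image (f 0)).card = 2 * n - 2 := by rw [Finset.card_image_of_injOn hinj, hTc]
  rcases (hj2.map h hg himg).parity with e' | e'
  · obtain ⟨x, hx⟩ := Finset.card_pos.1 (show 0 < (T.image (f 0)).card by omega)
    have := congrFun e' x
    simp [ind, hx] at this
  · rw [wt_one_add_ind, hc] at e'
    obtain ⟨m, hm⟩ := e'
    omega

/-- Some conjugate of `t` in the base is not `t`. -/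
theorem exists_inOrbit_ne_one : ∃ u, h.InOrbit u ∧ u ≠ 1 := by
  classical
  haveI : Fact (Nat.Prime 2) := ⟨Nat.prime_two⟩
  by_contra hno
  push Not at hno
  obtain ⟨P, hEP, hPW⟩ := h.exists_sylow_le_W (IsPGroup.of_card (n := 2 * n) h.card_E) h.E_le_W
  let a : Fin (2 * n) := ⟨0, by have := h.one_le; omega⟩
  -- the vectors of even weight
  let T : Subgroup G :=
    { carrier := {x | x ∈ (P : Subgroup G) ∧ ∃ v p, h.ι v * h.σ p = x ∧ ∑ i, v i = 0}
      one_mem' := ⟨one_mem _, 0, 1, by rw [h.ι_zero, map_one, one_mul], by simp⟩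
      mul_mem' := by
        rintro _ _ ⟨hx, v, p, rfl, hv⟩ ⟨hy, w, r, rfl, hw⟩
        refine ⟨mul_mem hx hy, _, _, (h.mul_def v w p r).symm, ?_⟩
        simp only [Pi.add_apply, Function.comp_apply, Finset.sum_add_distrib, hv,
          Equiv.sum_comp p⁻¹ w, hw, add_zero]
      inv_mem' := by
        rintro _ ⟨hx, v, p, rfl, hv⟩
        refine ⟨inv_mem hx, _, _, (h.inv_def v p).symm, ?_⟩
        simp only [Function.comp_apply, Equiv.sum_comp p v, hv] }
  have hTP : T ≤ (P : Subgroup G) := fun x hx => hx.1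
  have hxT : h.ι (δ a) ∉ T := by
    rintro ⟨-, v, p, e, hv⟩
    obtain ⟨rfl, -⟩ := h.uniq (e.trans (by rw [map_one, mul_one] : h.ι (δ a) = h.ι (δ a) * h.σ 1))
    simp [δ] at hv
  have hidx : T.relIndex (P : Subgroup G) = 2 := by
    rw [Subgroup.relIndex, Subgroup.index_eq_two_iff]
    refine ⟨⟨h.ι (δ a), hEP (h.ι_mem_E _)⟩, fun b => ?_⟩
    obtain ⟨v, p, e⟩ := h.mem_W.1 (hPW b.2)
    have hmul : h.ι (δ a) * (b : G) = h.ι (δ a + v) * h.σ p := by rw [← e, h.ι_add, mul_assoc]
    have hb : ∀ x, x ∈ T.subgroupOf (P : Subgroup G) ↔ (x : G) ∈ T := fun x => mem_subgroupOf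
    have hiff : ∀ (z : G) w r, z ∈ (P : Subgroup G) → h.ι w * h.σ r = z →
        (z ∈ T ↔ ∑ i, w i = 0) := by
      intro z w r hz ez
      refine ⟨?_, fun hw => ⟨hz, w, r, ez, hw⟩⟩
      rintro ⟨-, w', r', e', hw'⟩
      rwa [← (h.uniq (e'.trans ez.symm)).1]
    rw [hb, hb, Subgroup.coe_mul, hiff _ _ _ b.2 e,
      hiff _ (v + (δ a) ∘ ⇑p⁻¹) (p * 1) (mul_mem b.2 (hEP (h.ι_mem_E _))) (by
        rw [← e, ← h.mul_def, map_one, mul_one])]
    simp only [Pi.add_apply, Function.comp_apply, Finset.sum_add_distrib,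
      Equiv.sum_comp p⁻¹ (δ a : Fin (2 * n) → ZMod 2)]
    rw [show ∑ i, (δ a : Fin (2 * n) → ZMod 2) i = 1 by simp [δ]]
    exact zmod_two_xor _
  have hord : orderOf (h.ι (δ a)) = 2 := orderOf_eq_prime (by rw [sq, h.ι_mul_self]) fun e => by
    have := congrFun (h.ι_eq_one.1 e) a
    rw [δ_same] at this
    exact one_ne_zero this
  obtain ⟨g, hgT, -, hgC⟩ := extremal_conj h.no_index_two P T hTP hidx _ hord (hEP (h.ι_mem_E _)) hxT
  -- `g` normalises the base
  have hW : ∀ s, g * h.ι s * g⁻¹ ∈ h.W := fun s => hPW (hgC (mem_map_of_mem _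
    ⟨hEP (h.ι_mem_E s), mem_centralizer_singleton_iff.2 (h.ι_comm s _).eq⟩)).1
  have hg : g ∈ normalizer (h.E : Set G) := h.mem_normalizer_of_conj fun s => h.weakly_closed hW s
  obtain ⟨v, hv⟩ := h.conj_mem_of_normalizer hg 1
  have hgC' : g ∈ h.C := by
    have hv1 : v = 1 := hno v (InOrbit.map h ⟨1, one_mem _, by rw [one_mul, inv_one, mul_one, h.t_eq]⟩
      hg hv.symm)
    subst hv1
    rw [h.t_eq] at hv
    exact h.mem_C.2 (mul_inv_eq_iff_eq_mul.1 hv.symm)
  obtain ⟨p, hp⟩ := h.conj_of_mem_C hgC' (h.conj_mem_of_normalizer hg (δ a))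
  obtain ⟨-, w, r, e, hw⟩ := hgT
  rw [hp] at e
  obtain ⟨rfl, -⟩ := h.uniq (e.trans (by rw [map_one, mul_one] : h.ι _ = h.ι _ * h.σ 1))
  simp [δ, Function.comp_apply, Equiv.sum_comp p (δ a : Fin (2 * n) → ZMod 2)] at hw

end Hyp

end Cfsg.Agent.AltCent
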