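import Cfsg.Agent.Lib.AltCent.Setup

/-!
# Elementary abelian subgroups of the largest rank in the wreath product

Such a subgroup of rank `2n` is given by a set of disjoint pairs of points: it contains the vectors
constant on the pairs and, for each pair, a lift of its transposition.  An element of the wreath
product inducing a transvection on it has as centre the indicator of two points.
-/

set_option autoImplicit false
set_option linter.unusedSectionVars false
set_option linter.style.haveILetI false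

namespace Cfsg.Agent.AltCent

open Subgroup

universe u

namespace Hyp

variable {G : Type u} [Group G] [Finite G] {n : ℕ} (h : Hyp G n)

/-- The indicator of a point. -/
abbrev δ (a : Fin (2 * n)) : Fin (2 * n) → ZMod 2 := Pi.single a 1

theorem δ_same (a : Fin (2 * n)) : (δ a : Fin (2 * n) → ZMod 2) a = 1 := Pi.single_eq_same a 1

theorem δ_ne {a i : Fin (2 * n)} (hi : i ≠ a) : (δ a : Fin (2 * n) → ZMod 2) i = 0 :=
  Pi.single_eq_of_ne hi 1

theorem three_le_card {α : Type*} [Finite α] {a b c : α} (hab : a ≠ b) (hac : a ≠ c)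
    (hbc : b ≠ c) : 3 ≤ Nat.card α := by
  classical
  haveI := Fintype.ofFinite α
  rw [Nat.card_eq_fintype_card]
  calc 3 = ({a, b, c} : Finset α).card := (Finset.card_eq_three.2 ⟨a, b, c, hab, hac, hbc, rfl⟩).symm
    _ ≤ Fintype.card α := Finset.card_le_univ _

theorem δ_comp (a : Fin (2 * n)) (p : Equiv.Perm (Fin (2 * n))) :
    (δ a : Fin (2 * n) → ZMod 2) ∘ ⇑p⁻¹ = δ (p a) := by
  funext i
  simp only [δ, Function.comp_apply, Pi.single_apply]
  have : (p⁻¹ i = a) ↔ (i = p a) := by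
    constructor
    · intro e; rw [← e, Equiv.Perm.coe_inv, Equiv.apply_symm_apply]
    · intro e; rw [e, Equiv.Perm.coe_inv, Equiv.symm_apply_apply]
  exact if_congr this rfl rfl

theorem δ_add_ne_zero {a b : Fin (2 * n)} (hab : a ≠ b) :
    (δ a : Fin (2 * n) → ZMod 2) + δ b ≠ 0 := fun e => by
  have := congrFun e a
  rw [Pi.add_apply, δ_same, δ_ne hab, add_zero] at this
  exact one_ne_zero this

variable {A : Subgroup G} (hAW : A ≤ h.W) (hsq : ∀ a ∈ A, a * a = 1)
  (hcard : Nat.card A = 2 ^ (2 * n))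

/-- The permutations induced by `A`. -/
def perms (A : Subgroup G) : Subgroup (Equiv.Perm (Fin (2 * n))) where
  carrier := {p | ∃ v, h.ι v * h.σ p ∈ A}
  one_mem' := ⟨0, by rw [h.ι_zero, map_one, one_mul]; exact one_mem A⟩
  mul_mem' := by
    rintro p r ⟨u, hu⟩ ⟨v, hv⟩
    exact ⟨_, h.mul_def u v p r ▸ mul_mem hu hv⟩
  inv_mem' := by
    rintro p ⟨v, hv⟩
    exact ⟨_, h.inv_def v p ▸ inv_mem hv⟩

theorem mem_perms {p : Equiv.Perm (Fin (2 * n))} : p ∈ h.perms A ↔ ∃ v, h.ι v * h.σ p ∈ A :=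
  Iff.rfl

include hsq in
theorem comm_of_sq {x y : G} (hx : x ∈ A) (hy : y ∈ A) : x * y = y * x := by
  have h1 := hsq _ (mul_mem hx hy)
  rw [← inv_eq_of_mul_eq_one_right h1, mul_inv_rev, inv_eq_of_mul_eq_one_right (hsq x hx),
    inv_eq_of_mul_eq_one_right (hsq y hy)]

include hsq in
theorem perms_comm {p r : Equiv.Perm (Fin (2 * n))} (hp : p ∈ h.perms A) (hr : r ∈ h.perms A) :
    p * r = r * p := by
  obtain ⟨u, hu⟩ := hp
  obtain ⟨v, hv⟩ := hr
  have e := comm_of_sq hsq hu hv
  rw [h.mul_def, h.mul_def] at e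
  exact (h.uniq e).2

include hsq in
theorem perm_sq {v : Fin (2 * n) → ZMod 2} {p : Equiv.Perm (Fin (2 * n))}
    (hm : h.ι v * h.σ p ∈ A) : p * p = 1 ∧ v ∘ ⇑p = v := by
  have e := hsq _ hm
  rw [h.mul_def] at e
  have h1 : h.ι (v + v ∘ ⇑p⁻¹) * h.σ (p * p) = h.ι 0 * h.σ 1 := by
    rw [e, h.ι_zero, map_one, one_mul]
  obtain ⟨e1, e2⟩ := h.uniq h1
  have e3 : p⁻¹ = p := inv_eq_of_mul_eq_one_right e2
  rw [e3] at e1
  refine ⟨e2, funext fun i => ?_⟩
  have := congrFun e1 i
  rw [Pi.add_apply, Pi.zero_apply, CharTwo.add_eq_zero] at this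
  exact this.symm

include hsq in
theorem vec_invariant {u v : Fin (2 * n) → ZMod 2} {p : Equiv.Perm (Fin (2 * n))}
    (hu : h.ι u ∈ A) (hp : h.ι v * h.σ p ∈ A) : u ∘ ⇑p = u := by
  have e := comm_of_sq hsq hp hu
  have e1 : h.ι (u ∘ ⇑p⁻¹) = h.ι u := by
    rw [← h.conj_ι v u p, e, mul_inv_cancel_right]
  have e2 := h.ι_inj e1
  funext i
  have := congrFun e2 (p i)
  rw [Function.comp_apply, Equiv.Perm.coe_inv, Equiv.symm_apply_apply] at this
  exact this.symm

include hAW hsq hcard in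
/-- The shape of `A`: orbits of length at most two, all transpositions of orbits, all invariant
vectors. -/
theorem pairing :
    (∀ (p r : Equiv.Perm (Fin (2 * n))) (a : Fin (2 * n)), p ∈ h.perms A → r ∈ h.perms A →
      p a ≠ a → r a ≠ a → p a = r a) ∧
    (∀ (p : Equiv.Perm (Fin (2 * n))) (a : Fin (2 * n)), p ∈ h.perms A → p a ≠ a →
      Equiv.swap a (p a) ∈ h.perms A) ∧
    ∀ u : Fin (2 * n) → ZMod 2, (∀ p ∈ h.perms A, u ∘ ⇑p = u) → h.ι u ∈ A := by
  classical
  set Q := MulAction.orbitRel.Quotient (h.perms A) (Fin (2 * n))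
  haveI : Fintype Q := Fintype.ofFinite Q
  let mkQ : Fin (2 * n) → Q := fun a => Quotient.mk (MulAction.orbitRel (h.perms A) (Fin (2 * n))) a
  let F : Q → Type := fun o => {a : Fin (2 * n) // mkQ a = o}
  have hmk : ∀ (p : Equiv.Perm (Fin (2 * n))), p ∈ h.perms A → ∀ a, mkQ (p a) = mkQ a :=
    fun p hp a => Quotient.sound (show _ ∈ MulAction.orbit (h.perms A) a from ⟨⟨p, hp⟩, rfl⟩)
  have hout : ∀ a : Fin (2 * n), ∃ r ∈ h.perms A, r (mkQ a).out = a := fun a => by
    obtain ⟨⟨r, hr⟩, hra⟩ :=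
      Quotient.exact (Quotient.out_eq (mkQ a)).symm
    exact ⟨r, hr, hra⟩
  have hfix : ∀ p ∈ h.perms A, ∀ a, p (mkQ a).out = (mkQ a).out → p a = a := by
    intro p hp a e
    obtain ⟨r, hr, hra⟩ := hout a
    rw [← hra, ← Equiv.Perm.mul_apply, h.perms_comm hsq hp hr, Equiv.Perm.mul_apply, e]
  let P2 := {z : (Fin (2 * n) → ZMod 2) × Equiv.Perm (Fin (2 * n)) // h.ι z.1 * h.σ z.2 ∈ A}
  have hP2 : Nat.card P2 = 2 ^ (2 * n) := by
    rw [← hcard]
    refine Nat.card_eq_of_bijective (fun z : P2 => (⟨_, z.2⟩ : A)) ⟨fun z z' e => ?_, fun x => ?_⟩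
    · obtain ⟨e1, e2⟩ := h.uniq (congrArg Subtype.val e)
      exact Subtype.ext (Prod.ext e1 e2)
    · obtain ⟨v, p, e⟩ := hAW x.2
      exact ⟨⟨(v, p), e ▸ x.2⟩, Subtype.ext e⟩
  let f : P2 → ∀ o : Q, ZMod 2 × F o := fun z o =>
    (z.1.1 o.out, ⟨z.1.2 o.out, (hmk _ ⟨_, z.2⟩ _).trans (Quotient.out_eq o)⟩)
  have hf : Function.Injective f := by
    rintro ⟨⟨v, p⟩, hz⟩ ⟨⟨v', p'⟩, hz'⟩ e
    have e1 : ∀ a, v (mkQ a).out = v' (mkQ a).out := fun a => congrArg Prod.fst (congrFun e (mkQ a))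
    have e2 : ∀ a, p (mkQ a).out = p' (mkQ a).out := fun a =>
      congrArg (fun w : ZMod 2 × F (mkQ a) => w.2.1) (congrFun e (mkQ a))
    have hpp : p = p' := by
      refine Equiv.ext fun a => ?_
      have h1 := hfix (p'⁻¹ * p) (mul_mem (inv_mem ⟨_, hz'⟩) ⟨_, hz⟩) a (by
        rw [Equiv.Perm.mul_apply, e2 a, Equiv.Perm.coe_inv, Equiv.symm_apply_apply])
      rw [Equiv.Perm.mul_apply, Equiv.Perm.inv_eq_iff_eq] at h1
      exact h1
    subst hpp
    have hd : h.ι (v + v') ∈ A := by
      have := mul_mem hz (inv_mem hz')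
      rwa [mul_inv_rev, h.ι_inv, mul_assoc, ← mul_assoc (h.σ p), mul_inv_cancel, one_mul,
        ← h.ι_add] at this
    have hv : v = v' := by
      funext a
      obtain ⟨r, ⟨u, hu⟩, hra⟩ := hout a
      have := congrFun (h.vec_invariant hsq hd hu) (mkQ a).out
      rw [Function.comp_apply, hra, Pi.add_apply, Pi.add_apply, e1 a, CharTwo.add_self_eq_zero,
        CharTwo.add_eq_zero] at this
      exact this
    subst hv
    rfl
  haveI : ∀ o, Finite (F o) := fun o => Subtype.finite
  have hFsum : ∑ o : Q, Nat.card (F o) = 2 * n := by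
    rw [← Nat.card_sigma, Nat.card_congr (Equiv.sigmaFiberEquiv mkQ), Nat.card_fin]
  have hFpos : ∀ o, 1 ≤ Nat.card (F o) := fun o => by
    haveI : Nonempty (F o) := ⟨⟨o.out, Quotient.out_eq o⟩⟩
    exact Nat.card_pos
  have hineq : ∀ o, 2 * Nat.card (F o) ≤ 2 ^ Nat.card (F o) := fun o => by
    obtain ⟨j, hj⟩ : ∃ j, Nat.card (F o) = j + 1 := ⟨_, (Nat.succ_pred_eq_of_pos (hFpos o)).symm⟩
    rw [hj, pow_succ']
    have := Nat.lt_two_pow_self (n := j)
    omega
  have hT : Nat.card (∀ o : Q, ZMod 2 × F o) = ∏ o : Q, 2 * Nat.card (F o) := by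
    rw [Nat.card_pi]
    refine Finset.prod_congr rfl fun o _ => ?_
    rw [Nat.card_prod, Nat.card_zmod]
  have hle : Nat.card P2 ≤ ∏ o : Q, 2 * Nat.card (F o) := hT ▸ Nat.card_le_card_of_injective f hf
  have hup : ∏ o : Q, 2 ^ Nat.card (F o) = 2 ^ (2 * n) := by rw [Finset.prod_pow_eq_pow_sum, hFsum]
  have hsmall : ∀ o, Nat.card (F o) ≤ 2 := by
    intro o
    by_contra h3
    have hstrict : 2 * Nat.card (F o) < 2 ^ Nat.card (F o) := by
      obtain ⟨j, hj⟩ : ∃ j, Nat.card (F o) = j + 3 := ⟨_, (Nat.sub_add_cancel (by omega)).symm⟩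
      rw [hj, pow_add]
      have := Nat.lt_two_pow_self (n := j)
      omega
    have := Finset.prod_lt_prod (fun i _ => by have := hFpos i; omega)
      (fun i _ => hineq i) ⟨o, Finset.mem_univ o, hstrict⟩
    rw [hup, ← hP2] at this
    omega
  have hbij : Function.Bijective f := by
    refine (Nat.bijective_iff_injective_and_card f).2 ⟨hf, le_antisymm
      (Nat.card_le_card_of_injective f hf) ?_⟩
    rw [hT, hP2, ← hup]
    exact Finset.prod_le_prod' fun i _ => hineq i
  have htwo : ∀ (p r : Equiv.Perm (Fin (2 * n))) (a : Fin (2 * n)), p ∈ h.perms A → r ∈ h.perms A →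
      p a ≠ a → r a ≠ a → p a = r a := by
    intro p r a hp hr hpa hra
    by_contra hne
    have h3 : 3 ≤ Nat.card (F (mkQ a)) := by
      exact three_le_card (a := (⟨a, rfl⟩ : F (mkQ a))) (b := ⟨p a, hmk p hp a⟩)
        (c := ⟨r a, hmk r hr a⟩) (fun e => hpa (congrArg Subtype.val e).symm)
        (fun e => hra (congrArg Subtype.val e).symm) (fun e => hne (congrArg Subtype.val e))
    have := hsmall (mkQ a)
    omega
  refine ⟨htwo, fun p a hp hpa => ?_, fun u hu => ?_⟩
  · -- the transposition of one orbit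
    let out' : ∀ o : Q, F o := fun o => ⟨o.out, Quotient.out_eq o⟩
    obtain ⟨⟨⟨v, r⟩, hvr⟩, hr⟩ := hbij.2 fun o =>
      if o = mkQ a then ((0 : ZMod 2), (⟨p o.out, (hmk p hp _).trans (Quotient.out_eq o)⟩ : F o))
      else ((0 : ZMod 2), out' o)
    have hr' : ∀ o : Q, r o.out = if o = mkQ a then p o.out else o.out := fun o => by
      have := congrArg (fun w : ZMod 2 × F o => w.2.1) (congrFun hr o)
      by_cases ho : o = mkQ a
      · simp only [f, ho, if_pos] at this ⊢; exact this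
      · simp only [f, ho, if_false] at this ⊢; exact this
    have hrmem : r ∈ h.perms A := ⟨v, hvr⟩
    have hre : r = Equiv.swap a (p a) := by
      have hpp : p (p a) = a := by
        obtain ⟨u, hu⟩ := hp
        rw [← Equiv.Perm.mul_apply, (h.perm_sq hsq hu).1, Equiv.Perm.one_apply]
      have hon : ∀ b, mkQ b = mkQ a → r b = p b := fun b hb => by
        have h1 := hfix (p⁻¹ * r) (mul_mem (inv_mem hp) hrmem) b (by
          rw [Equiv.Perm.mul_apply, hr', if_pos hb, Equiv.Perm.coe_inv, Equiv.symm_apply_apply])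
        rwa [Equiv.Perm.mul_apply, Equiv.Perm.inv_eq_iff_eq] at h1
      refine Equiv.ext fun b => ?_
      by_cases hba : b = a
      · rw [hba, hon a rfl, Equiv.swap_apply_left]
      by_cases hbp : b = p a
      · rw [hbp, hon _ (hmk p hp a), Equiv.swap_apply_right, hpp]
      rw [Equiv.swap_apply_of_ne_of_ne hba hbp]
      refine hfix r hrmem b ?_
      by_cases ho : mkQ b = mkQ a
      · exfalso
        have h3 : 3 ≤ Nat.card (F (mkQ a)) := by
          exact three_le_card (a := (⟨a, rfl⟩ : F (mkQ a))) (b := ⟨p a, hmk p hp a⟩)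
            (c := ⟨b, ho⟩) (fun e => hpa (congrArg Subtype.val e).symm)
            (fun e => hba (congrArg Subtype.val e).symm) (fun e => hbp (congrArg Subtype.val e).symm)
        have := hsmall (mkQ a)
        omega
      · rw [hr', if_neg ho]
    exact hre ▸ hrmem
  · -- invariant vectors
    obtain ⟨⟨⟨v, r⟩, hvr⟩, hr⟩ := hbij.2 fun o => (u o.out, ⟨o.out, Quotient.out_eq o⟩)
    have hr1 : ∀ a, v (mkQ a).out = u (mkQ a).out := fun a =>
      congrArg Prod.fst (congrFun hr (mkQ a))
    have hr2 : r = 1 := Equiv.ext fun a => hfix r ⟨v, hvr⟩ a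
      (congrArg (fun w : ZMod 2 × F (mkQ a) => w.2.1) (congrFun hr (mkQ a)))
    subst hr2
    rw [map_one, mul_one] at hvr
    have : v = u := funext fun a => by
      obtain ⟨r, ⟨w, hw⟩, hra⟩ := hout a
      have e1 := congrFun (h.vec_invariant hsq hvr hw) (mkQ a).out
      have e2 := congrFun (hu r ⟨w, hw⟩) (mkQ a).out
      rw [Function.comp_apply, hra] at e1 e2
      simp only at e1
      rw [e1, hr1, ← e2]
    exact this ▸ hvr

include hAW hsq hcard in
/-- The centre of a transvection induced on `A`. -/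
theorem edge {v : Fin (2 * n) → ZMod 2} {p : Equiv.Perm (Fin (2 * n))}
    (hnorm : ∀ a ∈ A, h.ι v * h.σ p * a * (h.ι v * h.σ p)⁻¹ ∈ A) {z : G}
    (hz : ∀ a ∈ A, h.ι v * h.σ p * a * (h.ι v * h.σ p)⁻¹ * a⁻¹ = 1 ∨
      h.ι v * h.σ p * a * (h.ι v * h.σ p)⁻¹ * a⁻¹ = z)
    (hne : ∃ a ∈ A, h.ι v * h.σ p * a * (h.ι v * h.σ p)⁻¹ * a⁻¹ ≠ 1) :
    ∃ a b : Fin (2 * n), a ≠ b ∧ z = h.ι (δ a + δ b) ∧
      (((∀ r ∈ h.perms A, r a = a) ∧ (∀ r ∈ h.perms A, r b = b) ∧
          ∀ u : Fin (2 * n) → ZMod 2, h.ι u ∈ A → u ∘ ⇑p⁻¹ = u ∘ ⇑(Equiv.swap a b)) ∨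
        ∃ r ∈ h.perms A, r a = b) := by
  classical
  obtain ⟨htwo, hswap, hinv⟩ := h.pairing hAW hsq hcard
  have hdiff : ∀ u r, h.ι u * h.σ r ∈ A → h.ι v * h.σ p * (h.ι u * h.σ r) * (h.ι v * h.σ p)⁻¹ *
      (h.ι u * h.σ r)⁻¹ =
      h.ι (v + u ∘ ⇑p⁻¹ + v ∘ ⇑(p * r⁻¹ * p⁻¹) + u ∘ ⇑(r * (p * r⁻¹ * p⁻¹))) *
        h.σ (p * r * p⁻¹ * r⁻¹) := by
    intro u r _
    rw [h.mul_def, h.inv_def, h.mul_def, h.inv_def, h.mul_def]
    congr 2
  have hvec : ∀ u, h.ι u ∈ A → h.ι v * h.σ p * h.ι u * (h.ι v * h.σ p)⁻¹ * (h.ι u)⁻¹ =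
      h.ι (u ∘ ⇑p⁻¹ + u) := fun u _ => by rw [h.conj_ι, h.ι_inv, ← h.ι_add]
  by_cases horb : ∀ a, p a = a ∨ ∃ r ∈ h.perms A, r a = p a
  · -- `p` preserves every orbit
    have hcomm : ∀ r ∈ h.perms A, p * r = r * p := by
      intro r hr
      refine Equiv.ext fun a => ?_
      rw [Equiv.Perm.mul_apply, Equiv.Perm.mul_apply]
      have hrr : ∀ x, r (r x) = x := fun x => by
        obtain ⟨u, hu⟩ := hr
        rw [← Equiv.Perm.mul_apply, (h.perm_sq hsq hu).1, Equiv.Perm.one_apply]
      by_cases hra : r a = a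
      · rcases horb a with ha | ⟨s, hs, hsa⟩
        · rw [hra, ha, hra]
        · rw [hra, ← hsa, ← Equiv.Perm.mul_apply r s, h.perms_comm hsq hr hs,
            Equiv.Perm.mul_apply, hra]
      · have hab : ∀ x, x = a ∨ x = r a → p x = a ∨ p x = r a := by
          intro x hx
          rcases horb x with e | ⟨s, hs, e⟩
          · rw [e]; exact hx
          · by_cases hsx : s x = x
            · rw [← e, hsx]; exact hx
            · have hrx : r x ≠ x := by
                rcases hx with hx | hx <;> rw [hx]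
                · exact hra
                · rw [hrr]; exact Ne.symm hra
              rw [← e, htwo s r x hs hr hsx hrx]
              rcases hx with hx | hx <;> rw [hx]
              · exact Or.inr rfl
              · exact Or.inl (hrr a)
        rcases hab a (Or.inl rfl) with ha | ha <;> rcases hab (r a) (Or.inr rfl) with hb | hb
        · exact absurd (p.injective (hb.trans ha.symm)) hra
        · rw [ha, hb]
        · rw [ha, hb, hrr]
        · exact absurd (p.injective (hb.trans ha.symm)) hra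
    have hconst : ∀ u r, h.ι u * h.σ r ∈ A → ∀ s ∈ h.perms A, u ∘ ⇑s = u := by
      intro u r hur s hs
      funext a
      rw [Function.comp_apply]
      by_cases hsa : s a = a
      · rw [hsa]
      by_cases hra : r a = a
      · obtain ⟨w, hw⟩ := hswap s a hs hsa
        have e := comm_of_sq hsq hur hw
        rw [h.mul_def, h.mul_def] at e
        have e1 := congrFun (h.uniq e).1 a
        rw [Pi.add_apply, Pi.add_apply, Function.comp_apply, Function.comp_apply,
          Equiv.Perm.coe_inv, Equiv.Perm.coe_inv, Equiv.symm_swap, Equiv.swap_apply_left,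
          (Equiv.symm_apply_eq r).2 hra.symm, add_comm (w a)] at e1
        exact (add_right_cancel e1).symm
      · rw [htwo s r a hs ⟨u, hur⟩ hsa hra]
        exact congrFun (h.perm_sq hsq hur).2 a
    have hd : ∀ u r, h.ι u * h.σ r ∈ A → h.ι v * h.σ p * (h.ι u * h.σ r) * (h.ι v * h.σ p)⁻¹ *
        (h.ι u * h.σ r)⁻¹ = h.ι (v + v ∘ ⇑r) := by
      intro u r hur
      have hc := hcomm r ⟨u, hur⟩
      have e1 : p * r * p⁻¹ * r⁻¹ = 1 := by rw [hc]; group
      have e2 : p * r⁻¹ * p⁻¹ = r := by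
        rw [inv_eq_of_mul_eq_one_right (h.perm_sq hsq hur).1, hc]; group
      have e3 : u ∘ ⇑p⁻¹ = u := by
        funext a
        rw [Function.comp_apply]
        rcases horb (p⁻¹ a) with hb | ⟨s, hs, hsb⟩
        · rw [Equiv.Perm.coe_inv, Equiv.apply_symm_apply] at hb
          rw [Equiv.Perm.coe_inv, ← hb]
        · rw [Equiv.Perm.coe_inv, Equiv.apply_symm_apply] at hsb
          conv_rhs => rw [← hsb]
          exact (congrFun (hconst u r hur s hs) (p⁻¹ a)).symm
      rw [hdiff u r hur, e1, map_one, mul_one, e2, e3, (h.perm_sq hsq hur).1, Equiv.Perm.coe_one,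
        Function.comp_id]
      congr 1
      funext i
      simp only [Pi.add_apply, Function.comp_apply]
      rw [add_assoc (v i), add_comm (u i), ← add_assoc, add_assoc, CharTwo.add_self_eq_zero, add_zero]
    obtain ⟨x, hxA, hx⟩ := hne
    obtain ⟨u, r, rfl⟩ := hAW hxA
    obtain ⟨a, ha⟩ : ∃ a, v a + v (r a) ≠ 0 := by
      by_contra hno
      push Not at hno
      exact hx (by rw [hd u r hxA, show v + v ∘ ⇑r = 0 from funext hno, h.ι_zero])
    have hra : r a ≠ a := fun e => ha (by rw [e, CharTwo.add_self_eq_zero])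
    obtain ⟨w, hw⟩ := hswap r a ⟨u, hxA⟩ hra
    refine ⟨a, r a, Ne.symm hra, ?_, Or.inr ⟨r, ⟨u, hxA⟩, rfl⟩⟩
    have hval : v + v ∘ ⇑(Equiv.swap a (r a)) = δ a + δ (r a) := by
      have ha1 : v a + v (r a) = 1 := (Fin.eq_one_of_ne_zero _ ha : _)
      funext i
      rw [Pi.add_apply, Function.comp_apply, Pi.add_apply]
      by_cases hi : i = a
      · rw [hi, Equiv.swap_apply_left, ha1, δ_same, δ_ne (Ne.symm hra), add_zero]
      by_cases hi' : i = r a
      · rw [hi', Equiv.swap_apply_right, add_comm, ha1, δ_same, δ_ne hra, zero_add]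
      · rw [Equiv.swap_apply_of_ne_of_ne hi hi', CharTwo.add_self_eq_zero,
          δ_ne hi, δ_ne hi', add_zero]
    rcases hz _ hw with e | e
    · rw [hd w _ hw, hval] at e
      exact absurd (h.ι_eq_one.1 e) (δ_add_ne_zero (Ne.symm hra))
    · rw [← e, hd w _ hw, hval]
  · -- `p` moves an orbit
    push Not at horb
    obtain ⟨a, hpa, hno⟩ := horb
    -- `p` permutes the orbits
    have hnormp : ∀ r ∈ h.perms A, p * r * p⁻¹ ∈ h.perms A := by
      rintro r ⟨u, hur⟩
      have := hnorm _ hur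
      rw [h.mul_def, h.inv_def, h.mul_def] at this
      exact ⟨_, this⟩
    have hnormp' : ∀ r ∈ h.perms A, p⁻¹ * r * p ∈ h.perms A := by
      intro r hr
      have hpow : ∀ j : ℕ, ∀ s ∈ h.perms A, p ^ j * s * (p ^ j)⁻¹ ∈ h.perms A := by
        intro j
        induction j with
        | zero => intro s hs; simpa using hs
        | succ j ih =>
          intro s hs
          have := hnormp _ (ih s hs)
          rwa [pow_succ', show p * p ^ j * s * (p * p ^ j)⁻¹ = p * (p ^ j * s * (p ^ j)⁻¹) * p⁻¹ by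
            group]
      have hk := orderOf_pos p
      have e : p⁻¹ = p ^ (orderOf p - 1) := inv_eq_of_mul_eq_one_right (by
        rw [← pow_succ', Nat.sub_add_cancel hk, pow_orderOf_eq_one])
      have := hpow (orderOf p - 1) r hr
      rwa [← e, inv_inv] at this
    -- the orbit of a point and its indicator
    let O : Fin (2 * n) → (Fin (2 * n) → ZMod 2) := fun c i =>
      if i = c ∨ ∃ r ∈ h.perms A, r c = i then 1 else 0
    have hOA : ∀ c, h.ι (O c) ∈ A := by
      intro c
      refine hinv _ fun s hs => funext fun i => ?_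
      simp only [Function.comp_apply, O]
      refine if_congr ⟨?_, ?_⟩ rfl rfl
      · rintro (e | ⟨r, hr, e⟩)
        · exact Or.inr ⟨s⁻¹, inv_mem hs, by rw [← e, Equiv.Perm.coe_inv, Equiv.symm_apply_apply]⟩
        · exact Or.inr ⟨s⁻¹ * r, mul_mem (inv_mem hs) hr, by
            rw [Equiv.Perm.mul_apply, e, Equiv.Perm.coe_inv, Equiv.symm_apply_apply]⟩
      · rintro (e | ⟨r, hr, e⟩)
        · exact Or.inr ⟨s, hs, by rw [e]⟩
        · exact Or.inr ⟨s * r, mul_mem hs hr, by rw [Equiv.Perm.mul_apply, e]⟩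
    have hOp : ∀ c, O c ∘ ⇑p⁻¹ = O (p c) := fun c => funext fun i => by
      simp only [Function.comp_apply, O]
      refine if_congr ⟨?_, ?_⟩ rfl rfl
      · rintro (e | ⟨r, hr, e⟩)
        · exact Or.inl (by rw [← e, Equiv.Perm.coe_inv, Equiv.apply_symm_apply])
        · exact Or.inr ⟨p * r * p⁻¹, hnormp r hr, by
            simp only [Equiv.Perm.mul_apply, Equiv.Perm.coe_inv, Equiv.symm_apply_apply]
            rw [e, Equiv.Perm.coe_inv, Equiv.apply_symm_apply]⟩
      · rintro (e | ⟨r, hr, e⟩)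
        · exact Or.inl (by rw [e, Equiv.Perm.coe_inv, Equiv.symm_apply_apply])
        · exact Or.inr ⟨p⁻¹ * r * p, hnormp' r hr, by
            simp only [Equiv.Perm.mul_apply]; rw [e]⟩
    have hOne : ∀ c, p c ≠ c → (∀ r ∈ h.perms A, r c ≠ p c) → O (p c) + O c ≠ 0 := by
      intro c hc hn e
      have := congrFun e c
      simp only [Pi.add_apply, O, true_or, if_true, Pi.zero_apply] at this
      rw [if_neg] at this
      · rw [zero_add] at this; exact one_ne_zero this
      · rintro (e | ⟨r, hr, e⟩)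
        · exact hc e.symm
        · exact hn r⁻¹ (inv_mem hr) (by rw [Equiv.Perm.inv_eq_iff_eq, e])
    have hzO : ∀ c, p c ≠ c → (∀ r ∈ h.perms A, r c ≠ p c) → z = h.ι (O (p c) + O c) := by
      intro c hc hn
      have e := hvec _ (hOA c)
      rw [hOp] at e
      rcases hz _ (hOA c) with e' | e'
      · exact absurd (h.ι_eq_one.1 (e ▸ e')) (hOne c hc hn)
      · exact (e ▸ e').symm
    have hza := hzO a hpa hno
    -- the orbit of `a` is a single point
    have hsingle : ∀ r ∈ h.perms A, r a = a := by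
      intro r hr
      by_contra hra
      obtain ⟨w, hw⟩ := hswap r a hr hra
      rcases hz _ hw with e | e <;> rw [hdiff w _ hw] at e
      · have e1 : h.ι (v + w ∘ ⇑p⁻¹ + v ∘ ⇑(p * (Equiv.swap a (r a))⁻¹ * p⁻¹) +
            w ∘ ⇑(Equiv.swap a (r a) * (p * (Equiv.swap a (r a))⁻¹ * p⁻¹))) *
            h.σ (p * Equiv.swap a (r a) * p⁻¹ * (Equiv.swap a (r a))⁻¹) = h.ι 0 * h.σ 1 := by
          rw [e, h.ι_zero, map_one, one_mul]
        have e2 := (h.uniq e1).2
        rw [mul_inv_eq_one] at e2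
        have e3 := congrArg (fun s : Equiv.Perm (Fin (2 * n)) => s (p a)) e2
        simp only [Equiv.Perm.mul_apply, Equiv.Perm.coe_inv, Equiv.symm_apply_apply,
          Equiv.swap_apply_left] at e3
        by_cases h1 : p a = r a
        · exact hno r hr h1.symm
        · rw [Equiv.swap_apply_of_ne_of_ne hpa h1] at e3
          exact hra (p.injective e3)
      · rw [hza, ← mul_one (h.ι (O (p a) + O a)), ← map_one h.σ] at e
        have e2 := (h.uniq e).2
        rw [mul_inv_eq_one] at e2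
        have e3 := congrArg (fun s : Equiv.Perm (Fin (2 * n)) => s (p a)) e2
        simp only [Equiv.Perm.mul_apply, Equiv.Perm.coe_inv, Equiv.symm_apply_apply,
          Equiv.swap_apply_left] at e3
        by_cases h1 : p a = r a
        · exact hno r hr h1.symm
        · rw [Equiv.swap_apply_of_ne_of_ne hpa h1] at e3
          exact hra (p.injective e3)
    have hsingleb : ∀ r ∈ h.perms A, r (p a) = p a := fun r hr => by
      have := hsingle _ (hnormp' r hr)
      rw [Equiv.Perm.mul_apply, Equiv.Perm.mul_apply, Equiv.Perm.inv_eq_iff_eq] at this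
      exact this
    have hOδ : ∀ c, (∀ r ∈ h.perms A, r c = c) → O c = δ c := fun c hc => funext fun i => by
      simp only [O, δ, Pi.single_apply]
      refine if_congr ⟨?_, Or.inl⟩ rfl rfl
      rintro (e | ⟨r, hr, e⟩)
      · exact e
      · rw [← e, hc r hr]
    rw [hOδ _ hsingle, hOδ _ hsingleb, add_comm] at hza
    refine ⟨a, p a, Ne.symm hpa, hza, Or.inl ⟨hsingle, hsingleb, fun u hu => ?_⟩⟩
    -- `p` fixes all the other orbits
    have hother : ∀ c, c ≠ a → c ≠ p a → p c = c ∨ ∃ r ∈ h.perms A, r c = p c := by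
      intro c hca hcb
      by_contra hno'
      push Not at hno'
      have e := hzO c hno'.1 hno'.2
      rw [hza] at e
      have e1 := congrFun (h.ι_inj e) c
      simp only [Pi.add_apply, δ, Pi.single_apply, O, true_or, if_true, hca, hcb, if_false,
        zero_add] at e1
      rw [if_neg, zero_add] at e1
      · exact zero_ne_one e1
      · rintro (e | ⟨r, hr, e⟩)
        · exact hno'.1 e.symm
        · exact hno'.2 r⁻¹ (inv_mem hr) (by rw [Equiv.Perm.inv_eq_iff_eq, e])
    have hpb : p (p a) = a := by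
      by_contra hne'
      have hb : p (p a) ≠ p a := fun e => hpa (p.injective e)
      have e := hzO (p a) hb (fun r hr e => hb (by rw [← e, hsingleb r hr]))
      have hsingleb2 : ∀ r ∈ h.perms A, r (p (p a)) = p (p a) := fun r hr => by
        have := hsingleb _ (hnormp' r hr)
        rw [Equiv.Perm.mul_apply, Equiv.Perm.mul_apply, Equiv.Perm.inv_eq_iff_eq] at this
        exact this
      rw [hOδ _ hsingleb, hOδ _ hsingleb2, hza] at e
      have e1 := congrFun (h.ι_inj e) a
      simp [δ, Pi.single_apply, Ne.symm hne', Ne.symm hpa] at e1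
    funext i
    rw [Function.comp_apply, Function.comp_apply]
    by_cases hi : i = a
    · rw [hi, Equiv.swap_apply_left, Equiv.Perm.inv_eq_iff_eq.2 hpb.symm]
    by_cases hi' : i = p a
    · rw [hi', Equiv.swap_apply_right, Equiv.Perm.coe_inv, Equiv.symm_apply_apply]
    rw [Equiv.swap_apply_of_ne_of_ne hi hi']
    have hca : p⁻¹ i ≠ a := fun e => hi' (by rw [← e, Equiv.Perm.coe_inv, Equiv.apply_symm_apply])
    have hcb : p⁻¹ i ≠ p a := fun e => hi (by
      rw [← hpb, ← e, Equiv.Perm.coe_inv, Equiv.apply_symm_apply])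
    rcases hother _ hca hcb with e | ⟨r, hr, e⟩
    · rw [Equiv.Perm.coe_inv, Equiv.apply_symm_apply] at e
      rw [Equiv.Perm.coe_inv, ← e]
    · rw [Equiv.Perm.coe_inv, Equiv.apply_symm_apply] at e
      obtain ⟨w, hw⟩ := hr
      conv_rhs => rw [← e]
      exact (congrFun (h.vec_invariant hsq hu hw) _).symm

end Hyp

end Cfsg.Agent.AltCent
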