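import Mathlib
import Cfsg.Agent.Lib.Involutions.Basic

/-!
# Groups with the involution centraliser of an alternating group: the setting

The centraliser of the involution `t` is `O ⋊ W` with `O` of odd order and `W` the wreath product
of a group of order two with the symmetric group of degree `2n`, given by a base `ι` and a
complement `σ`; `t` is the all-one vector and is 2-central; there is no subgroup of index two.
-/

set_option autoImplicit false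
set_option linter.unusedSectionVars false
set_option linter.style.haveILetI false

namespace Cfsg.Agent.AltCent

open Subgroup

universe u

/-- The hypothesis on the centraliser. -/
structure Hyp (G : Type u) [Group G] (n : ℕ) where
  one_le : 1 ≤ n
  t : G
  ι : (Fin (2 * n) → ZMod 2) → G
  ι_add : ∀ u v, ι (u + v) = ι u * ι v
  ι_inj : Function.Injective ι
  σ : Equiv.Perm (Fin (2 * n)) →* G
  conj : ∀ (p : Equiv.Perm (Fin (2 * n))) (v : Fin (2 * n) → ZMod 2),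
    σ p * ι v = ι (v ∘ ⇑p⁻¹) * σ p
  t_eq : ι 1 = t
  O : Subgroup G
  O_le : O ≤ centralizer ({t} : Set G)
  O_norm : ∀ c ∈ centralizer ({t} : Set G), ∀ o ∈ O, c * o * c⁻¹ ∈ O
  O_odd : Odd (Nat.card O)
  O_disj : ∀ v p, ι v * σ p ∈ O → v = 0 ∧ p = 1
  gen : ∀ c ∈ centralizer ({t} : Set G), ∃ o ∈ O, ∃ v p, c = o * (ι v * σ p)
  two_central : ∃ S : Sylow 2 G, (S : Subgroup G) ≤ centralizer ({t} : Set G)
  no_index_two : ∀ H : Subgroup G, H.index ≠ 2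

namespace Hyp

variable {G : Type u} [Group G] [Finite G] {n : ℕ} (h : Hyp G n)

theorem ι_zero : h.ι 0 = 1 := by
  have := h.ι_add 0 0
  rw [add_zero] at this
  exact mul_eq_left.1 this.symm

theorem ι_eq_one {u : Fin (2 * n) → ZMod 2} : h.ι u = 1 ↔ u = 0 :=
  ⟨fun e => h.ι_inj (e.trans h.ι_zero.symm), fun e => e ▸ h.ι_zero⟩

theorem vec_add_self {m : ℕ} (u : Fin m → ZMod 2) : u + u = 0 := funext fun _ => CharTwo.add_self_eq_zero _

theorem ι_mul_self (u : Fin (2 * n) → ZMod 2) : h.ι u * h.ι u = 1 := by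
  rw [← h.ι_add, vec_add_self, h.ι_zero]

theorem ι_inv (u : Fin (2 * n) → ZMod 2) : (h.ι u)⁻¹ = h.ι u :=
  inv_eq_of_mul_eq_one_right (h.ι_mul_self u)

theorem ι_comm (u v : Fin (2 * n) → ZMod 2) : Commute (h.ι u) (h.ι v) := by
  show h.ι u * h.ι v = h.ι v * h.ι u
  rw [← h.ι_add, ← h.ι_add, add_comm]

theorem σ_conj (p : Equiv.Perm (Fin (2 * n))) (v : Fin (2 * n) → ZMod 2) :
    h.σ p * h.ι v * (h.σ p)⁻¹ = h.ι (v ∘ ⇑p⁻¹) := by
  rw [h.conj, mul_inv_cancel_right]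

/-- The product of two elements `ι v * σ p`. -/
theorem mul_def (u v : Fin (2 * n) → ZMod 2) (p r : Equiv.Perm (Fin (2 * n))) :
    h.ι u * h.σ p * (h.ι v * h.σ r) = h.ι (u + v ∘ ⇑p⁻¹) * h.σ (p * r) := by
  rw [h.ι_add, map_mul, mul_assoc, ← mul_assoc (h.σ p), h.conj]
  group

theorem inv_def (v : Fin (2 * n) → ZMod 2) (p : Equiv.Perm (Fin (2 * n))) :
    (h.ι v * h.σ p)⁻¹ = h.ι (v ∘ ⇑p) * h.σ p⁻¹ := by
  rw [mul_inv_rev, h.ι_inv, ← map_inv, h.conj, inv_inv]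

/-- The conjugate of a vector by `ι v * σ p`. -/
theorem conj_ι (v u : Fin (2 * n) → ZMod 2) (p : Equiv.Perm (Fin (2 * n))) :
    h.ι v * h.σ p * h.ι u * (h.ι v * h.σ p)⁻¹ = h.ι (u ∘ ⇑p⁻¹) := by
  rw [mul_inv_rev, show h.ι v * h.σ p * h.ι u * ((h.σ p)⁻¹ * (h.ι v)⁻¹) =
    h.ι v * (h.σ p * h.ι u * (h.σ p)⁻¹) * (h.ι v)⁻¹ by group, h.σ_conj, (h.ι_comm _ _).eq,
    mul_inv_cancel_right]

/-- The centraliser of `t`. -/
def C : Subgroup G := centralizer ({h.t} : Set G)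

theorem mem_C {x : G} : x ∈ h.C ↔ x * h.t = h.t * x := mem_centralizer_singleton_iff

theorem ι_mem_C (u : Fin (2 * n) → ZMod 2) : h.ι u ∈ h.C := by
  rw [h.mem_C, ← h.t_eq]; exact h.ι_comm u 1

theorem σ_mem_C (p : Equiv.Perm (Fin (2 * n))) : h.σ p ∈ h.C := by
  rw [h.mem_C, ← h.t_eq, h.conj, show (1 : Fin (2 * n) → ZMod 2) ∘ ⇑p⁻¹ = 1 from rfl]

/-- The base, as a subgroup. -/
def E : Subgroup G where
  carrier := Set.range h.ι
  one_mem' := ⟨0, h.ι_zero⟩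
  mul_mem' := by rintro _ _ ⟨u, rfl⟩ ⟨v, rfl⟩; exact ⟨u + v, h.ι_add u v⟩
  inv_mem' := by rintro _ ⟨u, rfl⟩; exact ⟨u, (h.ι_inv u).symm⟩

theorem mem_E {x : G} : x ∈ h.E ↔ ∃ u, h.ι u = x := Iff.rfl

theorem ι_mem_E (u : Fin (2 * n) → ZMod 2) : h.ι u ∈ h.E := ⟨u, rfl⟩

theorem t_mem_E : h.t ∈ h.E := ⟨1, h.t_eq⟩

/-- The complement of `O` in the centraliser. -/
def W : Subgroup G where
  carrier := {x | ∃ v p, h.ι v * h.σ p = x}
  one_mem' := ⟨0, 1, by rw [h.ι_zero, map_one, one_mul]⟩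
  mul_mem' := by
    rintro _ _ ⟨u, p, rfl⟩ ⟨v, r, rfl⟩
    exact ⟨_, _, (h.mul_def u v p r).symm⟩
  inv_mem' := by
    rintro _ ⟨v, p, rfl⟩
    exact ⟨_, _, (h.inv_def v p).symm⟩

theorem mem_W {x : G} : x ∈ h.W ↔ ∃ v p, h.ι v * h.σ p = x := Iff.rfl

theorem mk_mem_W (v : Fin (2 * n) → ZMod 2) (p : Equiv.Perm (Fin (2 * n))) :
    h.ι v * h.σ p ∈ h.W := ⟨v, p, rfl⟩

theorem ι_mem_W (v : Fin (2 * n) → ZMod 2) : h.ι v ∈ h.W :=
  ⟨v, 1, by rw [map_one, mul_one]⟩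

theorem σ_mem_W (p : Equiv.Perm (Fin (2 * n))) : h.σ p ∈ h.W :=
  ⟨0, p, by rw [h.ι_zero, one_mul]⟩

theorem E_le_W : h.E ≤ h.W := by rintro _ ⟨u, rfl⟩; exact h.ι_mem_W u

theorem W_le_C : h.W ≤ h.C := by
  rintro _ ⟨v, p, rfl⟩
  exact mul_mem (h.ι_mem_C v) (h.σ_mem_C p)

theorem O_le_C : h.O ≤ h.C := h.O_le

theorem uniq {v v' : Fin (2 * n) → ZMod 2} {p p' : Equiv.Perm (Fin (2 * n))}
    (e : h.ι v * h.σ p = h.ι v' * h.σ p') : v = v' ∧ p = p' := by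
  have h1 : (h.ι v' * h.σ p')⁻¹ * (h.ι v * h.σ p) ∈ h.O := by
    rw [e, inv_mul_cancel]; exact one_mem _
  rw [h.inv_def, h.mul_def] at h1
  obtain ⟨h2, h3⟩ := h.O_disj _ _ h1
  rw [inv_mul_eq_one] at h3
  subst h3
  refine ⟨?_, rfl⟩
  funext i
  have h5 := congrFun (show v' ∘ ⇑p' + v ∘ ⇑p' = 0 by simpa using h2) (p'⁻¹ i)
  simp only [Pi.add_apply, Function.comp_apply, Equiv.Perm.coe_inv, Equiv.apply_symm_apply,
    Pi.zero_apply, CharTwo.add_eq_zero] at h5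
  exact h5.symm

theorem eq_one_of_mem_W_O {x : G} (hW : x ∈ h.W) (hO : x ∈ h.O) : x = 1 := by
  obtain ⟨v, p, rfl⟩ := hW
  obtain ⟨rfl, rfl⟩ := h.O_disj v p hO
  rw [h.ι_zero, map_one, one_mul]

/-- Every element of the centraliser is `o * w` in exactly one way. -/
theorem exists_decomp {c : G} (hc : c ∈ h.C) : ∃ o ∈ h.O, ∃ w ∈ h.W, c = o * w := by
  obtain ⟨o, ho, v, p, rfl⟩ := h.gen c hc
  exact ⟨o, ho, _, h.mk_mem_W v p, rfl⟩

theorem decomp_unique {o o' w w' : G} (ho : o ∈ h.O) (ho' : o' ∈ h.O) (hw : w ∈ h.W)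
    (hw' : w' ∈ h.W) (e : o * w = o' * w') : o = o' ∧ w = w' := by
  have e1 : o'⁻¹ * o = w' * w⁻¹ := by
    rw [eq_mul_inv_iff_mul_eq, mul_assoc, e, inv_mul_cancel_left]
  have h1 := h.eq_one_of_mem_W_O (mul_mem hw' (inv_mem hw)) (e1 ▸ mul_mem (inv_mem ho') ho)
  rw [mul_inv_eq_one] at h1
  subst h1
  exact ⟨mul_right_cancel e, rfl⟩

/-- The `W`-part of an element of the centraliser. -/
noncomputable def wpart (c : h.C) : G :=
  Classical.choose (h.exists_decomp c.2).choose_spec.2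

theorem wpart_spec (c : h.C) : h.wpart c ∈ h.W ∧ ∃ o ∈ h.O, (c : G) = o * h.wpart c :=
  ⟨(Classical.choose_spec (h.exists_decomp c.2).choose_spec.2).1,
    _, (h.exists_decomp c.2).choose_spec.1,
    (Classical.choose_spec (h.exists_decomp c.2).choose_spec.2).2⟩

theorem wpart_eq {c : h.C} {o w : G} (ho : o ∈ h.O) (hw : w ∈ h.W) (e : (c : G) = o * w) :
    h.wpart c = w := by
  obtain ⟨hm, o', ho', e'⟩ := h.wpart_spec c
  exact (h.decomp_unique ho' ho hm hw (e'.symm.trans e)).2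

theorem wpart_mul (c d : h.C) : h.wpart (c * d) = h.wpart c * h.wpart d := by
  obtain ⟨hw1, o1, ho1, e1⟩ := h.wpart_spec c
  obtain ⟨hw2, o2, ho2, e2⟩ := h.wpart_spec d
  refine h.wpart_eq (o := o1 * (h.wpart c * o2 * (h.wpart c)⁻¹))
    (mul_mem ho1 (h.O_norm _ (h.W_le_C hw1) _ ho2)) (mul_mem hw1 hw2) ?_
  rw [Subgroup.coe_mul, e1, e2]
  group

/-- The projection of the centraliser onto `W`. -/
noncomputable def Θ : h.C →* G := MonoidHom.mk' h.wpart h.wpart_mul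

theorem Θ_mem (c : h.C) : h.Θ c ∈ h.W := (h.wpart_spec c).1

theorem Θ_spec (c : h.C) : ∃ o ∈ h.O, (c : G) = o * h.Θ c := (h.wpart_spec c).2

theorem Θ_eq {c : h.C} {o w : G} (ho : o ∈ h.O) (hw : w ∈ h.W) (e : (c : G) = o * w) :
    h.Θ c = w := h.wpart_eq ho hw e

theorem Θ_of_mem {x : G} (hx : x ∈ h.W) : h.Θ ⟨x, h.W_le_C hx⟩ = x :=
  h.Θ_eq (one_mem _) hx (one_mul x).symm

theorem Θ_of_mem_O {x : G} (hx : x ∈ h.O) : h.Θ ⟨x, h.O_le_C hx⟩ = 1 :=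
  h.Θ_eq hx (one_mem _) (mul_one x).symm

/-- Conjugation inside `W` only depends on the image in `W`. -/
theorem conj_eq_Θ {x a : G} (hx : x ∈ h.C) (ha : a ∈ h.W) (hxa : x * a * x⁻¹ ∈ h.W) :
    x * a * x⁻¹ = h.Θ ⟨x, hx⟩ * a * (h.Θ ⟨x, hx⟩)⁻¹ := by
  have e := h.Θ_of_mem hxa
  rw [← e]
  have : (⟨x * a * x⁻¹, h.W_le_C hxa⟩ : h.C) = ⟨x, hx⟩ * ⟨a, h.W_le_C ha⟩ * ⟨x, hx⟩⁻¹ := rfl
  rw [this, map_mul, map_mul, map_inv, h.Θ_of_mem ha]

/-- A 2-element of the kernel of the projection is trivial. -/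
theorem eq_one_of_pow_two {x : G} (hx : x ∈ h.O) {k : ℕ} (hk : x ^ 2 ^ k = 1) : x = 1 := by
  have h1 : orderOf x ∣ 2 ^ k := orderOf_dvd_of_pow_eq_one hk
  have h2 : orderOf x ∣ Nat.card h.O := by
    have := orderOf_dvd_natCard (⟨x, hx⟩ : h.O)
    rwa [Subgroup.orderOf_mk] at this
  have h3 : Nat.Coprime (2 ^ k) (Nat.card h.O) := Nat.Coprime.pow_left _ (Nat.coprime_two_left.2 h.O_odd)
  exact orderOf_eq_one_iff.1 (Nat.eq_one_of_dvd_coprimes h3 h1 h2)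

/-- The projection is injective on a 2-subgroup of the centraliser. -/
theorem Θ_injOn {R : Subgroup G} (hR : IsPGroup 2 R) {x y : h.C} (hx : (x : G) ∈ R)
    (hy : (y : G) ∈ R) (e : h.Θ x = h.Θ y) : x = y := by
  have h1 : h.Θ (x * y⁻¹) = 1 := by rw [map_mul, map_inv, e, mul_inv_cancel]
  obtain ⟨o, ho, he⟩ := h.Θ_spec (x * y⁻¹)
  rw [h1, mul_one] at he
  obtain ⟨k, hk⟩ := hR ⟨(x : G) * (y : G)⁻¹, mul_mem hx (inv_mem hy)⟩
  have h2 : ((x : G) * (y : G)⁻¹) ^ 2 ^ k = 1 := congrArg Subtype.val hk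
  have hxy : (x : G) * (y : G)⁻¹ = o := he
  rw [hxy] at h2
  have := h.eq_one_of_pow_two ho h2
  rw [this, mul_inv_eq_one] at hxy
  exact Subtype.ext hxy

theorem card_C : Nat.card h.C = Nat.card h.O * Nat.card h.W := by
  let f : h.O × h.W → h.C := fun z => ⟨z.1 * z.2, mul_mem (h.O_le_C z.1.2) (h.W_le_C z.2.2)⟩
  have hf : Function.Bijective f := by
    refine ⟨fun a b e => ?_, fun c => ?_⟩
    · obtain ⟨e1, e2⟩ := h.decomp_unique a.1.2 b.1.2 a.2.2 b.2.2 (congrArg Subtype.val e)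
      exact Prod.ext (Subtype.ext e1) (Subtype.ext e2)
    · obtain ⟨o, ho, w, hw, e⟩ := h.exists_decomp c.2
      exact ⟨(⟨o, ho⟩, ⟨w, hw⟩), Subtype.ext e.symm⟩
  rw [← Nat.card_eq_of_bijective f hf, Nat.card_prod]

/-- The two-part of the order of `G` is that of the order of `W`. -/
theorem card_two_part : (Nat.card G).factorization 2 = (Nat.card h.W).factorization 2 := by
  haveI : Fact (Nat.Prime 2) := ⟨Nat.prime_two⟩
  obtain ⟨S, hS⟩ := h.two_central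
  have h1 : (Nat.card h.C).factorization 2 = (Nat.card G).factorization 2 := by
    refine le_antisymm ((Nat.factorization_le_iff_dvd Nat.card_pos.ne' Nat.card_pos.ne').2
      (Subgroup.card_subgroup_dvd_card _) 2) ?_
    refine (Nat.prime_two.pow_dvd_iff_le_factorization Nat.card_pos.ne').1 ?_
    rw [← S.card_eq_multiplicity]
    exact Subgroup.card_dvd_of_le hS
  rw [← h1, h.card_C, Nat.factorization_mul Nat.card_pos.ne' Nat.card_pos.ne', Finsupp.add_apply,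
    Nat.factorization_eq_zero_of_not_dvd
      (Nat.not_even_iff_odd.2 h.O_odd ∘ even_iff_two_dvd.2), zero_add]

/-- A 2-subgroup of `W` lies in a Sylow subgroup of `G` contained in `W`. -/
theorem exists_sylow_le_W {R : Subgroup G} (hR : IsPGroup 2 R) (hRW : R ≤ h.W) :
    ∃ P : Sylow 2 G, R ≤ (P : Subgroup G) ∧ (P : Subgroup G) ≤ h.W := by
  haveI : Fact (Nat.Prime 2) := ⟨Nat.prime_two⟩
  obtain ⟨Q, hQ⟩ := (hR.comap_subtype (K := h.W)).exists_le_sylow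
  refine ⟨Sylow.ofCard ((Q : Subgroup h.W).map h.W.subtype) ?_, ?_, map_subtype_le _⟩
  · rw [Subgroup.card_map_of_injective h.W.subtype_injective, Q.card_eq_multiplicity,
      h.card_two_part]
  · intro x hx
    exact ⟨⟨x, hRW hx⟩, hQ (mem_subgroupOf.2 hx), rfl⟩

/-- A 2-subgroup of the centraliser is conjugate into `W`. -/
theorem exists_conj_le_W {R : Subgroup G} (hR : IsPGroup 2 R) (hRC : R ≤ h.C) :
    ∃ c ∈ h.C, ∀ x ∈ R, c * x * c⁻¹ ∈ h.W := by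
  haveI : Fact (Nat.Prime 2) := ⟨Nat.prime_two⟩
  obtain ⟨P, -, hP⟩ := h.exists_sylow_le_W (R := ⊥) IsPGroup.of_bot bot_le
  have hPC : (P : Subgroup G) ≤ h.C := hP.trans h.W_le_C
  obtain ⟨Q, hQ⟩ := (hR.comap_subtype (K := h.C)).exists_le_sylow
  obtain ⟨c, hc⟩ := MulAction.exists_smul_eq h.C Q (P.subtype hPC)
  refine ⟨c, c.2, fun x hx => hP ?_⟩
  have h1 : c * ⟨x, hRC hx⟩ * c⁻¹ ∈ (P.subtype hPC : Subgroup h.C) := by
    rw [← hc]
    exact Subgroup.smul_mem_pointwise_smul _ (MulAut.conj c) _ (hQ (mem_subgroupOf.2 hx))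
  rw [Sylow.coe_subtype] at h1
  exact h1

end Hyp

end Cfsg.Agent.AltCent
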