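import Cfsg.Agent.Lib.AltCent.WeakClosure
import Cfsg.Agent.Techniques.Sylow

/-!
# Transfer and the orbit of the central involution

Extremal conjugation for a subgroup of index two of a Sylow subgroup in a group without subgroups
of index two, and the parity of the conjugates of `t` in the base.
-/

set_option autoImplicit false
set_option linter.unusedSectionVars false
set_option linter.style.haveILetI false

namespace Cfsg.Agent.AltCent

universe u

/-- An involution outside a subgroup of index two of a Sylow subgroup has an extremal conjugate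
inside it. -/
theorem extremal_conj {G : Type u} [Group G] [Finite G] (hno : ∀ H : Subgroup G, H.index ≠ 2)
    (S : Sylow 2 G) (T : Subgroup G) (hTS : T ≤ S) (hidx : T.relIndex (S : Subgroup G) = 2)
    (y : G) (hy : orderOf y = 2) (hyS : y ∈ S) (hyT : y ∉ T) :
    ∃ g : G, g * y * g⁻¹ ∈ T ∧
      ¬ 2 ∣ ((S : Subgroup G) ⊓ Subgroup.centralizer {g * y * g⁻¹}).relIndex
          (Subgroup.centralizer {g * y * g⁻¹}) ∧
      ((S : Subgroup G) ⊓ Subgroup.centralizer {y}).map (MulAut.conj g).toMonoidHom ≤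
        (S : Subgroup G) ⊓ Subgroup.centralizer {g * y * g⁻¹} := by
  haveI hTn : (T.subgroupOf (S : Subgroup G)).Normal := Subgroup.normal_of_index_eq_two hidx
  classical
  set Sg : Subgroup G := (S : Subgroup G) with hSg
  set T' := T.subgroupOf Sg with hT'
  haveI hcyc : IsCyclic (↥Sg ⧸ T') := isCyclic_of_prime_card (p := 2) hidx
  letI : CommGroup (↥Sg ⧸ T') := IsCyclic.commGroup
  set φ : ↥Sg →* ↥Sg ⧸ T' := QuotientGroup.mk' T' with hφ
  have hV : φ.transfer y = 1 := by
    by_contra hne
    refine hno (MonoidHom.transfer φ).ker ?_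
    have hdvd : Nat.card (MonoidHom.transfer φ).range ∣ 2 :=
      hidx ▸ Subgroup.card_subgroup_dvd_card _
    rw [Subgroup.index_ker]
    rcases (Nat.dvd_prime Nat.prime_two).1 hdvd with h1 | h2
    · refine absurd ?_ hne
      rw [Subgroup.card_eq_one] at h1
      have := (MonoidHom.transfer φ).mem_range.2 ⟨y, rfl⟩
      rwa [h1, Subgroup.mem_bot] at this
    · exact h2
  have hy2 : y ^ 2 = 1 := by rw [← hy]; exact pow_orderOf_eq_one y
  have hyS' : y ∈ Sg := hyS
  set ε : ↥Sg ⧸ T' := φ ⟨y, hyS'⟩ with hε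
  have hε1 : ε ≠ 1 := fun h => hyT ((QuotientGroup.eq_one_iff (⟨y, hyS'⟩ : ↥Sg)).mp h)
  have hε2 : ε ^ 2 = 1 := by
    rw [hε, ← map_pow]
    convert map_one φ
    exact Subtype.ext hy2
  have huniq : ∀ a : ↥Sg ⧸ T', a ^ 2 = 1 → a = 1 ∨ a = ε := by
    intro a ha
    by_contra hc
    push Not at hc
    have := Fintype.ofFinite (↥Sg ⧸ T')
    have h3 : ({1, ε, a} : Finset _) ⊆ Finset.univ.filter (fun b : ↥Sg ⧸ T' => b ^ 2 = 1) := by
      intro b hb
      simp only [Finset.mem_insert, Finset.mem_singleton] at hb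
      simp only [Finset.mem_filter, Finset.mem_univ, true_and]
      rcases hb with rfl | rfl | rfl
      · exact one_pow 2
      · exact hε2
      · exact ha
    have h4 := (Finset.card_le_card h3).trans (IsCyclic.card_pow_eq_one_le (n := 2) two_pos)
    rw [Finset.card_insert_of_notMem (by simp [Ne.symm hε1, Ne.symm hc.1]),
      Finset.card_insert_of_notMem (by simp [Ne.symm hc.2]), Finset.card_singleton] at h4
    omega
  haveI : Fintype (G ⧸ Sg) := Fintype.ofFinite _
  haveI : Fintype (Quotient (MulAction.orbitRel (Subgroup.zpowers y) (G ⧸ Sg))) := Fintype.ofFinite _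
  have hmin : ∀ q : G ⧸ Sg, Function.minimalPeriod (y • ·) q = 1 ∨ Function.minimalPeriod (y • ·) q = 2 := by
    intro q
    refine (Nat.dvd_prime Nat.prime_two).mp (Function.IsPeriodicPt.minimalPeriod_dvd ?_)
    show (y • ·)^[2] q = q
    rw [Function.iterate_succ_apply, Function.iterate_one]
    show y • y • q = q
    rw [smul_smul, ← pow_two, hy2, one_smul]
  set F := {q : G ⧸ Sg // y • q = q} with hF
  have hmemS : ∀ q : F, q.1.out⁻¹ * y * q.1.out ∈ Sg := by
    intro q
    have h := q.2
    rw [← QuotientGroup.out_eq' q.1, MulAction.Quotient.smul_mk, QuotientGroup.eq] at h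
    have := Sg.inv_mem h
    simpa [mul_assoc] using this
  set val : F → ↥Sg ⧸ T' := fun q => φ ⟨_, hmemS q⟩ with hval
  have hval2 : ∀ q, val q ^ 2 = 1 := by
    intro q
    rw [hval, ← map_pow]
    convert map_one φ
    apply Subtype.ext
    rw [SubmonoidClass.coe_pow]
    show (q.1.out⁻¹ * y * q.1.out) ^ 2 = 1
    have := conj_pow (a := q.1.out⁻¹) (b := y) (i := 2)
    rw [inv_inv] at this
    rw [this, hy2, mul_one, inv_mul_cancel]
  have hprod : ∏ q : F, val q = 1 := by
    rw [← hV, MonoidHom.transfer_eq_prod_quotient_orbitRel_zpowers_quot]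
    symm
    rw [← Finset.prod_filter_of_ne (p := fun o : Quotient (MulAction.orbitRel (Subgroup.zpowers y) (G ⧸ Sg)) =>
      y • o.out = o.out)]
    · symm
      have horb : ∀ (q : G ⧸ Sg), y • q = q →
          (Quotient.mk (MulAction.orbitRel (Subgroup.zpowers y) (G ⧸ Sg)) q).out = q := by
        intro q hq
        have h := Quotient.mk_out (s := MulAction.orbitRel (Subgroup.zpowers y) (G ⧸ Sg)) q
        obtain ⟨⟨z, hz⟩, hzq⟩ := h
        rw [← hzq]
        show z • q = q
        exact (Subgroup.zpowers_le (H := MulAction.stabilizer G q)).mpr hq hz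
      refine Finset.prod_bij (fun q _ => Quotient.mk _ q.1) ?_ ?_ ?_ ?_
      · intro q _
        simp only [Finset.mem_filter, Finset.mem_univ, true_and]
        rw [horb q.1 q.2]; exact q.2
      · intro a _ b _ h
        apply Subtype.ext
        rw [← horb a.1 a.2, h, horb b.1 b.2]
      · intro o ho
        simp only [Finset.mem_filter, Finset.mem_univ, true_and] at ho
        exact ⟨⟨o.out, ho⟩, Finset.mem_univ _, Quotient.out_eq o⟩
      · intro q _
        have hp1 : Function.minimalPeriod (y • ·) q.1 = 1 :=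
          Function.minimalPeriod_eq_one_iff_isFixedPt.mpr q.2
        simp only [hval]
        congr 1
        apply Subtype.ext
        show q.1.out⁻¹ * y * q.1.out = _
        simp only [horb q.1 q.2, hp1, pow_one]
    · intro o _ hne
      rcases hmin o.out with h | h
      · exact Function.minimalPeriod_eq_one_iff_isFixedPt.mp h
      · refine absurd ?_ hne
        convert map_one φ
        simp [h, hy2]
  set C := Subgroup.centralizer ({y} : Set G) with hC
  have hcomm : ∀ c : C, (c : G) * y = y * c := fun c => Subgroup.mem_centralizer_singleton_iff.mp c.2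
  letI actF : MulAction C F :=
    { smul := fun c q => ⟨(c : G) • q.1, by rw [smul_smul, ← hcomm, mul_smul, q.2]⟩
      one_smul := fun q => Subtype.ext (one_smul G q.1)
      mul_smul := fun a b q => Subtype.ext (mul_smul (a : G) (b : G) q.1) }
  set B' := {q : F // q.1.out⁻¹ * y * q.1.out ∈ T} with hB'
  have hTconj : ∀ t : G, t ∈ T → ∀ s : G, s ∈ Sg → s⁻¹ * t * s ∈ T := by
    intro t ht s hs
    have h := hTn.conj_mem ⟨t, hTS ht⟩ ht ⟨s⁻¹, Sg.inv_mem hs⟩
    rw [Subgroup.mem_subgroupOf] at h
    simpa using h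
  letI actB : MulAction C B' :=
    { smul := fun c q => ⟨c • q.1, by
        obtain ⟨s, hs⟩ : ∃ s : G, s ∈ Sg ∧ (c • q.1).1.out = (c : G) * q.1.1.out * s := by
          refine ⟨((c : G) * q.1.1.out)⁻¹ * (c • q.1).1.out, ?_, by group⟩
          rw [← QuotientGroup.eq, QuotientGroup.out_eq']
          show QuotientGroup.mk ((c : G) * q.1.1.out) = (c : G) • q.1.1
          conv_rhs => rw [← QuotientGroup.out_eq' q.1.1]
          rw [MulAction.Quotient.smul_mk]; rfl
        rw [hs.2]
        have e : ((c : G) * q.1.1.out * s)⁻¹ * y * ((c : G) * q.1.1.out * s) =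
            s⁻¹ * (q.1.1.out⁻¹ * ((c : G)⁻¹ * (y * c)) * q.1.1.out) * s := by group
        rw [e, ← hcomm, inv_mul_cancel_left]
        exact hTconj _ q.2 s hs.1⟩
      one_smul := fun q => Subtype.ext (one_smul C q.1)
      mul_smul := fun a b q => Subtype.ext (mul_smul a b q.1) }
  have hFodd : ¬ 2 ∣ Nat.card F := by
    have hp : IsPGroup 2 (Subgroup.zpowers y) := Techniques.isPGroup_zpowers (k := 1) (by simpa using hy)
    have h := hp.card_modEq_card_fixedPoints (G ⧸ Sg)
    have e : Nat.card (MulAction.fixedPoints (Subgroup.zpowers y) (G ⧸ Sg)) = Nat.card F := by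
      refine Nat.card_congr (Equiv.subtypeEquivRight fun q => ?_)
      constructor
      · exact fun h => h ⟨y, Subgroup.mem_zpowers y⟩
      · rintro h ⟨z, hz⟩
        exact (Subgroup.zpowers_le (H := MulAction.stabilizer G q)).mpr h hz
    rw [e] at h
    intro hd
    apply S.not_dvd_index
    rw [Subgroup.index_eq_card]
    exact (Nat.ModEq.dvd_iff h dvd_rfl).mpr hd
  have hBodd : ¬ 2 ∣ Nat.card B' := by
    intro hd
    apply hFodd
    set bad := Finset.univ.filter (fun q : F => ¬ q.1.out⁻¹ * y * q.1.out ∈ T) with hbad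
    have hb : ∏ q : F, val q = ε ^ bad.card := by
      rw [← Finset.prod_filter_mul_prod_filter_not Finset.univ (fun q : F => q.1.out⁻¹ * y * q.1.out ∈ T),
        Finset.prod_eq_one, one_mul, Finset.prod_congr rfl (g := fun _ => ε), Finset.prod_const]
      · intro q hq
        simp only [Finset.mem_filter, Finset.mem_univ, true_and] at hq
        exact (huniq _ (hval2 q)).resolve_left fun h => hq ((QuotientGroup.eq_one_iff (⟨_, hmemS q⟩ : ↥Sg)).mp h)
      · intro q hq
        simp only [Finset.mem_filter, Finset.mem_univ, true_and] at hq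
        exact (QuotientGroup.eq_one_iff (⟨_, hmemS q⟩ : ↥Sg)).mpr hq
    rw [hprod] at hb
    have h2 : 2 ∣ bad.card := by
      have := orderOf_dvd_of_pow_eq_one hb.symm
      rwa [orderOf_eq_prime hε2 hε1] at this
    have e : Nat.card F = Nat.card B' + bad.card := by
      have e1 : Nat.card B' = (Finset.univ.filter fun q : F => q.1.out⁻¹ * y * q.1.out ∈ T).card := by
        rw [Nat.card_eq_fintype_card]; exact Fintype.card_subtype _
      rw [e1, Nat.card_eq_fintype_card, ← Finset.card_univ]
      exact (Finset.card_filter_add_card_filter_not (fun q : F => q.1.out⁻¹ * y * q.1.out ∈ T)).symm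
    rw [e]
    exact Nat.dvd_add hd h2
  obtain ⟨Q⟩ : Nonempty (Sylow 2 C) := inferInstance
  obtain ⟨q, hq⟩ := Q.2.nonempty_fixed_point_of_prime_not_dvd_card B' hBodd
  set g := q.1.1.out with hg
  set y' := g⁻¹ * y * g with hy'
  have hyT' : y' ∈ T := q.2
  set Cy := Subgroup.centralizer ({y'} : Set G) with hCy
  have hQS : ((Q : Subgroup C).map C.subtype).map (MulAut.conj g⁻¹).toMonoidHom ≤ Sg ⊓ Cy := by
    rintro _ ⟨_, ⟨c, hc, rfl⟩, rfl⟩
    show g⁻¹ * (c : G) * g⁻¹⁻¹ ∈ Sg ⊓ Cy
    rw [inv_inv]
    refine ⟨?_, ?_⟩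
    · have h : (c : G) • q.1.1 = q.1.1 := congrArg (fun r : B' => r.1.1) (hq ⟨c, hc⟩)
      rw [← QuotientGroup.out_eq' q.1.1, MulAction.Quotient.smul_mk, QuotientGroup.eq] at h
      have := Sg.inv_mem h
      simpa [← hg, mul_assoc] using this
    · show g⁻¹ * (c : G) * g ∈ Cy
      rw [hCy, Subgroup.mem_centralizer_singleton_iff, hy']
      calc g⁻¹ * (c : G) * g * (g⁻¹ * y * g) = g⁻¹ * ((c : G) * y) * g := by group
        _ = _ := by rw [hcomm]; group
  have hCmap : C.map (MulAut.conj g⁻¹).toMonoidHom = Cy := by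
    rw [hC, Techniques.map_conj_centralizer, hCy, Set.image_singleton, inv_inv]
  have hext : ¬ 2 ∣ (Sg ⊓ Cy).relIndex Cy := by
    intro hd
    have h1 : (Sg ⊓ Cy).relIndex Cy ∣ (((Q : Subgroup C).map C.subtype).map (MulAut.conj g⁻¹).toMonoidHom).relIndex Cy :=
      Subgroup.relIndex_dvd_of_le_left Cy hQS
    rw [← hCmap, Techniques.relIndex_map_conj, hCmap] at h1
    have h2 : ((Q : Subgroup C).map C.subtype).relIndex C = (Q : Subgroup C).index := by
      rw [Subgroup.relIndex, Subgroup.subgroupOf,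
        Subgroup.comap_map_eq_self_of_injective C.subtype_injective]
    rw [h2] at h1
    exact Q.not_dvd_index (hd.trans h1)
  have hRp : IsPGroup 2 ((Sg ⊓ C).map (MulAut.conj g⁻¹).toMonoidHom) := (Techniques.isPGroup_inf S C).map _
  have hRC : (Sg ⊓ C).map (MulAut.conj g⁻¹).toMonoidHom ≤ Cy := hCmap ▸ Subgroup.map_mono inf_le_right
  obtain ⟨c, hc, hcR⟩ := Techniques.exists_conj_le_of_not_dvd_relIndex inf_le_right
    (Techniques.isPGroup_inf S Cy) hext hRp hRC
  have hcy : c * g⁻¹ * y * (c * g⁻¹)⁻¹ = y' := by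
    rw [hCy, Subgroup.mem_centralizer_singleton_iff] at hc
    calc c * g⁻¹ * y * (c * g⁻¹)⁻¹ = c * (g⁻¹ * y * g) * c⁻¹ := by group
      _ = y' := by rw [← hy', hc, mul_inv_cancel_right]
  refine ⟨c * g⁻¹, ?_, ?_, ?_⟩
  · rw [hcy]; exact hyT'
  · rw [hcy]; exact hext
  · rw [hcy, ← Techniques.map_conj_conj, Techniques.map_conj_le_iff]
    exact hcR


namespace Hyp

open Subgroup

variable {G : Type u} [Group G] [Finite G] {n : ℕ} (h : Hyp G n)

/-- A conjugate of `t` in the base other than `t` has odd weight. -/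
theorem odd_of_conj_t {g : G} {u : Fin (2 * n) → ZMod 2} (e : g * h.ι u * g⁻¹ = h.t) :
    u = 1 ∨ Odd (Finset.univ.filter fun i => u i = 1).card := by
  rw [← h.t_eq] at e
  obtain ⟨k, hk, he⟩ := h.conj_in_normalizer e
  rw [h.t_eq] at he
  by_cases h1 : u = 1
  · exact Or.inl h1
  refine Or.inr ((h.two_sides (fun s => h.E_le_W (hk s)) he (fun h0 => ?_) h1).1 1)
  rw [h0, h.ι_zero, mul_one, mul_inv_cancel, ← h.t_eq] at he
  have := congrFun (h.ι_eq_one.1 he.symm) ⟨0, by have := h.one_le; omega⟩
  exact one_ne_zero this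

end Hyp

end Cfsg.Agent.AltCent
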