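import Cfsg.Agent.Lib.AltCent.Pairing

/-!
# The base is weakly closed

If a conjugate of the base lies in `W`, the transpositions of the centraliser of the corresponding
conjugate of `t` give two sets of points, and this forces the conjugate to be the base itself; the
normaliser of the base then controls the fusion in it.
-/

set_option autoImplicit false
set_option linter.unusedSectionVars false
set_option linter.style.haveILetI false

namespace Cfsg.Agent.AltCent

open Subgroup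

universe u

namespace Hyp

variable {G : Type u} [Group G] [Finite G] {n : ℕ} (h : Hyp G n)

theorem zmod_two_cases : ∀ a : ZMod 2, a = 0 ∨ a = 1 := by decide

theorem zmod_two_zero_iff : ∀ a : ZMod 2, a = 0 ↔ ¬ a = 1 := by decide

theorem δ_pair_eq {a b c d : Fin (2 * n)} (hab : a ≠ b) (_hcd : c ≠ d)
    (e : (δ a : Fin (2 * n) → ZMod 2) + δ b = δ c + δ d) : (a = c ∧ b = d) ∨ (a = d ∧ b = c) := by
  have key : ∀ x, x = a ∨ x = b → x = c ∨ x = d := by
    intro x hx
    by_contra hno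
    push Not at hno
    have := congrFun e x
    simp only [Pi.add_apply] at this
    rcases hx with rfl | rfl
    · rw [δ_same, δ_ne hab, δ_ne hno.1, δ_ne hno.2, add_zero] at this
      exact one_ne_zero this
    · rw [δ_same, δ_ne (Ne.symm hab), δ_ne hno.1, δ_ne hno.2, zero_add, add_zero] at this
      exact one_ne_zero this
  rcases key a (Or.inl rfl) with ha | ha <;> rcases key b (Or.inr rfl) with hb | hb
  · exact absurd (ha.trans hb.symm) hab
  · exact Or.inl ⟨ha, hb⟩
  · exact Or.inr ⟨ha, hb⟩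
  · exact absurd (ha.trans hb.symm) hab

theorem δ_inter {a b c d e f : Fin (2 * n)} (hab : a ≠ b) (hcd : c ≠ d)
    (he : (δ a : Fin (2 * n) → ZMod 2) + δ b + (δ c + δ d) = δ e + δ f) :
    a = c ∨ a = d ∨ b = c ∨ b = d := by
  by_contra hno
  push Not at hno
  obtain ⟨h1, h2, h3, h4⟩ := hno
  have key : ∀ x, x = a ∨ x = b ∨ x = c → x = e ∨ x = f := by
    intro x hx
    by_contra hno'
    push Not at hno'
    have := congrFun he x
    simp only [Pi.add_apply] at this
    rcases hx with rfl | rfl | rfl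
    · rw [δ_same, δ_ne hab, δ_ne h1, δ_ne h2, δ_ne hno'.1, δ_ne hno'.2] at this
      simp at this
    · rw [δ_same, δ_ne (Ne.symm hab), δ_ne h3, δ_ne h4, δ_ne hno'.1, δ_ne hno'.2] at this
      simp at this
    · rw [δ_same, δ_ne (Ne.symm h1), δ_ne (Ne.symm h3), δ_ne hcd, δ_ne hno'.1, δ_ne hno'.2] at this
      simp at this
  rcases key a (Or.inl rfl) with ha | ha <;> rcases key b (Or.inr (Or.inl rfl)) with hb | hb <;>
    rcases key c (Or.inr (Or.inr rfl)) with hc | hc <;> simp_all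

/-- The conjugate of a vector. -/
theorem conj_add (g : G) (u v : Fin (2 * n) → ZMod 2) :
    g * h.ι (u + v) * g⁻¹ = g * h.ι u * g⁻¹ * (g * h.ι v * g⁻¹) := by
  rw [h.ι_add]; group

theorem conj_inj {g : G} {u v : Fin (2 * n) → ZMod 2} (e : g * h.ι u * g⁻¹ = g * h.ι v * g⁻¹) :
    u = v :=
  h.ι_inj (mul_left_cancel (mul_right_cancel e))

/-- The conjugate of the base. -/
def conjE (g : G) : Subgroup G := h.E.map (MulAut.conj g).toMonoidHom

theorem mem_conjE {g x : G} : x ∈ h.conjE g ↔ ∃ u, g * h.ι u * g⁻¹ = x := by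
  constructor
  · rintro ⟨_, ⟨u, rfl⟩, rfl⟩; exact ⟨u, rfl⟩
  · rintro ⟨u, rfl⟩; exact ⟨_, h.ι_mem_E u, rfl⟩

theorem conjE_sq {g : G} : ∀ a ∈ h.conjE g, a * a = 1 := by
  intro a ha
  obtain ⟨u, rfl⟩ := h.mem_conjE.1 ha
  rw [show g * h.ι u * g⁻¹ * (g * h.ι u * g⁻¹) = g * (h.ι u * h.ι u) * g⁻¹ by group, h.ι_mul_self,
    mul_one, mul_inv_cancel]

theorem card_E : Nat.card h.E = 2 ^ (2 * n) := by
  have : Nat.card h.E = Nat.card (Fin (2 * n) → ZMod 2) :=
    (Nat.card_congr (Equiv.ofInjective h.ι h.ι_inj)).symm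
  rw [this, Nat.card_pi, Finset.prod_const, Nat.card_zmod, Finset.card_univ, Fintype.card_fin]

theorem card_conjE (g : G) : Nat.card (h.conjE g) = 2 ^ (2 * n) := by
  rw [conjE, Subgroup.card_map_of_injective (show Function.Injective (MulAut.conj g).toMonoidHom
    from (MulAut.conj g).injective), h.card_E]

/-- A pair of points exchanged by the permutations of `A`. -/
def IsPair (A : Subgroup G) (a b : Fin (2 * n)) : Prop := ∃ r ∈ h.perms A, r a = b

theorem IsPair.symm {A : Subgroup G} {a b : Fin (2 * n)} (hp : h.IsPair A a b) : h.IsPair A b a := by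
  obtain ⟨r, hr, e⟩ := hp
  exact ⟨r⁻¹, inv_mem hr, by rw [← e, Equiv.Perm.coe_inv, Equiv.symm_apply_apply]⟩

/-- A point fixed by the permutations of `A`. -/
def IsFix (A : Subgroup G) (a : Fin (2 * n)) : Prop := ∀ r ∈ h.perms A, r a = a

variable {g : G} (hW : ∀ u, g * h.ι u * g⁻¹ ∈ h.W) {v0 : Fin (2 * n) → ZMod 2}
  (hv0 : g * h.ι v0 * g⁻¹ = h.t)

include hW in
theorem conjE_le_W : h.conjE g ≤ h.W := fun x hx => by
  obtain ⟨u, rfl⟩ := h.mem_conjE.1 hx
  exact hW u

theorem comp_swap_eq {i j : Fin (2 * n)} (u : Fin (2 * n) → ZMod 2) :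
    u ∘ ⇑(Equiv.swap i j) = u + (fun x => if u i = u j then 0 else (δ i + δ j : Fin (2 * n) → ZMod 2) x) := by
  funext x
  rw [Function.comp_apply, Pi.add_apply]
  by_cases hu : u i = u j
  · rw [if_pos hu, add_zero]
    by_cases hxi : x = i
    · rw [hxi, Equiv.swap_apply_left, hu]
    by_cases hxj : x = j
    · rw [hxj, Equiv.swap_apply_right, hu]
    rw [Equiv.swap_apply_of_ne_of_ne hxi hxj]
  · rw [if_neg hu, Pi.add_apply]
    have hij : i ≠ j := fun e => hu (by rw [e])
    have h01 : ∀ a b : ZMod 2, a ≠ b → b = a + 1 := by decide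
    by_cases hxi : x = i
    · rw [hxi, Equiv.swap_apply_left, δ_same, δ_ne hij, add_zero, h01 _ _ hu]
    by_cases hxj : x = j
    · rw [hxj, Equiv.swap_apply_right, δ_same, δ_ne (Ne.symm hij), zero_add,
        h01 _ _ (Ne.symm hu)]
    rw [Equiv.swap_apply_of_ne_of_ne hxi hxj, δ_ne hxi, δ_ne hxj, add_zero, add_zero]

include hW hv0 in
/-- A transposition fixing `v0` has as centre the indicator of two points. -/
theorem side_edge {i j : Fin (2 * n)} (hij : i ≠ j) (hs : v0 i = v0 j) :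
    ∃ a b : Fin (2 * n), a ≠ b ∧ g * h.ι (δ i + δ j) * g⁻¹ = h.ι (δ a + δ b) ∧
      ((h.IsFix (h.conjE g) a ∧ h.IsFix (h.conjE g) b ∧
        ∀ u w, g * h.ι u * g⁻¹ = h.ι w →
          g * h.ι (u ∘ ⇑(Equiv.swap i j)) * g⁻¹ = h.ι (w ∘ ⇑(Equiv.swap a b))) ∨
        h.IsPair (h.conjE g) a b) := by
  classical
  have hfix : v0 ∘ ⇑(Equiv.swap i j) = v0 := by
    rw [comp_swap_eq, show (fun x => if v0 i = v0 j then (0 : ZMod 2)
      else (δ i + δ j : Fin (2 * n) → ZMod 2) x) = 0 from funext fun x => by rw [if_pos hs]; rfl,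
      add_zero]
  set x := g * h.σ (Equiv.swap i j) * g⁻¹ with hx
  have hxu : ∀ u, x * (g * h.ι u * g⁻¹) * x⁻¹ = g * h.ι (u ∘ ⇑(Equiv.swap i j)) * g⁻¹ := by
    intro u
    rw [hx, show g * h.σ (Equiv.swap i j) * g⁻¹ * (g * h.ι u * g⁻¹) *
      (g * h.σ (Equiv.swap i j) * g⁻¹)⁻¹ =
      g * (h.σ (Equiv.swap i j) * h.ι u * (h.σ (Equiv.swap i j))⁻¹) * g⁻¹ by group, h.σ_conj,
      Equiv.swap_inv]
  have hxC : x ∈ h.C := by
    rw [h.mem_C]
    have e := hxu v0
    rw [hfix, hv0] at e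
    exact mul_inv_eq_iff_eq_mul.1 e
  obtain ⟨v, p, hvp⟩ := h.mem_W.1 (h.Θ_mem ⟨x, hxC⟩)
  have hwu : ∀ u, h.ι v * h.σ p * (g * h.ι u * g⁻¹) * (h.ι v * h.σ p)⁻¹ =
      g * h.ι (u ∘ ⇑(Equiv.swap i j)) * g⁻¹ := by
    intro u
    rw [hvp, ← h.conj_eq_Θ hxC (hW u) (hxu u ▸ hW _)]
    exact hxu u
  have hdiff : ∀ u, h.ι v * h.σ p * (g * h.ι u * g⁻¹) * (h.ι v * h.σ p)⁻¹ * (g * h.ι u * g⁻¹)⁻¹ =
      if u i = u j then 1 else g * h.ι (δ i + δ j) * g⁻¹ := by
    intro u
    rw [hwu, comp_swap_eq, h.conj_add]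
    by_cases hu : u i = u j
    · rw [if_pos hu, show (fun x => if u i = u j then (0 : ZMod 2)
        else (δ i + δ j : Fin (2 * n) → ZMod 2) x) = 0 from funext fun x => by rw [if_pos hu]; rfl,
        h.ι_zero, mul_one, mul_inv_cancel, mul_one, mul_inv_cancel]
    · rw [if_neg hu, show (fun x => if u i = u j then (0 : ZMod 2)
        else (δ i + δ j : Fin (2 * n) → ZMod 2) x) = δ i + δ j from funext fun x => by rw [if_neg hu]]
      rw [← h.conj_add, add_comm u, h.conj_add, mul_inv_cancel_right]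
  obtain ⟨a, b, hab, hz, halt⟩ := h.edge (h.conjE_le_W hW) h.conjE_sq (h.card_conjE g) (v := v)
    (p := p) (fun a ha => by
      obtain ⟨u, rfl⟩ := h.mem_conjE.1 ha
      exact h.mem_conjE.2 ⟨_, (hwu u).symm⟩)
    (z := g * h.ι (δ i + δ j) * g⁻¹) (fun a ha => by
      obtain ⟨u, rfl⟩ := h.mem_conjE.1 ha
      rw [hdiff]; split_ifs <;> simp)
    ⟨g * h.ι (δ i) * g⁻¹, h.mem_conjE.2 ⟨_, rfl⟩, by
      rw [hdiff, if_neg (by rw [δ_same, δ_ne (Ne.symm hij)]; exact one_ne_zero)]
      intro e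
      rw [mul_inv_eq_one, mul_eq_left] at e
      exact δ_add_ne_zero hij (h.ι_eq_one.1 e)⟩
  refine ⟨a, b, hab, hz, ?_⟩
  rcases halt with ⟨ha, hb, hact⟩ | hp
  · refine Or.inl ⟨ha, hb, fun u w e => ?_⟩
    rw [← hwu u, e, h.conj_ι, hact w (h.mem_conjE.2 ⟨u, e⟩)]
  · exact Or.inr hp

include hW hv0 in
/-- The alternatives at given end points. -/
theorem side_edge_at {i j a b : Fin (2 * n)} (hij : i ≠ j) (hs : v0 i = v0 j) (hab : a ≠ b)
    (e : g * h.ι (δ i + δ j) * g⁻¹ = h.ι (δ a + δ b)) :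
    (h.IsFix (h.conjE g) a ∧ h.IsFix (h.conjE g) b ∧
        ∀ u w, g * h.ι u * g⁻¹ = h.ι w →
          g * h.ι (u ∘ ⇑(Equiv.swap i j)) * g⁻¹ = h.ι (w ∘ ⇑(Equiv.swap a b))) ∨
        h.IsPair (h.conjE g) a b := by
  obtain ⟨a', b', hab', e', halt⟩ := h.side_edge hW hv0 hij hs
  rcases δ_pair_eq hab' hab (h.ι_inj (e'.symm.trans e)) with ⟨rfl, rfl⟩ | ⟨rfl, rfl⟩
  · exact halt
  · rcases halt with ⟨ha, hb, hact⟩ | hp
    · exact Or.inl ⟨hb, ha, fun u w hu => by rw [Equiv.swap_comm b' a']; exact hact u w hu⟩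
    · exact Or.inr hp.symm

include hW hv0 in
/-- The edges of one side come from an injection of the points. -/
theorem clique (S : Finset (Fin (2 * n))) (hS : ∀ i ∈ S, ∀ j ∈ S, v0 i = v0 j) :
    ∃ f : Fin (2 * n) → Fin (2 * n), Set.InjOn f S ∧
      (∀ i ∈ S, ∀ j ∈ S, g * h.ι (δ i + δ j) * g⁻¹ = h.ι (δ (f i) + δ (f j))) ∧
      (3 ≤ S.card → ∀ i ∈ S, h.IsFix (h.conjE g) (f i)) := by
  classical
  have hrefl : ∀ (f : Fin (2 * n) → Fin (2 * n)) i,
      g * h.ι (δ i + δ i) * g⁻¹ = h.ι (δ (f i) + δ (f i)) := fun f i => by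
    rw [vec_add_self, vec_add_self, h.ι_zero, mul_one, mul_inv_cancel]
  rcases Nat.lt_or_ge S.card 3 with hsmall | hbig
  · by_cases h2 : S.card = 2
    · obtain ⟨i0, j0, hij, rfl⟩ := Finset.card_eq_two.1 h2
      obtain ⟨a, b, hab, e, -⟩ := h.side_edge hW hv0 hij (hS i0 (by simp) j0 (by simp))
      refine ⟨fun x => if x = i0 then a else b, ?_, ?_, fun h3 => absurd h3 (not_le.2 hsmall)⟩
      · intro x hx y hy exy
        simp only [Finset.coe_insert, Finset.coe_singleton, Set.mem_insert_iff,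
          Set.mem_singleton_iff] at hx hy
        rcases hx with rfl | rfl <;> rcases hy with rfl | rfl <;>
          simp_all [Ne.symm hij, Ne.symm hab]
      · intro x hx y hy
        simp only [Finset.mem_insert, Finset.mem_singleton] at hx hy
        rcases hx with rfl | rfl <;> rcases hy with rfl | rfl <;>
          simp only [if_true, if_neg (Ne.symm hij)]
        · exact hrefl (fun _ => a) _
        · exact e
        · rw [add_comm, e, add_comm]
        · exact hrefl (fun _ => b) _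
    · refine ⟨id, Function.injective_id.injOn, fun i hi j hj => ?_, fun h3 => absurd h3 (not_le.2 hsmall)⟩
      have hij : i = j := Finset.card_le_one.1 (by omega) i hi j hj
      subst hij
      exact hrefl id i
  · obtain ⟨i0, hi0, j0, hj0, k0, hk0, hne1, hne2, hne3⟩ :
        ∃ a ∈ S, ∃ b ∈ S, ∃ c ∈ S, a ≠ b ∧ a ≠ c ∧ b ≠ c :=
      Finset.two_lt_card.1 hbig
    have hH : ∀ i ∈ S, ∀ j ∈ S, i ≠ j → ∃ a b, a ≠ b ∧ g * h.ι (δ i + δ j) * g⁻¹ = h.ι (δ a + δ b) :=
      fun i hi j hj hij => by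
        obtain ⟨a, b, hab, e, -⟩ := h.side_edge hW hv0 hij (hS i hi j hj)
        exact ⟨a, b, hab, e⟩
    have hsum : ∀ (i j k : Fin (2 * n)) (s t : Fin (2 * n) → ZMod 2),
        g * h.ι (δ i + δ j) * g⁻¹ = h.ι s → g * h.ι (δ i + δ k) * g⁻¹ = h.ι t →
        g * h.ι (δ j + δ k) * g⁻¹ = h.ι (s + t) := by
      intro i j k s t e1 e2
      rw [h.ι_add s t, ← e1, ← e2, ← h.conj_add]
      congr 3
      funext x
      simp only [Pi.add_apply]
      rw [show δ i x + δ j x + (δ i x + δ k x) = (δ i x + δ i x) + (δ j x + δ k x) by ring,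
        CharTwo.add_self_eq_zero, zero_add]
    -- the common vertex
    obtain ⟨c, x0, y0, hcx, hcy, hxy, ex, ey⟩ : ∃ c x y, c ≠ x ∧ c ≠ y ∧ x ≠ y ∧
        g * h.ι (δ i0 + δ j0) * g⁻¹ = h.ι (δ c + δ x) ∧
        g * h.ι (δ i0 + δ k0) * g⁻¹ = h.ι (δ c + δ y) := by
      obtain ⟨a, b, hab, e1⟩ := hH i0 hi0 j0 hj0 hne1
      obtain ⟨a', b', hab', e2⟩ := hH i0 hi0 k0 hk0 hne2
      obtain ⟨e, f, -, e3⟩ := hH j0 hj0 k0 hk0 hne3
      have hdist : ∀ c x y, g * h.ι (δ i0 + δ j0) * g⁻¹ = h.ι (δ c + δ x) →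
          g * h.ι (δ i0 + δ k0) * g⁻¹ = h.ι (δ c + δ y) → x ≠ y := by
        intro c x y h1 h2 exy
        subst exy
        have := congrFun (h.conj_inj (h1.trans h2.symm)) j0
        rw [Pi.add_apply, Pi.add_apply, δ_same, δ_ne (Ne.symm hne1), δ_ne hne3] at this
        simp at this
      have e12 := h.ι_inj ((hsum _ _ _ _ _ e1 e2).symm.trans e3)
      rcases δ_inter hab hab' e12 with rfl | rfl | rfl | rfl
      · exact ⟨a, b, b', hab, hab', hdist _ _ _ e1 e2, e1, e2⟩
      · exact ⟨a, b, a', hab, Ne.symm hab', hdist _ _ _ e1 (by rw [e2, add_comm]), e1,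
          by rw [e2, add_comm]⟩
      · exact ⟨b, a, b', Ne.symm hab, hab', hdist _ _ _ (by rw [e1, add_comm]) e2,
          by rw [e1, add_comm], e2⟩
      · exact ⟨b, a, a', Ne.symm hab, Ne.symm hab', hdist _ _ _ (by rw [e1, add_comm])
          (by rw [e2, add_comm]), by rw [e1, add_comm], by rw [e2, add_comm]⟩
    have hstar : ∀ j ∈ S, j ≠ i0 → ∃ x, c ≠ x ∧ g * h.ι (δ i0 + δ j) * g⁻¹ = h.ι (δ c + δ x) := by
      intro j hj hji
      by_cases hj0' : j = j0
      · exact ⟨x0, hcx, hj0' ▸ ex⟩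
      by_cases hk0' : j = k0
      · exact ⟨y0, hcy, hk0' ▸ ey⟩
      obtain ⟨a, b, hab, e1⟩ := hH i0 hi0 j hj (Ne.symm hji)
      by_cases hca : c = a
      · exact ⟨b, hca ▸ hab, hca ▸ e1⟩
      by_cases hcb : c = b
      · exact ⟨a, hcb ▸ Ne.symm hab, by rw [e1, hcb, add_comm]⟩
      exfalso
      obtain ⟨e, f, -, e2⟩ := hH j hj j0 hj0 hj0'
      obtain ⟨e', f', -, e3⟩ := hH j hj k0 hk0 hk0'
      have hx := δ_inter hab hcx (h.ι_inj ((hsum _ _ _ _ _ e1 ex).symm.trans e2))
      have hy := δ_inter hab hcy (h.ι_inj ((hsum _ _ _ _ _ e1 ey).symm.trans e3))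
      have hab' : (δ a : Fin (2 * n) → ZMod 2) + δ b = δ x0 + δ y0 := by
        rcases hx with e | e | e | e
        · exact absurd e.symm hca
        · rcases hy with e' | e' | e' | e'
          · exact absurd e'.symm hca
          · exact absurd (e.symm.trans e') hxy
          · exact absurd e'.symm hcb
          · rw [e, e']
        · exact absurd e.symm hcb
        · rcases hy with e' | e' | e' | e'
          · exact absurd e'.symm hca
          · rw [e, e', add_comm]
          · exact absurd e'.symm hcb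
          · exact absurd (e.symm.trans e') hxy
      have e4 : g * h.ι (δ j0 + δ k0) * g⁻¹ = h.ι (δ x0 + δ y0) := by
        rw [hsum _ _ _ _ _ ex ey]
        congr 1
        funext z
        simp only [Pi.add_apply]
        rw [show δ c z + δ x0 z + (δ c z + δ y0 z) = (δ c z + δ c z) + (δ x0 z + δ y0 z) by ring,
          CharTwo.add_self_eq_zero, zero_add]
      have := congrFun (h.conj_inj (e1.trans ((hab' ▸ rfl : h.ι (δ a + δ b) = h.ι (δ x0 + δ y0)).trans
        e4.symm))) i0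
      rw [Pi.add_apply, Pi.add_apply, δ_same, δ_ne (Ne.symm hji), δ_ne hne1, δ_ne hne2] at this
      simp at this
    choose φ hφ1 hφ2 using hstar
    let f : Fin (2 * n) → Fin (2 * n) := fun j => if hj : j ∈ S ∧ j ≠ i0 then φ j hj.1 hj.2 else c
    have hf0 : f i0 = c := dif_neg (fun hh => hh.2 rfl)
    have hfj : ∀ j ∈ S, j ≠ i0 → c ≠ f j ∧
        g * h.ι (δ i0 + δ j) * g⁻¹ = h.ι (δ c + δ (f j)) := fun j hj hji => by
      show c ≠ (if hj : j ∈ S ∧ j ≠ i0 then φ j hj.1 hj.2 else c) ∧ _ = h.ι (δ c + δ (if hj : j ∈ S ∧ j ≠ i0 then φ j hj.1 hj.2 else c))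
      rw [dif_pos ⟨hj, hji⟩]
      exact ⟨hφ1 j hj hji, hφ2 j hj hji⟩
    have hedge : ∀ i ∈ S, ∀ j ∈ S, g * h.ι (δ i + δ j) * g⁻¹ = h.ι (δ (f i) + δ (f j)) := by
      intro i hi j hj
      by_cases hii : i = i0
      · by_cases hjj : j = i0
        · rw [hii, hjj]; exact hrefl f i0
        · rw [hii, hf0]; exact (hfj j hj hjj).2
      by_cases hjj : j = i0
      · rw [hjj, hf0, add_comm, (hfj i hi hii).2, add_comm]
      rw [hsum _ _ _ _ _ (hfj i hi hii).2 (hfj j hj hjj).2]
      congr 1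
      funext z
      simp only [Pi.add_apply]
      rw [show δ c z + δ (f i) z + (δ c z + δ (f j) z) = (δ c z + δ c z) + (δ (f i) z + δ (f j) z) by
        ring, CharTwo.add_self_eq_zero, zero_add]
    have hinj : Set.InjOn f S := by
      intro i hi j hj e
      by_contra hij
      have := hedge i hi j hj
      rw [e, vec_add_self, h.ι_zero, mul_inv_eq_one, mul_eq_left, h.ι_eq_one] at this
      exact δ_add_ne_zero hij this
    refine ⟨f, hinj, hedge, fun _ => ?_⟩
    have hfix0 : ∀ j ∈ S, j ≠ i0 → h.IsFix (h.conjE g) c ∧ h.IsFix (h.conjE g) (f j) := by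
      intro j hj hji
      obtain ⟨k, hk, hki, hkj⟩ : ∃ k ∈ S, k ≠ i0 ∧ k ≠ j := by
        by_cases e : j = j0
        · exact ⟨k0, hk0, Ne.symm hne2, e ▸ Ne.symm hne3⟩
        · exact ⟨j0, hj0, Ne.symm hne1, Ne.symm e⟩
      have hjk : f j ≠ f k := fun e => hkj (hinj hj hk e).symm
      rcases h.side_edge_at hW hv0 (Ne.symm hji) (hS i0 hi0 j hj) (hfj j hj hji).1
        (hfj j hj hji).2 with ⟨h1, h2, -⟩ | ⟨r, hr, hrc⟩
      · exact ⟨h1, h2⟩
      · exfalso
        rcases h.side_edge_at hW hv0 (Ne.symm hki) (hS i0 hi0 k hk) (hfj k hk hki).1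
          (hfj k hk hki).2 with ⟨h1, -, -⟩ | ⟨r', hr', hrc'⟩
        · exact (hfj j hj hji).1 ((h1 r hr).symm.trans hrc)
        · refine hjk ?_
          rw [← hrc, ← hrc']
          exact (h.pairing (h.conjE_le_W hW) h.conjE_sq (h.card_conjE g)).1 r r' c hr hr'
            (by rw [hrc]; exact Ne.symm (hfj j hj hji).1) (by rw [hrc']; exact Ne.symm (hfj k hk hki).1)
    intro i hi
    by_cases hii : i = i0
    · rw [hii, hf0]; exact (hfix0 j0 hj0 (Ne.symm hne1)).1
    · exact (hfix0 i hi hii).2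

include hW hv0 in
/-- Both sides have odd size, and their vertices are disjoint. -/
theorem two_sides (h0 : v0 ≠ 0) (h1 : v0 ≠ 1) :
    let S : ZMod 2 → Finset (Fin (2 * n)) := fun e => Finset.univ.filter fun i => v0 i = e
    (∀ e, Odd (S e).card) ∧ ∃ f : ZMod 2 → Fin (2 * n) → Fin (2 * n),
      (∀ e, Set.InjOn (f e) (S e) ∧
        (∀ i ∈ S e, ∀ j ∈ S e, g * h.ι (δ i + δ j) * g⁻¹ = h.ι (δ (f e i) + δ (f e j))) ∧
        (3 ≤ (S e).card → ∀ i ∈ S e, h.IsFix (h.conjE g) (f e i))) ∧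
      ∀ i k, i ∈ S 1 → k ∈ S 0 → 2 ≤ (S 1).card → 2 ≤ (S 0).card → f 1 i ≠ f 0 k := by
  classical
  intro S
  have hmem : ∀ e i, i ∈ S e ↔ v0 i = e := fun e i => by simp [S]
  choose f hf using fun e : ZMod 2 =>
    h.clique hW hv0 (S e) fun i hi j hj => ((hmem e i).1 hi).trans ((hmem e j).1 hj).symm
  have hdisj : ∀ i k, i ∈ S 1 → k ∈ S 0 → 2 ≤ (S 1).card → 2 ≤ (S 0).card → f 1 i ≠ f 0 k := by
    intro i k hi hk hc1 hc0 e
    obtain ⟨j, hj, hji⟩ := Finset.exists_mem_ne (by omega) i (s := S 1)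
    obtain ⟨l, hl, hlk⟩ := Finset.exists_mem_ne (by omega) k (s := S 0)
    have e1 := (hf 1).2.1 i hi j hj
    have e2 := (hf 0).2.1 k hk l hl
    rw [← e] at e2
    have hab : f 1 i ≠ f 1 j := fun e' => hji ((hf 1).1 hi hj e').symm
    have hac : f 1 i ≠ f 0 l := fun e' => hlk ((hf 0).1 hk hl (e.symm.trans e')).symm
    have hne : ∀ x ∈ S 1, ∀ y ∈ S 0, x ≠ y := fun x hx y hy e' => by
      subst e'
      exact zero_ne_one (((hmem 0 x).1 hy).symm.trans ((hmem 1 x).1 hx))
    have hbc : f 1 j ≠ f 0 l := fun e' => by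
      rw [e'] at e1
      have := congrFun (h.conj_inj (e1.trans e2.symm)) i
      rw [Pi.add_apply, Pi.add_apply, δ_same, δ_ne (Ne.symm hji), δ_ne (hne i hi k hk),
        δ_ne (hne i hi l hl)] at this
      simp at this
    rcases h.side_edge_at hW hv0 (Ne.symm hji) (((hmem 1 i).1 hi).trans ((hmem 1 j).1 hj).symm)
      hab e1 with ⟨ha, -, hact⟩ | ⟨r, hr, hrc⟩
    · have := hact _ _ e2
      rw [show (δ k + δ l : Fin (2 * n) → ZMod 2) ∘ ⇑(Equiv.swap i j) = δ k + δ l from funext fun x => by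
        rw [Function.comp_apply]
        by_cases hxi : x = i
        · rw [hxi, Equiv.swap_apply_left, Pi.add_apply, Pi.add_apply, δ_ne (hne j hj k hk),
            δ_ne (hne j hj l hl), δ_ne (hne i hi k hk), δ_ne (hne i hi l hl)]
        by_cases hxj : x = j
        · rw [hxj, Equiv.swap_apply_right, Pi.add_apply, Pi.add_apply, δ_ne (hne j hj k hk),
            δ_ne (hne j hj l hl), δ_ne (hne i hi k hk), δ_ne (hne i hi l hl)]
        rw [Equiv.swap_apply_of_ne_of_ne hxi hxj]] at this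
      have e3 := congrFun (h.ι_inj (e2.symm.trans this)) (f 1 j)
      rw [Function.comp_apply, Equiv.swap_apply_right, Pi.add_apply, Pi.add_apply, δ_same,
        δ_ne (Ne.symm hab), δ_ne hbc, δ_ne hac] at e3
      simp at e3
    · rcases h.side_edge_at hW hv0 (Ne.symm hlk) (((hmem 0 k).1 hk).trans ((hmem 0 l).1 hl).symm)
        hac e2 with ⟨ha, -, -⟩ | ⟨r', hr', hrc'⟩
      · exact hab ((ha r hr).symm.trans hrc)
      · refine hbc ?_
        rw [← hrc, ← hrc']
        exact (h.pairing (h.conjE_le_W hW) h.conjE_sq (h.card_conjE g)).1 r r' (f 1 i) hr hr'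
          (by rw [hrc]; exact Ne.symm hab) (by rw [hrc']; exact Ne.symm hac)
  have hsum : ∀ e (T : Finset (Fin (2 * n))), T ⊆ S e → Even T.card →
      g * h.ι (∑ j ∈ T, δ j) * g⁻¹ = h.ι (∑ j ∈ T, δ (f e j)) := by
    intro e T hT hev
    by_cases hTe : T = ∅
    · subst hTe; rw [Finset.sum_empty, Finset.sum_empty, h.ι_zero, mul_one, mul_inv_cancel]
    obtain ⟨i0, hi0⟩ := Finset.nonempty_iff_ne_empty.2 hTe
    have key : ∀ U : Finset (Fin (2 * n)), U ⊆ T →
        g * h.ι (∑ j ∈ U, (δ i0 + δ j)) * g⁻¹ = h.ι (∑ j ∈ U, (δ (f e i0) + δ (f e j))) := by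
      intro U
      induction U using Finset.induction_on with
      | empty => intro _; rw [Finset.sum_empty, Finset.sum_empty, h.ι_zero, mul_one, mul_inv_cancel]
      | insert x U hx ih =>
        intro hU
        rw [Finset.sum_insert hx, Finset.sum_insert hx, h.conj_add, h.ι_add (δ (f e i0) + δ (f e x)),
          ih ((Finset.subset_insert x U).trans hU),
          (hf e).2.1 i0 (hT hi0) x (hT (hU (Finset.mem_insert_self x U)))]
    have e1 := key T (Finset.Subset.refl T)
    have hz : ∀ u : Fin (2 * n) → ZMod 2, T.card • u = 0 := fun u => by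
      obtain ⟨m, hm⟩ := hev
      rw [hm, add_nsmul]
      exact vec_add_self _
    rwa [Finset.sum_add_distrib, Finset.sum_add_distrib, Finset.sum_const, Finset.sum_const, hz, hz,
      zero_add, zero_add] at e1
  have hpart : (S 1).card + (S 0).card = 2 * n := by
    have := Finset.card_filter_add_card_filter_not (s := (Finset.univ : Finset (Fin (2 * n))))
      (fun i => v0 i = 1)
    rw [Finset.card_univ, Fintype.card_fin] at this
    refine Eq.trans ?_ this
    congr 1
    refine congrArg Finset.card (Finset.filter_congr fun i _ => ?_)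
    exact zmod_two_zero_iff _
  refine ⟨fun e => ?_, f, hf, hdisj⟩
  have hodd1 : Odd (S 1).card := by
    by_contra hev
    rw [Nat.not_odd_iff_even] at hev
    obtain ⟨k, hk⟩ : ∃ k, v0 k = 0 := by
      by_contra hno
      push Not at hno
      exact h1 (funext fun i => Fin.eq_one_of_ne_zero _ (hno i))
    obtain ⟨i, hi⟩ : ∃ i, v0 i ≠ 0 := by
      by_contra hno
      push Not at hno
      exact h0 (funext hno)
    have hi1 : i ∈ S 1 := (hmem 1 i).2 (Fin.eq_one_of_ne_zero _ hi)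
    have hk0 : k ∈ S 0 := (hmem 0 k).2 hk
    have hc1 : 2 ≤ (S 1).card := by
      obtain ⟨m, hm⟩ := hev
      have := Finset.card_pos.2 ⟨i, hi1⟩
      omega
    have hc0 : 2 ≤ (S 0).card := by
      obtain ⟨m, hm⟩ := hev
      have := Finset.card_pos.2 ⟨k, hk0⟩
      omega
    have e1 := hsum 1 (S 1) (Finset.Subset.refl _) hev
    have hv : ∑ j ∈ S 1, (δ j : Fin (2 * n) → ZMod 2) = v0 := by
      funext x
      rw [Finset.sum_apply]
      by_cases hx : v0 x = 1
      · rw [Finset.sum_eq_single x (fun y _ hy => δ_ne (Ne.symm hy)) (fun hn' => absurd ((hmem 1 x).2 hx) hn'),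
          δ_same, hx]
      · rw [Finset.sum_eq_zero fun y hy => δ_ne (fun e' => hx (by rw [e']; exact (hmem 1 y).1 hy))]
        have : ∀ a : ZMod 2, ¬ a = 1 → 0 = a := by decide
        exact this _ hx
    rw [hv, hv0, ← h.t_eq] at e1
    have := congrFun (h.ι_inj e1) (f 0 k)
    rw [Finset.sum_apply, Finset.sum_eq_zero fun y hy => δ_ne (Ne.symm (hdisj y k hy hk0 hc1 hc0))]
      at this
    exact one_ne_zero this
  have : ∀ a : ZMod 2, a = 1 ∨ a = 0 := by decide
  rcases this e with rfl | rfl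
  · exact hodd1
  · obtain ⟨m, hm⟩ := hodd1
    exact ⟨n - m - 1, by omega⟩

/-- A conjugate of the base inside `W` is the base. -/
theorem weakly_closed {g : G} (hW : ∀ u, g * h.ι u * g⁻¹ ∈ h.W) (u : Fin (2 * n) → ZMod 2) :
    g * h.ι u * g⁻¹ ∈ h.E := by
  classical
  haveI : Fact (Nat.Prime 2) := ⟨Nat.prime_two⟩
  -- a conjugate of `t` goes to `t`
  have hx : g⁻¹ * h.t * g ∈ h.C := by
    rw [h.mem_C, ← h.t_eq]
    have := h.mem_C.1 (h.W_le_C (hW 1))
    rw [← h.t_eq] at this
    have e := congrArg (fun x => g⁻¹ * x * g) this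
    simp only [mul_assoc, inv_mul_cancel_left, inv_mul_cancel, mul_one] at e
    simp only [mul_assoc]
    exact e.symm
  obtain ⟨v0, hv0'⟩ : ∃ v0, h.ι v0 = g⁻¹ * h.t * g := by
    obtain ⟨o, ho, w, hw, he⟩ := h.exists_decomp hx
    obtain ⟨v, p, rfl⟩ := hw
    have hcomm : ∀ a, g⁻¹ * h.t * g * h.ι a = h.ι a * (g⁻¹ * h.t * g) := fun a => by
      have e := congrArg (fun x => g⁻¹ * x * g) (h.mem_C.1 (h.W_le_C (hW a)))
      simp only [mul_assoc, inv_mul_cancel_left, inv_mul_cancel, mul_one] at e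
      simp only [mul_assoc]
      exact e.symm
    have hp : p = 1 := by
      refine Equiv.ext fun i => ?_
      have e := hcomm (δ i)
      have e1 : (⟨g⁻¹ * h.t * g, hx⟩ : h.C) * ⟨h.ι (δ i), h.ι_mem_C _⟩ =
          ⟨h.ι (δ i), h.ι_mem_C _⟩ * ⟨g⁻¹ * h.t * g, hx⟩ := Subtype.ext e
      have e2 := congrArg h.Θ e1
      rw [map_mul, map_mul, h.Θ_eq ho (h.mk_mem_W v p) he, h.Θ_of_mem (h.ι_mem_W _),
        ← mul_inv_eq_iff_eq_mul, h.conj_ι, δ_comp] at e2
      by_contra hne
      rw [Equiv.Perm.one_apply] at hne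
      have := congrFun (h.ι_inj e2) i
      rw [δ_same, δ_ne (Ne.symm hne)] at this
      exact zero_ne_one this
    subst hp
    rw [map_one, mul_one] at he
    have hc := hcomm v
    rw [he, mul_assoc, h.ι_mul_self, mul_one] at hc
    have hsq : (g⁻¹ * h.t * g) * (g⁻¹ * h.t * g) = 1 := by
      rw [show g⁻¹ * h.t * g * (g⁻¹ * h.t * g) = g⁻¹ * (h.t * h.t) * g by group, ← h.t_eq,
        h.ι_mul_self, mul_one, inv_mul_cancel]
    have hoι : o * h.ι v = h.ι v * o := by
      have e := congrArg (fun x => x * h.ι v) hc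
      simp only [mul_assoc, h.ι_mul_self, mul_one] at e
      exact e
    rw [he, show o * h.ι v * (o * h.ι v) = o * (h.ι v * o) * h.ι v by group, ← hoι,
      show o * (o * h.ι v) * h.ι v = o * o * (h.ι v * h.ι v) by group, h.ι_mul_self, mul_one] at hsq
    have := h.eq_one_of_pow_two ho (k := 1) (by rw [pow_one, sq]; exact hsq)
    exact ⟨v, by rw [he, this, one_mul]⟩
  have hv0 : g * h.ι v0 * g⁻¹ = h.t := by rw [hv0']; group
  by_cases h1 : v0 = 1
  · -- `g` centralises `t`
    subst h1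
    rw [h.t_eq] at hv0
    have hgC : g ∈ h.C := h.mem_C.2 (mul_inv_eq_iff_eq_mul.1 hv0)
    obtain ⟨w, p, hwp⟩ := h.mem_W.1 (h.Θ_mem ⟨g, hgC⟩)
    rw [h.conj_eq_Θ hgC (h.ι_mem_W u) (hW u), ← hwp, h.conj_ι]
    exact h.ι_mem_E _
  have h0 : v0 ≠ 0 := fun e => by
    rw [e, h.ι_zero, mul_one, mul_inv_cancel, ← h.t_eq] at hv0
    have := congrFun (h.ι_eq_one.1 hv0.symm) ⟨0, by have := h.one_le; omega⟩
    exact one_ne_zero this
  rcases Nat.lt_or_ge n 2 with hn | hn
  · -- degree two: `W` is a Sylow subgroup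
    have hn1 : n = 1 := by have := h.one_le; omega
    subst hn1
    have hWcard : Nat.card h.W = 8 := by
      let f : (Fin (2 * 1) → ZMod 2) × Equiv.Perm (Fin (2 * 1)) → h.W := fun z => ⟨_, h.mk_mem_W z.1 z.2⟩
      have hf : Function.Bijective f := ⟨fun a b e => by
        obtain ⟨e1, e2⟩ := h.uniq (congrArg Subtype.val e)
        exact Prod.ext e1 e2, fun x => by
        obtain ⟨v, p, e⟩ := x.2
        exact ⟨(v, p), Subtype.ext e⟩⟩
      rw [← Nat.card_eq_of_bijective f hf, Nat.card_prod, Nat.card_pi, Finset.prod_const,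
        Nat.card_zmod, Finset.card_univ, Fintype.card_fin, Nat.card_perm, Nat.card_fin]
      rfl
    have hWp : IsPGroup 2 h.W := IsPGroup.of_card (n := 3) hWcard
    obtain ⟨P, hP1, hP2⟩ := h.exists_sylow_le_W hWp le_rfl
    have hPW : (P : Subgroup G) = h.W := le_antisymm hP2 hP1
    set A := h.conjE g with hA
    have hAW : A ≤ h.W := h.conjE_le_W hW
    have hnorm : ∀ B : Subgroup G, B ≤ h.W → Nat.card B = 4 → h.W ≤ normalizer (B : Set G) := by
      intro B hB hB4
      have e := (B.subgroupOf h.W).index_mul_card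
      rw [Nat.card_congr (subgroupOfEquivOfLe hB).toEquiv, hB4, hWcard] at e
      haveI : (B.subgroupOf h.W).Normal :=
        Subgroup.normal_of_index_eq_two (show (B.subgroupOf h.W).index = 2 by omega)
      exact Subgroup.le_normalizer_of_normal_subgroupOf hB
    have h4E : Nat.card h.E = 4 := by rw [h.card_E]; rfl
    have h4A : Nat.card A = 4 := by rw [hA, h.card_conjE]; rfl
    -- both Sylow subgroups normalise `A`
    obtain ⟨R1, hR1⟩ : ∃ R : Sylow 2 (normalizer (A : Set G)),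
        h.W.subgroupOf (normalizer (A : Set G)) ≤ R := (hWp.comap_subtype).exists_le_sylow
    have hgW : ∀ x ∈ h.W, g * x * g⁻¹ ∈ normalizer (A : Set G) := by
      intro x hx
      refine mem_normalizer_fintype fun a ha => ?_
      obtain ⟨s, rfl⟩ := h.mem_conjE.1 ha
      obtain ⟨s', hs'⟩ := (mem_normalizer_iff.1 (hnorm h.E h.E_le_W h4E hx) (h.ι s)).1 (h.ι_mem_E s)
      refine h.mem_conjE.2 ⟨s', ?_⟩
      rw [hs']
      group
    set Wg := h.W.map (MulAut.conj g).toMonoidHom with hWg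
    have hWgN : Wg ≤ normalizer (A : Set G) := by rintro _ ⟨x, hx, rfl⟩; exact hgW x hx
    obtain ⟨R2, hR2⟩ : ∃ R : Sylow 2 (normalizer (A : Set G)),
        Wg.subgroupOf (normalizer (A : Set G)) ≤ R := ((hWp.map _).comap_subtype).exists_le_sylow
    have hWA : h.W ≤ normalizer (A : Set G) := hnorm A hAW h4A
    have hfull : ∀ (R : Sylow 2 (normalizer (A : Set G))) (Q : Subgroup G),
        Q ≤ normalizer (A : Set G) → Nat.card Q = 8 → Q.subgroupOf (normalizer (A : Set G)) ≤ R →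
        Q.subgroupOf (normalizer (A : Set G)) = R := by
      intro R Q hQ hQ8 hle
      refine Subgroup.eq_of_le_of_card_ge hle ?_
      rw [Nat.card_congr (subgroupOfEquivOfLe hQ).toEquiv, hQ8, ← hWcard, ← hPW, P.card_eq_multiplicity,
        R.card_eq_multiplicity]
      exact Nat.pow_le_pow_right two_pos ((Nat.factorization_le_iff_dvd Nat.card_pos.ne'
        Nat.card_pos.ne').2 (Subgroup.card_subgroup_dvd_card _) 2)
    have e1 := hfull R1 h.W hWA hWcard hR1
    have e2 := hfull R2 Wg hWgN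
      (by rw [hWg, Subgroup.card_map_of_injective (show Function.Injective
        (MulAut.conj g).toMonoidHom from (MulAut.conj g).injective), hWcard]) hR2
    obtain ⟨k, hk⟩ := MulAction.exists_smul_eq (normalizer (A : Set G)) R2 R1
    have hkW : ∀ x ∈ h.W, (k : G) * g * x * ((k : G) * g)⁻¹ ∈ h.W := by
      intro x hx
      have hm : k * ⟨g * x * g⁻¹, hgW x hx⟩ * k⁻¹ ∈ (R1 : Subgroup (normalizer (A : Set G))) := by
        rw [← hk]
        exact Subgroup.smul_mem_pointwise_smul _ (MulAut.conj k) _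
          (e2 ▸ mem_subgroupOf.2 ⟨x, hx, rfl⟩)
      rw [← e1] at hm
      have := mem_subgroupOf.1 hm
      rw [show (k : G) * g * x * ((k : G) * g)⁻¹ = (k : G) * (g * x * g⁻¹) * (k : G)⁻¹ by group]
      exact this
    -- the centre of `W` is generated by `t`
    have hcentre : ∀ x ∈ h.W, (∀ y ∈ h.W, x * y = y * x) → x = 1 ∨ x = h.t := by
      intro x hx hxc
      obtain ⟨v, p, rfl⟩ := hx
      have hp : p = 1 := Equiv.ext fun i => by
        have e := hxc _ (h.ι_mem_W (δ i))
        rw [← mul_inv_eq_iff_eq_mul, h.conj_ι, δ_comp] at e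
        by_contra hne
        rw [Equiv.Perm.one_apply] at hne
        have := congrFun (h.ι_inj e) i
        rw [δ_same, δ_ne (Ne.symm hne)] at this
        exact zero_ne_one this
      subst hp
      rw [map_one, mul_one] at hxc ⊢
      have hconst : ∀ i j, v i = v j := fun i j => by
        have e := hxc _ (h.σ_mem_W (Equiv.swap i j))
        rw [h.conj, Equiv.swap_inv] at e
        have := congrFun (h.uniq e).1 i
        rwa [Function.comp_apply, Equiv.swap_apply_left] at this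
      rcases zmod_two_cases (v 0) with e | e
      · left; rw [show v = 0 from funext fun i => (hconst i 0).trans e, h.ι_zero]
      · right; rw [show v = 1 from funext fun i => (hconst i 0).trans e, h.t_eq]
    have hkt : (k : G) * g * h.t * ((k : G) * g)⁻¹ = h.t := by
      have htW : h.t ∈ h.W := h.t_eq ▸ h.ι_mem_W 1
      -- conjugation by `k g` permutes `W`
      have hsurj : ∀ y ∈ h.W, ∃ x ∈ h.W, (k : G) * g * x * ((k : G) * g)⁻¹ = y := by
        intro y hy
        have hle : h.W.map (MulAut.conj ((k : G) * g)).toMonoidHom ≤ h.W := by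
          rintro _ ⟨x, hx, rfl⟩; exact hkW x hx
        have heq := Subgroup.eq_of_le_of_card_ge hle (by
          rw [Subgroup.card_map_of_injective (show Function.Injective
            (MulAut.conj ((k : G) * g)).toMonoidHom from (MulAut.conj _).injective)])
        rw [← heq] at hy
        exact hy
      rcases hcentre _ (hkW _ htW) (fun y hy => by
        obtain ⟨x, hx, rfl⟩ := hsurj y hy
        have := h.mem_C.1 (h.W_le_C hx)
        calc (k : G) * g * h.t * ((k : G) * g)⁻¹ * ((k : G) * g * x * ((k : G) * g)⁻¹)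
            = (k : G) * g * (h.t * x) * ((k : G) * g)⁻¹ := by group
          _ = (k : G) * g * (x * h.t) * ((k : G) * g)⁻¹ := by rw [this]
          _ = _ := by group) with e | e
      · rw [mul_inv_eq_one, mul_eq_left, ← h.t_eq, h.ι_eq_one] at e
        exact absurd (congrFun e 0) one_ne_zero
      · exact e
    have hgC : (k : G) * g ∈ h.C := h.mem_C.2 (mul_inv_eq_iff_eq_mul.1 hkt)
    obtain ⟨w, p, hwp⟩ := h.mem_W.1 (h.Θ_mem ⟨_, hgC⟩)
    have hAE : A ≤ h.E := by
      intro a ha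
      -- `A = k A k⁻¹`
      have hk' : (k : G)⁻¹ * a * (k : G) ∈ A := by
        have := (mem_normalizer_iff.1 (inv_mem k.2) a).1 ha
        rwa [inv_inv] at this
      obtain ⟨s, hs⟩ := h.mem_conjE.1 hk'
      have e : (k : G) * g * h.ι s * ((k : G) * g)⁻¹ = a := by
        rw [show (k : G) * g * h.ι s * ((k : G) * g)⁻¹ = (k : G) * (g * h.ι s * g⁻¹) * (k : G)⁻¹ by
          group, hs]
        group
      rw [← e, h.conj_eq_Θ hgC (h.ι_mem_W s) (e.symm ▸ hAW ha), ← hwp, h.conj_ι]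
      exact h.ι_mem_E _
    exact hAE (h.mem_conjE.2 ⟨u, rfl⟩)
  · -- larger degree: all the points are fixed
    obtain ⟨hodd, f, hf, hdisj⟩ := h.two_sides hW hv0 h0 h1
    obtain ⟨htwo, -, -⟩ := h.pairing (h.conjE_le_W hW) h.conjE_sq (h.card_conjE g)
    set S : ZMod 2 → Finset (Fin (2 * n)) := fun e => Finset.univ.filter fun i => v0 i = e with hS
    have hpart : (S 1).card + (S 0).card = 2 * n := by
      have := Finset.card_filter_add_card_filter_not (s := (Finset.univ : Finset (Fin (2 * n))))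
        (fun i => v0 i = 1)
      rw [Finset.card_univ, Fintype.card_fin] at this
      refine Eq.trans ?_ this
      congr 1
      refine congrArg Finset.card (Finset.filter_congr fun i _ => ?_)
      exact zmod_two_zero_iff _
    set X : Finset (Fin (2 * n)) := Finset.univ.filter fun a => h.IsFix (h.conjE g) a with hX
    have hXbig : 2 * n ≤ X.card + 1 := by
      obtain ⟨m1, hm1⟩ := hodd 1
      obtain ⟨m0, hm0⟩ := hodd 0
      have hsub : ∀ e, 3 ≤ (S e).card → (S e).image (f e) ⊆ X := fun e he a ha => by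
        obtain ⟨i, hi, rfl⟩ := Finset.mem_image.1 ha
        exact Finset.mem_filter.2 ⟨Finset.mem_univ _, (hf e).2.2 he i hi⟩
      have hcard : ∀ e, ((S e).image (f e)).card = (S e).card := fun e =>
        Finset.card_image_of_injOn (hf e).1
      rcases Nat.lt_or_ge (S 1).card 3 with h1s | h1b
      · have := Finset.card_le_card (hsub 0 (by omega))
        rw [hcard] at this
        omega
      rcases Nat.lt_or_ge (S 0).card 3 with h0s | h0b
      · have := Finset.card_le_card (hsub 1 h1b)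
        rw [hcard] at this
        omega
      have := Finset.card_le_card (Finset.union_subset (hsub 1 h1b) (hsub 0 h0b))
      rw [Finset.card_union_of_disjoint, hcard, hcard] at this
      · omega
      · rw [Finset.disjoint_left]
        intro a ha ha'
        obtain ⟨i, hi, rfl⟩ := Finset.mem_image.1 ha
        obtain ⟨k, hk, e⟩ := Finset.mem_image.1 ha'
        exact hdisj i k hi hk (by omega) (by omega) e.symm
    have hall : ∀ r ∈ h.perms (h.conjE g), r = 1 := by
      intro r hr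
      refine Equiv.ext fun a => ?_
      by_contra hra
      rw [Equiv.Perm.one_apply] at hra
      have hraa : r (r a) ≠ r a := fun e => hra (r.injective e)
      have h2 : ({a, r a} : Finset (Fin (2 * n))) ⊆ Xᶜ := by
        intro x hx
        simp only [Finset.mem_insert, Finset.mem_singleton] at hx
        simp only [X, Finset.mem_compl, Finset.mem_filter, Finset.mem_univ, true_and]
        intro hfix
        rcases hx with rfl | rfl
        · exact hra (hfix r hr)
        · exact hraa (hfix r hr)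
      have := Finset.card_le_card h2
      rw [Finset.card_pair (Ne.symm hra), Finset.card_compl, Fintype.card_fin] at this
      omega
    obtain ⟨v, p, e⟩ := h.mem_W.1 (hW u)
    have hp := hall p ⟨v, e ▸ h.mem_conjE.2 ⟨u, rfl⟩⟩
    subst hp
    rw [map_one, mul_one] at e
    exact ⟨v, e⟩

/-- The normaliser of the base controls the fusion in it. -/
theorem conj_in_normalizer {u v : Fin (2 * n) → ZMod 2} {g : G} (e : g * h.ι u * g⁻¹ = h.ι v) :
    ∃ k : G, (∀ s, k * h.ι s * k⁻¹ ∈ h.E) ∧ k * h.ι u * k⁻¹ = h.ι v := by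
  classical
  haveI : Fact (Nat.Prime 2) := ⟨Nat.prime_two⟩
  set D := centralizer ({h.ι v} : Set G) with hD
  have hED : h.E ≤ D := by
    rintro _ ⟨s, rfl⟩
    exact mem_centralizer_singleton_iff.2 (h.ι_comm s v).eq
  have hgED : h.conjE g ≤ D := by
    intro x hx
    obtain ⟨s, rfl⟩ := h.mem_conjE.1 hx
    rw [hD, mem_centralizer_singleton_iff, ← e]
    have := (h.ι_comm s u).eq
    calc g * h.ι s * g⁻¹ * (g * h.ι u * g⁻¹) = g * (h.ι s * h.ι u) * g⁻¹ := by group
      _ = g * (h.ι u * h.ι s) * g⁻¹ := by rw [this]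
      _ = _ := by group
  have hEp : IsPGroup 2 h.E := IsPGroup.of_card (n := 2 * n) h.card_E
  obtain ⟨Q1, hQ1⟩ := (hEp.comap_subtype (K := D)).exists_le_sylow
  obtain ⟨Q2, hQ2⟩ := ((IsPGroup.of_card (n := 2 * n) (h.card_conjE g)).comap_subtype
    (K := D)).exists_le_sylow
  obtain ⟨d, hd⟩ := MulAction.exists_smul_eq D Q2 Q1
  -- a Sylow subgroup inside `W`
  obtain ⟨P, hPE, hPW⟩ := h.exists_sylow_le_W hEp h.E_le_W
  obtain ⟨Q, hQ⟩ := (Q1.2.map D.subtype).exists_le_sylow
  obtain ⟨x, hx⟩ := MulAction.exists_smul_eq G Q P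
  have hin : ∀ y : D, y ∈ (Q1 : Subgroup D) → x * (y : G) * x⁻¹ ∈ h.W := fun y hy => hPW (by
    rw [← hx]
    exact Subgroup.smul_mem_pointwise_smul _ (MulAut.conj x) _ (hQ (mem_map_of_mem D.subtype hy)))
  have h1 : ∀ s, x * h.ι s * x⁻¹ ∈ h.W := fun s =>
    hin ⟨_, hED (h.ι_mem_E s)⟩ (hQ1 (mem_subgroupOf.2 (h.ι_mem_E s)))
  have h2 : ∀ s, x * d * g * h.ι s * (x * d * g)⁻¹ ∈ h.W := fun s => by
    have hm : d * ⟨g * h.ι s * g⁻¹, hgED (h.mem_conjE.2 ⟨s, rfl⟩)⟩ * d⁻¹ ∈ (Q1 : Subgroup D) := by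
      rw [← hd]
      exact Subgroup.smul_mem_pointwise_smul _ (MulAut.conj d) _
        (hQ2 (mem_subgroupOf.2 (h.mem_conjE.2 ⟨s, rfl⟩)))
    have := hin _ hm
    rw [show x * (d : G) * g * h.ι s * (x * (d : G) * g)⁻¹ =
      x * ((d : G) * (g * h.ι s * g⁻¹) * (d : G)⁻¹) * x⁻¹ by group]
    exact this
  refine ⟨(d : G) * g, fun s => ?_, ?_⟩
  · have e1 := h.weakly_closed h2 s
    -- `x` normalises the base
    have hxE : h.conjE x = h.E := by
      refine Subgroup.eq_of_le_of_card_ge (fun y hy => ?_) (by rw [h.card_E, h.card_conjE])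
      obtain ⟨t', rfl⟩ := h.mem_conjE.1 hy
      exact h.weakly_closed h1 t'
    rw [← hxE] at e1
    obtain ⟨s', hs'⟩ := h.mem_conjE.1 e1
    refine ⟨s', ?_⟩
    rw [show x * (d : G) * g * h.ι s * (x * (d : G) * g)⁻¹ =
      x * ((d : G) * g * h.ι s * ((d : G) * g)⁻¹) * x⁻¹ by group] at hs'
    exact mul_left_cancel (mul_right_cancel hs')
  · have hdv := mem_centralizer_singleton_iff.1 d.2
    rw [show (d : G) * g * h.ι u * ((d : G) * g)⁻¹ = (d : G) * (g * h.ι u * g⁻¹) * (d : G)⁻¹ by group,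
      e, hdv, mul_inv_cancel_right]

end Hyp

end Cfsg.Agent.AltCent
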